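import Groth.Prelude.Def_GmPts
import Groth.Agent.Lib.DiagGrp.CharProps
import Groth.Agent.Lib.DiagGrp.CharHom

/-!
Points of a diagonalisable group on an arbitrary scheme are characters with values in global functions.
-/

set_option autoImplicit false
set_option backward.isDefEq.respectTransparency false
set_option backward.isDefEq.respectTransparency.types false

universe u

open CategoryTheory CategoryTheory.Limits MonoidalCategory CartesianMonoidalCategory MonObj AlgebraicGeometry Opposite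

namespace GrothLib.Torsor21

attribute [-instance] ULift.module

noncomputable section

variable {S : Scheme.{u}} {T : Over S} {M N : Type} [AddCommGroup M] [AddCommGroup N]

abbrev DSRing (M : Type) [AddCommGroup M] : Type u := MonoidAlgebra (ULift.{u} ℤ) (Multiplicative M)

/-- The ring map classified by a point of `D_S(M)`. -/
def dsRingHom (x : T ⟶ Red.DS S M) : DSRing.{u} M →+* Γ(T.left, ⊤) :=
  ((Scheme.ΓSpecIso (CommRingCat.of (DSRing.{u} M))).inv ≫
    (x.left ≫ pullback.fst (Red.diag (ULift.{u} ℤ) M).hom (GmPts.toBaseZ S)).appTop).hom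

/-- The character of a point of `D_S(M)`. -/
def dsFn (x : T ⟶ Red.DS S M) : Multiplicative M →* Γ(T.left, ⊤) :=
  (dsRingHom x : DSRing.{u} M →* Γ(T.left, ⊤)).comp (MonoidAlgebra.of (ULift.{u} ℤ) (Multiplicative M))

theorem dsFn_injective {x y : T ⟶ Red.DS S M} (h : dsFn x = dsFn y) : x = y := by
  ext1
  apply pullback.hom_ext
  · apply (ΓSpec.adjunction.homEquiv T.left (op (CommRingCat.of (DSRing.{u} M)))).symm.injective
    rw [Adjunction.homEquiv_counit, Adjunction.homEquiv_counit, ΓSpec.adjunction_counit_app]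
    apply Quiver.Hom.unop_inj
    apply CommRingCat.hom_ext
    refine MonoidAlgebra.ringHom_ext (fun r => ?_) fun m => DFunLike.congr_fun h m
    exact RingHom.congr_fun (DiagGrp.ulift_int_hom_ext
      ((dsRingHom x).comp MonoidAlgebra.singleOneRingHom) ((dsRingHom y).comp MonoidAlgebra.singleOneRingHom)) r
  · exact (Over.w x).trans (Over.w y).symm

/-- The point of a character. -/
def dsPtOfChar (χ : Multiplicative M →* Γ(T.left, ⊤)) : T ⟶ Red.DS S M :=
  letI : Algebra (ULift.{u} ℤ) Γ(T.left, ⊤) := ULift.algebra' ℤ _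
  Over.homMk (pullback.lift (ΓSpec.adjunction.homEquiv T.left (op (CommRingCat.of (DSRing.{u} M)))
    (CommRingCat.ofHom (MonoidAlgebra.lift (ULift.{u} ℤ) Γ(T.left, ⊤) (Multiplicative M) χ).toRingHom).op)
    T.hom (specULiftZIsTerminal.hom_ext _ _)) (pullback.lift_snd _ _ _)

theorem dsFn_dsPtOfChar (χ : Multiplicative M →* Γ(T.left, ⊤)) :
    dsFn (dsPtOfChar χ : T ⟶ Red.DS S M) = χ := by
  letI : Algebra (ULift.{u} ℤ) Γ(T.left, ⊤) := ULift.algebra' ℤ _
  have h : (dsPtOfChar χ : T ⟶ Red.DS S M).left ≫ pullback.fst (Red.diag (ULift.{u} ℤ) M).hom (GmPts.toBaseZ S) =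
      ΓSpec.adjunction.homEquiv T.left (op (CommRingCat.of (DSRing.{u} M)))
        (CommRingCat.ofHom (MonoidAlgebra.lift (ULift.{u} ℤ) Γ(T.left, ⊤) (Multiplicative M) χ).toRingHom).op :=
    pullback.lift_fst _ _ _
  ext m
  rw [dsFn, dsRingHom, h, ΓSpecIso_inv_ΓSpec_adjunction_homEquiv]
  exact MonoidAlgebra.lift_of χ m

theorem dsFn_comp_DSmap (x : T ⟶ Red.DS S M) (φ : N →+ M) :
    dsFn (x ≫ Red.DSmap S φ) = (dsFn x).comp (AddMonoidHom.toMultiplicative φ) := by
  refine MonoidHom.ext fun n => ?_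
  have h0 : (Red.DSmap S φ).left ≫ pullback.fst (Red.diag (ULift.{u} ℤ) N).hom (GmPts.toBaseZ S) =
      pullback.fst (Red.diag (ULift.{u} ℤ) M).hom (GmPts.toBaseZ S) ≫
        (Red.diagMap (ULift.{u} ℤ) φ).left := GmPts.pullback_map_left_fst _
  have h1 : (x ≫ Red.DSmap S φ).left ≫ pullback.fst (Red.diag (ULift.{u} ℤ) N).hom (GmPts.toBaseZ S) =
      (x.left ≫ pullback.fst (Red.diag (ULift.{u} ℤ) M).hom (GmPts.toBaseZ S)) ≫
        (Red.diagMap (ULift.{u} ℤ) φ).left := by
    rw [Over.comp_left, Category.assoc, Category.assoc]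
    exact x.left ≫= h0
  change ((x ≫ Red.DSmap S φ).left ≫ pullback.fst (Red.diag (ULift.{u} ℤ) N).hom (GmPts.toBaseZ S)).appTop
      ((Scheme.ΓSpecIso (CommRingCat.of (DSRing.{u} N))).inv (MonoidAlgebra.of (ULift.{u} ℤ) _ n)) = _
  rw [h1]
  refine (GmPts.appTop_comp_apply _ _ _).trans ?_
  change (x.left ≫ pullback.fst (Red.diag (ULift.{u} ℤ) M).hom (GmPts.toBaseZ S)).appTop
      ((Spec.map (CommRingCat.ofHom (MonoidAlgebra.mapDomainAlgHom (ULift.{u} ℤ) (ULift.{u} ℤ)
        (AddMonoidHom.toMultiplicative φ)).toRingHom)).appTop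
        ((Scheme.ΓSpecIso (CommRingCat.of (DSRing.{u} N))).inv (MonoidAlgebra.of (ULift.{u} ℤ) _ n))) = _
  have h2 := congrArg (fun ψ => (ConcreteCategory.hom ψ) (MonoidAlgebra.of (ULift.{u} ℤ) _ n))
    (Scheme.ΓSpecIso_inv_naturality (CommRingCat.ofHom (MonoidAlgebra.mapDomainAlgHom (ULift.{u} ℤ) (ULift.{u} ℤ)
        (AddMonoidHom.toMultiplicative φ)).toRingHom))
  refine (congrArg _ h2.symm).trans ?_
  change dsRingHom x (MonoidAlgebra.mapDomainAlgHom (ULift.{u} ℤ) (ULift.{u} ℤ)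
        (AddMonoidHom.toMultiplicative φ) (MonoidAlgebra.of (ULift.{u} ℤ) _ n)) = _
  simp [dsFn, MonoidAlgebra.of_apply]

theorem DSmap_comp {L : Type} [AddCommGroup L] (φ : N →+ M) (ψ : L →+ N) :
    Red.DSmap S φ ≫ Red.DSmap S ψ = Red.DSmap S (φ.comp ψ) := by
  apply dsFn_injective
  rw [dsFn_comp_DSmap, ← Category.id_comp (Red.DSmap S φ), dsFn_comp_DSmap,
    ← Category.id_comp (Red.DSmap S (φ.comp ψ)), dsFn_comp_DSmap]
  rfl

theorem DSmap_zero : Red.DSmap S (0 : N →+ M) = 1 := by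
  have hid : Red.DSmap S (0 : N →+ M) =
      Red.DSmap S (0 : PUnit.{1} →+ M) ≫ Red.DSmap S (0 : N →+ PUnit.{1}) := by
    rw [DSmap_comp]
    congr 1
  have h1 : Red.DSmap S (0 : PUnit.{1} →+ M) = 1 := by
    apply dsFn_injective
    refine MonoidHom.ext fun x => ?_
    rw [Subsingleton.elim x 1, map_one, map_one]
  haveI : IsMonHom (Red.DSmap S (0 : N →+ PUnit.{1})) := DiagGrp.isMonHom_DSmap S _
  rw [hid, h1]
  exact MonObj.one_comp _

/-- Kernel of the map induced by an injective-on-points quotient. -/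
theorem existsUnique_lift_of_surjective {n : ℕ} (t : T ⟶ Red.Gm S) (h : t ≫ Red.chi S (n : ℤ) = 1) :
    ∃! z : T ⟶ Red.DS S (ZMod n), z ≫ Red.DSmap S (Int.castAddHom (ZMod n)) = t := by
  refine existsUnique_of_exists_of_unique ?_ fun z z' hz hz' => dsFn_injective ?_
  · have hn : dsFn t (Multiplicative.ofAdd (n : ℤ)) = 1 := by
      have h2 : t ≫ Red.chi S (n : ℤ) = t ≫ Red.DSmap S (0 : ℤ →+ ℤ) := by
        rw [h, DSmap_zero, MonObj.comp_one]
      have h3 := congrArg (fun f => dsFn f (Multiplicative.ofAdd (1 : ℤ))) h2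
      simp only [Red.chi, dsFn_comp_DSmap] at h3
      simpa using h3
    let f : ℤ →+ Additive (Γ(T.left, ⊤))ˣ := MonoidHom.toAdditiveRight (dsFn t).toHomUnits
    have hf : f n = 0 := by
      apply Additive.toMul.injective
      exact Units.ext hn
    let g : ZMod n →+ Additive (Γ(T.left, ⊤))ˣ := ZMod.lift n ⟨f, hf⟩
    refine ⟨dsPtOfChar ((Units.coeHom _).comp (AddMonoidHom.toMultiplicativeLeft g)), dsFn_injective ?_⟩
    rw [dsFn_comp_DSmap, dsFn_dsPtOfChar]
    refine MonoidHom.ext fun k => ?_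
    change ((g (k.toAdd : ZMod n)).toMul : Γ(T.left, ⊤)) = _
    rw [show g (k.toAdd : ZMod n) = f k.toAdd from ZMod.lift_coe _ _ _]
    rfl
  · have e := congrArg dsFn (hz.trans hz'.symm)
    rw [dsFn_comp_DSmap, dsFn_comp_DSmap] at e
    refine MonoidHom.ext fun k => ?_
    obtain ⟨j, hj⟩ := ZMod.intCast_surjective (n := n) k.toAdd
    have := DFunLike.congr_fun e (Multiplicative.ofAdd j)
    have hk : AddMonoidHom.toMultiplicative (Int.castAddHom (ZMod n)) (Multiplicative.ofAdd j) = k := by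
      rw [← ofAdd_toAdd k, ← hj]
      rfl
    simp only [MonoidHom.comp_apply, hk] at this
    exact this

end

end GrothLib.Torsor21
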