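import Groth.Agent.Lib.FpqcRep.Glue
import Groth.Agent.Lib.FpqcRep.Small
import Groth.Agent.Lib.TorsorDesc.Pseudo
import Groth.Agent.Lib.EtSite.FpqcDescent
import Groth.Prelude.Def_NonAbH2
import Mathlib.AlgebraicGeometry.Morphisms.LocalFlatDescent

/-!
# Properties of fpqc torsors
-/

set_option autoImplicit false

universe u

open CategoryTheory CategoryTheory.Limits MonoidalCategory CartesianMonoidalCategory MonObj GrpObj AlgebraicGeometry
open GrothLib.RepLocal

namespace GrothLib.Torsor21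

variable {S : Scheme.{u}} {G X X' : Over S} [GrpObj G] {a : AlgGrp.Action G X} {a' : AlgGrp.Action G X'}

/-- A pseudo-torsor becomes trivial over any object carrying a point of it. -/
theorem isIso_triv (hps : NonAbH1.IsPseudoTorsorSch a) {T : Over S} (s : T ⟶ X) :
    IsIso (lift ((G ◁ s) ≫ a.act) (snd G T)) := by
  obtain ⟨g, hg⟩ := TorsorDesc.exists_act_eq hps (fst X T) (snd X T ≫ s)
  have hs : ∀ {R : Over S} (h : R ⟶ G) (t : R ⟶ T),
      lift h t ≫ (G ◁ s) ≫ a.act = lift h (t ≫ s) ≫ a.act := fun h t => lift_whiskerLeft_assoc _ _ _ _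
  refine ⟨lift g (snd X T), ?_, ?_⟩
  · rw [comp_lift, lift_snd, ← lift_fst_snd]
    refine congrArg (fun z => lift z (snd G T)) (TorsorDesc.act_left_injective hps (p := snd G T ≫ s) ?_)
    have h := congrArg (lift ((G ◁ s) ≫ a.act) (snd G T) ≫ ·) hg
    simp only [comp_lift_assoc, lift_fst, lift_snd_assoc] at h
    rw [h, ← hs, lift_fst_snd, Category.id_comp]
  · rw [comp_lift, lift_snd, hs, hg, lift_fst_snd]

/-- The small family of local sections of a torsor. -/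
theorem exists_sections (ha : NonAbH1.IsTorsorFor Scheme.fpqcPrecoverage a) :
    ∃ (κ : Type u) (U : κ → Scheme.{u}) (g : ∀ i, U i ⟶ S),
      Presieve.ofArrows U g ∈ Scheme.fpqcPrecoverage S ∧ Nonempty (∀ i, Over.mk (g i) ⟶ X) := by
  obtain ⟨R, hR, hsec⟩ := ha.2
  obtain ⟨κ, U, g, hg, href⟩ := FpqcRep.exists_small_refinement hR
  refine ⟨κ, U, g, hg, ⟨fun i => Classical.choice ?_⟩⟩
  obtain ⟨Z, f, k, hf, hk⟩ := href i
  obtain ⟨s, hs⟩ := hsec f hf
  exact ⟨Over.homMk (k ≫ s) (show (k ≫ s) ≫ X.hom = g i by rw [Category.assoc, hs, hk])⟩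

/-- A property local for the fpqc topology passes from a group to its torsors. -/
theorem property (P : MorphismProperty Scheme.{u}) [IsZariskiLocalAtTarget P]
    [P.IsStableUnderBaseChange]
    [P.DescendsAlong (@Surjective ⊓ @Flat ⊓ @QuasiCompact : MorphismProperty Scheme.{u})]
    (ha : NonAbH1.IsTorsorFor Scheme.fpqcPrecoverage a) (h : P G.hom) : P X.hom := by
  obtain ⟨κ, U, g, hg, ⟨s⟩⟩ := exists_sections ha
  obtain ⟨hqc, hflat, -⟩ := FpqcCov.quasiCompactCover_and_flat g hg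
  refine FpqcCov.of_fpqc P inferInstance X.hom (PreZeroHypercover.mk κ U g) hflat fun i => ?_
  have := isIso_triv ha.1 (s i)
  let e : G ⊗ Over.mk (g i) ⟶ X ⊗ Over.mk (g i) :=
    lift ((G ◁ s i) ≫ a.act) (snd G (Over.mk (g i)))
  have : IsIso e.left := inferInstanceAs (IsIso ((Over.forget S).map e))
  have he : e.left ≫ pullback.snd X.hom (g i) = pullback.snd G.hom (g i) :=
    congrArg CommaMorphism.left (lift_snd ((G ◁ s i) ≫ a.act) (snd G (Over.mk (g i))))
  show P (pullback.snd X.hom (g i))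
  rw [← P.cancel_left_of_respectsIso e.left, he]
  exact P.pullback_snd _ _ h

theorem surjective_hom (ha : NonAbH1.IsTorsorFor Scheme.fpqcPrecoverage a) : Surjective X.hom := by
  obtain ⟨κ, U, g, hg, ⟨s⟩⟩ := exists_sections ha
  obtain ⟨-, -, hsurj⟩ := FpqcCov.quasiCompactCover_and_flat g hg
  refine ⟨fun y => ?_⟩
  obtain ⟨i, x, rfl⟩ := hsurj y
  exact ⟨(s i).left x, by rw [← Scheme.Hom.comp_apply]; exact congrArg (fun z : U i ⟶ S => z x) (Over.w (s i))⟩

/-- An equivariant morphism to a pseudo-torsor from a pseudo-torsor is a monomorphism. -/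
theorem mono_of_isEquivariant (hps : NonAbH1.IsPseudoTorsorSch a)
    (hps' : NonAbH1.IsPseudoTorsorSch a') (f : X ⟶ X') (hf : AlgGrp.Action.IsEquivariant a a' f) :
    Mono f := by
  refine ⟨fun {T} x y h => ?_⟩
  obtain ⟨g, hg⟩ := TorsorDesc.exists_act_eq hps x y
  have h1 : lift g (y ≫ f) ≫ a'.act = y ≫ f := by
    rw [← lift_whiskerLeft_assoc, ← hf, ← Category.assoc, hg, h]
  have h2 : g = 1 := TorsorDesc.act_left_injective hps' (h1.trans (a'.lift_one_act _).symm)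
  rw [← hg, h2]
  exact (a.lift_one_act y).trans rfl

/-- An equivariant morphism of torsors is an isomorphism. -/
theorem isIso_of_isEquivariant (hps : NonAbH1.IsPseudoTorsorSch a)
    (hloc : NonAbH1.IsTorsorFor Scheme.fpqcPrecoverage a)
    (hps' : NonAbH1.IsPseudoTorsorSch a') (f : X ⟶ X') (hf : AlgGrp.Action.IsEquivariant a a' f) :
    IsIso f := by
  have := mono_of_isEquivariant hps hps' f hf
  obtain ⟨κ, U, g, hg, ⟨s⟩⟩ := exists_sections hloc
  let z : ∀ i, FpqcRep.pb g X' i ⟶ Over.mk (g i) := fun i =>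
    Over.homMk (pullback.fst (g i) X'.hom) rfl
  choose d hd using fun i => TorsorDesc.exists_act_eq hps'
    (fst (FpqcRep.pb g X' i) (𝟙_ (Over S)) ≫ FpqcRep.pι g X' i)
    (fst (FpqcRep.pb g X' i) (𝟙_ (Over S)) ≫ z i ≫ s i ≫ f)
  choose q hq using fun i => (⟨lift (d i) (fst _ _ ≫ z i ≫ s i) ≫ a.act, by
    simp only [Category.assoc]
    rw [hf, lift_whiskerLeft_assoc]
    simp only [Category.assoc]
    exact hd i⟩ : ∃ q : FpqcRep.pb g X' i ⊗ 𝟙_ (Over S) ⟶ X,
      q ≫ f = fst _ _ ≫ FpqcRep.pι g X' i)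
  obtain ⟨k, hk, -⟩ := FpqcRep.existsUnique_hom hg X' (𝟙_ (Over S)) q fun i j T u v huv => by
    refine (cancel_mono f).mp ?_
    rw [Category.assoc, Category.assoc, hq, hq, ← Category.assoc, ← Category.assoc,
      whiskerRight_fst, whiskerRight_fst, Category.assoc, Category.assoc, huv]
  have h1 : k ≫ f = fst X' (𝟙_ (Over S)) := by
    refine FpqcRep.hom_ext_pb hg X' _ fun i => ?_
    rw [← Category.assoc, hk, hq, whiskerRight_fst]
  refine ⟨(ρ_ X').inv ≫ k, ?_, ?_⟩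
  · rw [← cancel_mono f]
    simp [h1]
  · simp [h1]

/-- A pseudo-torsor criterion on a covering family. -/
theorem isPseudoTorsorSch_of_local {κ : Type u} {U : κ → Scheme.{u}} {g : ∀ i, U i ⟶ S}
    (hg : Presieve.ofArrows U g ∈ Scheme.fpqcPrecoverage S)
    (hex : ∀ (i : κ) (T : Over S) (_ : T ⟶ Over.mk (g i)) (p₁ p₂ : T ⟶ X),
      ∃ h : T ⟶ G, lift h p₂ ≫ a.act = p₁)
    (huniq : ∀ (i : κ) (T : Over S) (_ : T ⟶ Over.mk (g i)) (h₁ h₂ : T ⟶ G) (p : T ⟶ X),
      lift h₁ p ≫ a.act = lift h₂ p ≫ a.act → h₁ = h₂) :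
    NonAbH1.IsPseudoTorsorSch a := by
  let z : ∀ (T : Over S) (i : κ), FpqcRep.pb g T i ⟶ Over.mk (g i) := fun T i =>
    Over.homMk (pullback.fst (g i) T.hom) rfl
  have huniv : ∃ h : X ⊗ X ⟶ G, lift h (snd X X) ≫ a.act = fst X X := by
    choose h hh using fun i => hex i (FpqcRep.pb g X i ⊗ X) (fst _ _ ≫ z X i)
      (fst _ _ ≫ FpqcRep.pι g X i) (snd _ _)
    obtain ⟨k, hk, -⟩ := FpqcRep.existsUnique_hom hg X X h fun i j R u v huv => by
      refine huniq i (R ⊗ X) (fst R X ≫ u ≫ z X i) _ _ (snd R X) ?_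
      have e : ∀ (i : κ) (u : R ⟶ FpqcRep.pb g X i),
          lift ((u ▷ X) ≫ h i) (snd R X) ≫ a.act = fst R X ≫ u ≫ FpqcRep.pι g X i := fun i u => by
        have h1 := congrArg ((u ▷ X) ≫ ·) (hh i)
        simp only [comp_lift_assoc, whiskerRight_snd, whiskerRight_fst_assoc] at h1
        exact h1
      rw [e, e, huv]
    refine ⟨k, FpqcRep.hom_ext_pb hg X X fun i => ?_⟩
    rw [comp_lift_assoc, hk, whiskerRight_snd, whiskerRight_fst]
    exact hh i
  obtain ⟨h, hh⟩ := huniv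
  refine TorsorDesc.isPseudoTorsorSch_of_points (fun T p₁ p₂ => ⟨lift p₁ p₂ ≫ h, ?_⟩)
    fun T h₁ h₂ p e => ?_
  · have h1 := congrArg (lift p₁ p₂ ≫ ·) hh
    simp only [comp_lift_assoc, lift_fst, lift_snd] at h1
    exact h1
  · have : IsIso (fst T (𝟙_ (Over S))) := ⟨(ρ_ T).inv, by rw [← rightUnitor_hom]; simp, by rw [← rightUnitor_hom]; simp⟩
    refine (cancel_epi (fst T (𝟙_ (Over S)))).mp (FpqcRep.hom_ext_pb hg T _ fun i => ?_)
    rw [← Category.assoc, ← Category.assoc, whiskerRight_fst]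
    refine huniq i _ (fst _ _ ≫ z T i) _ _ ((fst _ _ ≫ FpqcRep.pι g T i) ≫ p) ?_
    simpa only [comp_lift_assoc] using congrArg ((fst _ (𝟙_ (Over S)) ≫ FpqcRep.pι g T i) ≫ ·) e

/-- Unique differences over an object over which the action is trivialised. -/
theorem existsUnique_of_isIso_triv {T R : Over S} (s : T ⟶ X)
    [IsIso (lift ((G ◁ s) ≫ a.act) (snd G T))] (r : R ⟶ T) (p₁ p₂ : R ⟶ X) :
    ∃! g : R ⟶ G, lift g p₂ ≫ a.act = p₁ := by
  let e := lift ((G ◁ s) ≫ a.act) (snd G T)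
  have hpt : ∀ (h : R ⟶ G), lift h r ≫ e = lift (lift h (r ≫ s) ≫ a.act) r := fun h => by
    simp [e, comp_lift]
  have hrep : ∀ p : R ⟶ X, ∃ h : R ⟶ G, lift h (r ≫ s) ≫ a.act = p := fun p => by
    refine ⟨(lift p r ≫ inv e) ≫ fst G T, ?_⟩
    have h1 : (lift p r ≫ inv e) ≫ e = lift p r := by simp
    have hr : (lift p r ≫ inv e) ≫ snd G T = r := by
      have := congrArg (· ≫ snd X T) h1
      simpa [e] using this
    have h2 : lift ((lift p r ≫ inv e) ≫ fst G T) r = lift p r ≫ inv e := by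
      conv_lhs => arg 2; rw [← hr]
      rw [← comp_lift, lift_fst_snd, Category.comp_id]
    have h3 := (hpt _).symm.trans ((congrArg (· ≫ e) h2).trans h1)
    simpa using congrArg (· ≫ fst X T) h3
  have hinj : ∀ h h' : R ⟶ G, lift h (r ≫ s) ≫ a.act = lift h' (r ≫ s) ≫ a.act → h = h' :=
    fun h h' hh => by
    have h1 : lift h r ≫ e = lift h' r ≫ e := by rw [hpt, hpt, hh]
    simpa using congrArg (· ≫ fst G T) ((cancel_mono e).mp h1)
  obtain ⟨h₁, e₁⟩ := hrep p₁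
  obtain ⟨h₂, e₂⟩ := hrep p₂
  refine ⟨h₁ * h₂⁻¹, ?_, fun g hg => ?_⟩
  · show lift (h₁ * h₂⁻¹) p₂ ≫ a.act = p₁
    rw [← e₂, ← AlgGrp.Action.lift_mul_act, inv_mul_cancel_right, e₁]
  · rw [← e₁, ← e₂, ← AlgGrp.Action.lift_mul_act] at hg
    exact eq_mul_inv_of_mul_eq (hinj _ _ hg)

end GrothLib.Torsor21
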