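import Groth.Agent.Lib.Depth.Hartogs
import Groth.Agent.Lib.FiniteQuot.DepthDescent
import Groth.Agent.Lib.FFDesc.Basic
import Groth.Agent.Lib.SchDense.CIntDense
import Groth.Agent.Lib.RhoShBig.Extend
import Groth.Agent.Lib.CMFree.Regular
import Mathlib.AlgebraicGeometry.Morphisms.Preimmersion
import Mathlib.AlgebraicGeometry.Morphisms.Finite
import Mathlib.AlgebraicGeometry.Stalk
import Mathlib.RingTheory.Regular.Flat

/-!
# Hartogs extension across depth two points outside a quasi-compact open, without Noetherian hypotheses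
-/

set_option autoImplicit false
set_option backward.isDefEq.respectTransparency false
set_option backward.isDefEq.respectTransparency.types false
set_option linter.style.haveILetI false

universe u

open CategoryTheory CategoryTheory.Limits AlgebraicGeometry TopologicalSpace IsLocalRing RingTheory.Sequence
open GrothLib.Depth (res res_res germ_res)

namespace GrothLib.HartogsQC

variable {X : Scheme.{u}}

/-- A flat preimmersion induces isomorphisms on stalks. -/
theorem isIso_stalkMap_of_flat_preimmersion {Y Z : Scheme.{u}} (f : Y ⟶ Z) [IsPreimmersion f] [Flat f] (y : Y) :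
    IsIso (f.stalkMap y) := by
  refine (ConcreteCategory.isIso_iff_bijective _).mpr ⟨?_, f.stalkMap_surjective y⟩
  have hf := Flat.stalkMap f y
  letI := (f.stalkMap y).hom.toAlgebra
  haveI : Module.Flat _ _ := hf
  haveI : IsLocalHom (algebraMap (Z.presheaf.stalk (f y)) (Y.presheaf.stalk y)) :=
    inferInstanceAs (IsLocalHom (f.stalkMap y).hom)
  haveI := Module.FaithfullyFlat.of_flat_of_isLocalHom
    (A := Z.presheaf.stalk (f y)) (B := Y.presheaf.stalk y)
  exact (FaithfulSMul.algebraMap_injective _ _ :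
    Function.Injective (algebraMap (Z.presheaf.stalk (f y)) (Y.presheaf.stalk y)))

/-- The hypothesis on the points outside an open. -/
def NoethDepthTwoOutside (U : X.Opens) : Prop :=
  ∀ z : X, z ∉ U → IsNoetherianRing (X.presheaf.stalk z) ∧
    (2 : ℕ∞) ≤ LocCoh.depth (X.presheaf.stalk z) (X.presheaf.stalk z)

theorem depth_eq_of_ringEquiv {R S : Type u} [CommRing R] [CommRing S] [IsLocalRing R] [IsLocalRing S]
    (σ : R ≃+* S) : LocCoh.depth R R = LocCoh.depth S S := by
  rw [LocCoh.depth, GrothLib.FiniteQuot.idealDepth_congr σ σ.toAddEquiv (fun r x => map_mul σ r x) _]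
  congr 1
  refine le_antisymm (Ideal.map_le_iff_le_comap.2 fun r hr => ?_) fun s hs => ?_
  · rw [Ideal.mem_comap, mem_maximalIdeal, mem_nonunits_iff]
    exact fun h => (mem_maximalIdeal r).1 hr (by simpa using h.map σ.symm.toRingHom)
  · rw [← σ.apply_symm_apply s]
    exact Ideal.mem_map_of_mem _ ((mem_maximalIdeal _).2 fun h =>
      (mem_maximalIdeal s).1 hs (by simpa using h.map σ.toRingHom))

section spec

variable {U : X.Opens} (hU : NoethDepthTwoOutside U) (z : X)

include hU in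
theorem depthTwoOutside_fromSpecStalk :
    GrothLib.Depth.DepthTwoOutside (X.fromSpecStalk z ⁻¹ᵁ U) := by
  intro y hy
  haveI := GrothLib.FFDesc.flat_fromSpecStalk' X z
  haveI := isIso_stalkMap_of_flat_preimmersion (X.fromSpecStalk z) y
  rw [← depth_eq_of_ringEquiv (asIso ((X.fromSpecStalk z).stalkMap y)).commRingCatIsoToRingEquiv]
  exact (hU _ hy).2

theorem germ_eq_of_app_eq {V : X.Opens} (hz : z ∈ V) {s t : Γ(X, V)}
    (h : (X.fromSpecStalk z).app V s = (X.fromSpecStalk z).app V t) :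
    X.presheaf.germ V z hz s = X.presheaf.germ V z hz t := by
  haveI := GrothLib.FFDesc.flat_fromSpecStalk' X z
  haveI := isIso_stalkMap_of_flat_preimmersion (X.fromSpecStalk z) (closedPoint (X.presheaf.stalk z))
  have hc : X.fromSpecStalk z (closedPoint (X.presheaf.stalk z)) ∈ V := by
    rwa [Scheme.fromSpecStalk_closedPoint]
  have h1 : X.presheaf.germ V _ hc s = X.presheaf.germ V _ hc t := by
    apply (ConcreteCategory.bijective_of_isIso
      ((X.fromSpecStalk z).stalkMap (closedPoint (X.presheaf.stalk z)))).1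
    rw [Scheme.Hom.germ_stalkMap_apply, Scheme.Hom.germ_stalkMap_apply, h]
  have key : ∀ (y : X) (_ : y = z) (hy : y ∈ V), X.presheaf.germ V y hy s = X.presheaf.germ V y hy t →
      X.presheaf.germ V z hz s = X.presheaf.germ V z hz t := by
    rintro _ rfl _ e; exact e
  exact key _ Scheme.fromSpecStalk_closedPoint hc h1

theorem app_res {W V : X.Opens} (h : W ≤ V) (s : Γ(X, V)) :
    (X.fromSpecStalk z).app W (res h s) =
      res ((X.fromSpecStalk z).preimage_mono h) ((X.fromSpecStalk z).app V s) :=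
  congr($((X.fromSpecStalk z).naturality (homOfLE h).op) s)

include hU in
theorem app_eq_of_res_eq {V : X.Opens} (hz : z ∉ U) {s t : Γ(X, V)}
    (h : res (inf_le_left : V ⊓ U ≤ V) s = res inf_le_left t) :
    (X.fromSpecStalk z).app V s = (X.fromSpecStalk z).app V t := by
  haveI := (hU z hz).1
  refine GrothLib.Depth.res_injective (depthTwoOutside_fromSpecStalk hU z) _ ?_
  have e := congrArg ((X.fromSpecStalk z).app (V ⊓ U)) h
  rw [app_res, app_res] at e
  exact e

end spec

variable {U : X.Opens} (hU : NoethDepthTwoOutside U)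
include hU

theorem res_injective (V : X.Opens) : Function.Injective (res (X := X) (inf_le_left : V ⊓ U ≤ V)) := by
  intro s t hst
  refine TopCat.Presheaf.section_ext X.sheaf V s t fun y hy => ?_
  by_cases hyU : y ∈ U
  · show X.presheaf.germ V y hy s = X.presheaf.germ V y hy t
    rw [← germ_res inf_le_left y ⟨hy, hyU⟩ s, ← germ_res inf_le_left y ⟨hy, hyU⟩ t, hst]
  · exact germ_eq_of_app_eq y hy (app_eq_of_res_eq hU y hyU hst)

theorem isSchematicallyDense : CInt.IsSchematicallyDense U := fun V => res_injective hU V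

theorem res_bijective_of_isAffineOpen [QuasiCompact U.ι] {W : X.Opens} (hW : IsAffineOpen W) :
    Function.Bijective (res (X := X) (inf_le_left : W ⊓ U ≤ W)) := by
  classical
  refine ⟨res_injective hU W, fun σ => ?_⟩
  have hWU : IsCompact ((W ⊓ U : X.Opens) : Set X) := by
    have h1 := ((U.ι).isCompact_preimage hW.isCompact).image U.ι.continuous
    rwa [show ((U.ι ⁻¹ᵁ W : U.toScheme.Opens) : Set U.toScheme) = U.ι ⁻¹' (W : Set X) from rfl, Set.image_preimage_eq_inter_range, Scheme.Opens.range_ι] at h1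
  let ρ : Γ(X, W) →+* Γ(X, W ⊓ U) := (X.presheaf.map (homOfLE (inf_le_left : W ⊓ U ≤ W)).op).hom
  let I : Ideal Γ(X, W) :=
    { carrier := {a | ∃ c, ρ c = ρ a * σ}
      add_mem' := by
        rintro a b ⟨c, hc⟩ ⟨d, hd⟩
        exact ⟨c + d, by rw [map_add, map_add, hc, hd, add_mul]⟩
      zero_mem' := ⟨0, by rw [map_zero, zero_mul]⟩
      smul_mem' := by
        rintro r a ⟨c, hc⟩
        exact ⟨r * c, by rw [smul_eq_mul, map_mul, map_mul, hc, mul_assoc]⟩ }
  suffices hI : I = ⊤ by
    obtain ⟨c, hc⟩ : (1 : Γ(X, W)) ∈ I := hI ▸ Submodule.mem_top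
    exact ⟨c, by simpa [ρ] using hc⟩
  by_contra hI
  obtain ⟨m, hm, hIm⟩ := Ideal.exists_le_maximal I hI
  let z : X := hW.fromSpec ⟨m, hm.isPrime⟩
  have hzW : z ∈ W := hW.range_fromSpec.le ⟨_, rfl⟩
  suffices ∃ a ∈ I, z ∈ X.basicOpen a by
    obtain ⟨a, ha, hza⟩ := this
    have : (⟨m, hm.isPrime⟩ : PrimeSpectrum Γ(X, W)) ∈ hW.fromSpec ⁻¹ᵁ X.basicOpen a := hza
    rw [hW.fromSpec_preimage_basicOpen] at this
    exact this (hIm ha)
  by_cases hzU : z ∈ U
  · obtain ⟨a, haU, hza⟩ := hW.exists_basicOpen_le ⟨z, hzU⟩ hzW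
    have hD : X.basicOpen a ≤ W ⊓ U := le_inf (X.basicOpen_le a) haU
    have := hW.isLocalization_basicOpen a
    obtain ⟨⟨c, ⟨_, n, rfl⟩⟩, hc⟩ := IsLocalization.surj (.powers a) (res hD σ)
    have hc' : res hD σ * res (X.basicOpen_le a) (a ^ n) = res (X.basicOpen_le a) c := hc
    have hle : X.basicOpen (ρ a) ≤ W ⊓ U := X.basicOpen_le _
    have hbo : X.basicOpen (ρ a) = (W ⊓ U) ⊓ X.basicOpen a := Scheme.basicOpen_res _ _ _
    obtain ⟨k, hk⟩ := exists_pow_mul_eq_zero_of_res_basicOpen_eq_zero_of_isCompact X hWU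
      (ρ c - ρ (a ^ n) * σ) (ρ a) (by
        have hle' : X.basicOpen (ρ a) ≤ X.basicOpen a := hbo.le.trans inf_le_right
        show res hle (ρ c - ρ (a ^ n) * σ) = 0
        simp only [res, map_sub, map_mul]
        rw [sub_eq_zero]
        have e := congrArg (res hle') hc'
        simp only [res, map_mul] at e
        simp only [res, ρ, ← ConcreteCategory.comp_apply, ← X.presheaf.map_comp, ← op_comp,
          homOfLE_comp] at e ⊢
        rw [← e, mul_comm])
    refine ⟨a ^ k * a ^ n, ⟨a ^ k * c, ?_⟩, ?_⟩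
    · rw [mul_sub, sub_eq_zero] at hk
      rw [map_mul, map_mul, map_pow, hk, map_pow, mul_assoc]
    · rw [← pow_add]
      rcases Nat.eq_zero_or_pos (k + n) with h | h
      · rw [h, pow_zero, X.basicOpen_of_isUnit isUnit_one]
        exact hzW
      · rw [X.basicOpen_pow a h]; exact hza
  · haveI := (hU z hzU).1
    have hY := depthTwoOutside_fromSpecStalk hU z
    let g := X.fromSpecStalk z
    let S := Spec (X.presheaf.stalk z)
    have hgW : g ⁻¹ᵁ W = ⊤ := by
      refine top_le_iff.1 fun y _ => ?_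
      have hy : g y ⤳ z := X.range_fromSpecStalk.le ⟨y, rfl⟩
      exact hy.mem_open W.2 hzW
    obtain ⟨τ, hτ⟩ := (GrothLib.Depth.res_bijective hY (g ⁻¹ᵁ W)).2 (g.app (W ⊓ U) σ)
    -- every section over the preimage of `W` is a fraction
    have hsurj : ∃ a s : Γ(X, W), z ∈ X.basicOpen s ∧ τ * g.app W s = g.app W a := by
      have hpb : ∃ u, g.app W = X.presheaf.germ W z hzW ≫ u ∧ IsIso u := by
        refine ⟨_, Scheme.fromSpecStalk_app hzW, ?_⟩
        haveI : IsIso (homOfLE (le_top : g ⁻¹ᵁ W ≤ ⊤)) :=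
          ⟨homOfLE hgW.ge, Subsingleton.elim _ _, Subsingleton.elim _ _⟩
        infer_instance
      obtain ⟨u, hu, hiso⟩ := hpb
      obtain ⟨v, rfl⟩ := (ConcreteCategory.bijective_of_isIso u).2 τ
      have := hW.isLocalization_stalk ⟨z, hzW⟩
      let _ := TopCat.Presheaf.algebra_section_stalk X.presheaf (⟨z, hzW⟩ : W)
      obtain ⟨⟨a, s, hs⟩, e⟩ := IsLocalization.surj (hW.primeIdealOf ⟨z, hzW⟩).asIdeal.primeCompl v
      refine ⟨a, s, ?_, ?_⟩
      · rw [X.mem_basicOpen s z hzW]
        exact IsLocalization.map_units (X.presheaf.stalk z)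
          (⟨s, hs⟩ : (hW.primeIdealOf ⟨z, hzW⟩).asIdeal.primeCompl)
      · rw [hu]
        show u v * u (X.presheaf.germ W z hzW s) = u (X.presheaf.germ W z hzW a)
        rw [← map_mul]
        exact congrArg u e
    obtain ⟨a, s, hzs, has⟩ := hsurj
    let d := ρ s * σ - ρ a
    have hd : g.app (W ⊓ U) d = 0 := by
      have e1 : ∀ x, g.app (W ⊓ U) (ρ x) = res (g.preimage_mono inf_le_left) (g.app W x) :=
        fun x => app_res z inf_le_left x
      simp only [d, map_sub, map_mul, e1, ← hτ]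
      rw [sub_eq_zero, ← has]
      simp only [res, map_mul]
      exact mul_comm _ _
    -- kill `d` near `z`
    have key : ∀ f : Γ(X, W), X.basicOpen f ≤ U → ∃ t : Γ(X, W), z ∈ X.basicOpen t ∧
        ∀ hle : X.basicOpen f ≤ W ⊓ U, res hle (ρ t * d) = 0 := by
      intro f hf
      have hD : X.basicOpen f ≤ W ⊓ U := le_inf (X.basicOpen_le f) hf
      have := hW.isLocalization_basicOpen f
      obtain ⟨⟨b, ⟨_, n, rfl⟩⟩, hb⟩ := IsLocalization.surj (.powers f) (res hD d)
      have hb' : res hD d * res (X.basicOpen_le f) (f ^ n) = res (X.basicOpen_le f) b := hb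
      have hb0 : g.app W b |_ S.basicOpen (g.app W f) = 0 := by
        have e : g ⁻¹ᵁ X.basicOpen f = S.basicOpen (g.app W f) := Scheme.preimage_basicOpen g f
        have h1 : g.app (X.basicOpen f) (res (X.basicOpen_le f) b) = 0 := by
          rw [← hb', map_mul]
          rw [app_res z hD d, hd]
          simp [res]
        rw [app_res] at h1
        show res (S.basicOpen_le _) (g.app W b) = 0
        have h2 := congrArg (res e.ge) h1
        rw [res_res] at h2
        rw [h2]
        simp [res]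
      obtain ⟨k, hk⟩ := exists_pow_mul_eq_zero_of_res_basicOpen_eq_zero_of_isCompact S
        (show IsCompact ((g ⁻¹ᵁ W : S.Opens) : Set S) by rw [hgW]; exact isCompact_univ) _ _ hb0
      rw [← map_pow, ← map_mul] at hk
      have hg0 : X.presheaf.germ W z hzW (f ^ k * b) = X.presheaf.germ W z hzW 0 :=
        germ_eq_of_app_eq z hzW (by rw [hk, map_zero])
      rw [map_zero] at hg0
      have := hW.isLocalization_stalk ⟨z, hzW⟩
      let _ := TopCat.Presheaf.algebra_section_stalk X.presheaf (⟨z, hzW⟩ : W)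
      obtain ⟨⟨t, ht⟩, et⟩ := (IsLocalization.map_eq_zero_iff (hW.primeIdealOf ⟨z, hzW⟩).asIdeal.primeCompl
        (X.presheaf.stalk z) (f ^ k * b)).1 hg0
      refine ⟨t, ?_, fun hle => ?_⟩
      · rw [X.mem_basicOpen t z hzW]
        exact IsLocalization.map_units (X.presheaf.stalk z)
          (⟨t, ht⟩ : (hW.primeIdealOf ⟨z, hzW⟩).asIdeal.primeCompl)
      · have hu : IsUnit (res (X.basicOpen_le f) f) := RingedSpace.isUnit_res_basicOpen _ f
        have e0 : res (X.basicOpen_le f) (t * (f ^ k * b)) = 0 := by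
          rw [show t * (f ^ k * b) = 0 from et]; simp [res]
        have hu' : IsUnit (res (X.basicOpen_le f) f ^ (k + n)) := hu.pow _
        refine hu'.mul_left_eq_zero.1 ?_
        simp only [res, map_mul, map_pow] at e0 hb' ⊢
        rw [← hb'] at e0
        simp only [ρ, ← ConcreteCategory.comp_apply, ← X.presheaf.map_comp, ← op_comp, homOfLE_comp] at e0 ⊢
        rw [pow_add]
        linear_combination e0
    let F : {f : Γ(X, W) // X.basicOpen f ≤ U} → X.Opens := fun f => X.basicOpen f.1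
    obtain ⟨fs, hfs⟩ := hWU.elim_finite_subcover (fun f => (F f : Set X)) (fun f => (F f).2) (by
      intro y hy
      obtain ⟨f, hf, hyf⟩ := hW.exists_basicOpen_le ⟨y, hy.2⟩ hy.1
      exact Set.mem_iUnion.2 ⟨⟨f, hf⟩, hyf⟩)
    choose t htz ht using key
    let T : Γ(X, W) := ∏ f ∈ fs, t f.1 f.2
    have hT : z ∈ X.basicOpen T := by
      rw [X.mem_basicOpen _ z hzW, map_prod, IsUnit.prod_iff]
      exact fun f _ => (X.mem_basicOpen _ z hzW).1 (htz f.1 f.2)
    have hTd : ρ T * d = 0 := by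
      refine TopCat.Presheaf.section_ext X.sheaf _ _ _ fun y hy => ?_
      obtain ⟨f, hf, hyf⟩ := Set.mem_iUnion₂.1 (hfs hy)
      have hle : X.basicOpen f.1 ≤ W ⊓ U := le_inf (X.basicOpen_le _) f.2
      show X.presheaf.germ (W ⊓ U) y hy _ = X.presheaf.germ (W ⊓ U) y hy _
      rw [← germ_res hle y hyf, map_zero]
      have e : ρ T * d = ρ (∏ f' ∈ fs.erase f, t f'.1 f'.2) * (ρ (t f.1 f.2) * d) := by
        rw [← mul_assoc, ← map_mul, Finset.prod_erase_mul fs _ hf]
      have e' : res hle (ρ T * d) = 0 := by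
        rw [e]
        simp only [res, map_mul]
        have := ht f.1 f.2 hle
        simp only [res, map_mul] at this
        rw [this, mul_zero]
      rw [e', map_zero]
    refine ⟨T * s, ⟨T * a, ?_⟩, ?_⟩
    · simp only [d, mul_sub, sub_eq_zero] at hTd
      rw [map_mul, map_mul, mul_assoc, hTd]
    · rw [X.mem_basicOpen _ z hzW, map_mul]
      exact ((X.mem_basicOpen _ z hzW).1 hT).mul ((X.mem_basicOpen _ z hzW).1 hzs)

omit hU

/-- A finite flat morphism inherits the hypothesis from regular points of dimension at least two. -/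
theorem noethDepthTwoOutside_preimage {P : Scheme.{u}} (q : P ⟶ X) [IsFinite q] [Flat q] {U : X.Opens}
    (hZ : ∀ z : X, z ∉ U → IsRegularLocalRing (X.presheaf.stalk z) ∧
      (2 : WithBot ℕ∞) ≤ ringKrullDim (X.presheaf.stalk z)) :
    NoethDepthTwoOutside (q ⁻¹ᵁ U) := by
  intro w hw
  obtain ⟨hreg, hdim⟩ := hZ (q w) hw
  haveI := hreg
  refine ⟨?_, ?_⟩
  · haveI := GrothLib.FFDesc.flat_fromSpecStalk' X (q w)
    let g := X.fromSpecStalk (q w)
    haveI : Flat (pullback.fst q g) := MorphismProperty.pullback_fst _ _ inferInstance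
    haveI : IsFinite (pullback.snd q g) := MorphismProperty.pullback_snd _ _ inferInstance
    haveI : IsLocallyNoetherian (pullback q g) :=
      LocallyOfFiniteType.isLocallyNoetherian (pullback.snd q g)
    obtain ⟨w', hw', -⟩ := Scheme.Pullback.exists_preimage_pullback (f := q) (g := g) w
      (closedPoint (X.presheaf.stalk (q w))) Scheme.fromSpecStalk_closedPoint.symm
    haveI := isIso_stalkMap_of_flat_preimmersion (pullback.fst q g) w'
    have h := isNoetherianRing_of_ringEquiv _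
      (asIso ((pullback.fst q g).stalkMap w')).commRingCatIsoToRingEquiv.symm
    exact hw' ▸ h
  · obtain ⟨rs, hrs, hmem, hlen⟩ :=
      GrothLib.CMFree.exists_weaklyRegular_of_isRegularLocalRing (X.presheaf.stalk (q w))
    have h2 : 2 ≤ rs.length := by rw [← hlen] at hdim; exact_mod_cast hdim
    have hfl := Flat.stalkMap q w
    letI := (q.stalkMap w).hom.toAlgebra
    haveI : Module.Flat (X.presheaf.stalk (q w)) (P.presheaf.stalk w) := hfl
    haveI : IsLocalHom (algebraMap (X.presheaf.stalk (q w)) (P.presheaf.stalk w)) :=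
      inferInstanceAs (IsLocalHom (q.stalkMap w).hom)
    have h := hrs.of_flat (S := P.presheaf.stalk w)
    let ss := rs.map (algebraMap (X.presheaf.stalk (q w)) (P.presheaf.stalk w))
    have hne : maximalIdeal (P.presheaf.stalk w) • (⊤ : Submodule (P.presheaf.stalk w) (P.presheaf.stalk w)) ≠ ⊤ := by
      rw [Ideal.smul_eq_mul, Ideal.mul_top]
      exact (maximalIdeal.isMaximal _).ne_top
    refine (GrothLib.Depth.le_idealDepth_iff_exists _ hne 2).2 ⟨ss.take 2, by simp [ss, h2], ?_, ?_⟩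
    · intro r hr
      obtain ⟨r', hr', rfl⟩ := List.mem_map.1 (List.mem_of_mem_take hr)
      exact (mem_maximalIdeal _).2 fun hu =>
        (mem_maximalIdeal r').1 (hmem r' hr') (isUnit_of_map_unit _ _ hu)
    · have h' : IsWeaklyRegular (P.presheaf.stalk w) ss := h
      rw [← List.take_append_drop 2 ss, isWeaklyRegular_append_iff] at h'
      exact h'.1

/-- Morphisms into an affine morphism extend across the open. -/
theorem exists_extend [QuasiCompact U.ι] (hU : NoethDepthTwoOutside U) {Y B : Scheme.{u}} (f : Y ⟶ B)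
    [IsAffineHom f] (p : X ⟶ B) (t : (U : Scheme.{u}) ⟶ Y) (ht : t ≫ f = U.ι ≫ p) :
    ∃ s : X ⟶ Y, s ≫ f = p ∧ U.ι ≫ s = t := by
  let Y' := pullback f p
  let f' : Y' ⟶ X := pullback.snd f p
  haveI : IsAffineHom f' := MorphismProperty.pullback_snd _ _ inferInstance
  let t' : (U : Scheme.{u}) ⟶ Y' := pullback.lift t U.ι ht
  have ht' : t' ≫ f' = U.ι := pullback.lift_snd _ _ _
  have key : ∀ W : X.affineOpens, ∃ s : (W.1 : Scheme.{u}) ⟶ Y', s ≫ f' = W.1.ι ∧
      X.homOfLE (inf_le_left : W.1 ⊓ U ≤ W.1) ≫ s = X.homOfLE inf_le_right ≫ t' := by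
    intro W
    have : IsIso (X.homOfLE (inf_le_left : W.1 ⊓ U ≤ W.1)).appTop := by
      rw [ConcreteCategory.isIso_iff_bijective]
      exact GrothLib.RhoShBig.Aux.homOfLE_appTop_bijective _ (res_bijective_of_isAffineOpen hU W.2)
    exact GrothLib.RhoShBig.Aux.exists_lift f' W.1 W.2 (X.homOfLE inf_le_left) (X.homOfLE inf_le_right ≫ t')
      (by rw [Category.assoc, ht', Scheme.homOfLE_ι, Scheme.homOfLE_ι])
  choose s hs hst using key
  let 𝒰 : X.OpenCover := X.openCoverOfIsOpenCover (fun W : X.affineOpens => W.1) (iSup_affineOpens_eq_top X)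
  have hd := isSchematicallyDense hU
  have hcompat : ∀ i j : X.affineOpens, X.homOfLE (inf_le_left : i.1 ⊓ j.1 ≤ i.1) ≫ s i =
      X.homOfLE (inf_le_right : i.1 ⊓ j.1 ≤ j.1) ≫ s j := by
    intro i j
    refine GrothLib.SchDense.ext_of_isSchematicallyDense f' (by simp [hs])
      (GrothLib.RhoShBig.Aux.isSchematicallyDense_preimage hd _) ?_
    have e : ∀ (k : X.affineOpens) (hk : i.1 ⊓ j.1 ≤ k.1),
        ((i.1 ⊓ j.1).ι ⁻¹ᵁ U).ι ≫ X.homOfLE hk ≫ s k =
          IsOpenImmersion.lift U.ι (((i.1 ⊓ j.1).ι ⁻¹ᵁ U).ι ≫ (i.1 ⊓ j.1).ι)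
            (GrothLib.RhoShBig.Aux.range_subset _ _) ≫ t' := by
      intro k hk
      let m : ((i.1 ⊓ j.1).ι ⁻¹ᵁ U : Scheme.{u}) ⟶ (k.1 ⊓ U : X.Opens) :=
        IsOpenImmersion.lift (k.1 ⊓ U).ι (((i.1 ⊓ j.1).ι ⁻¹ᵁ U).ι ≫ (i.1 ⊓ j.1).ι)
          (by rintro _ ⟨w, rfl⟩; rw [Scheme.Opens.range_ι]; exact ⟨hk w.1.2, w.2⟩)
      have hm : m ≫ (k.1 ⊓ U).ι = ((i.1 ⊓ j.1).ι ⁻¹ᵁ U).ι ≫ (i.1 ⊓ j.1).ι := IsOpenImmersion.lift_fac _ _ _
      have h1 : ((i.1 ⊓ j.1).ι ⁻¹ᵁ U).ι ≫ X.homOfLE hk = m ≫ X.homOfLE inf_le_left := by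
        rw [← cancel_mono k.1.ι, Category.assoc, Category.assoc, Scheme.homOfLE_ι, Scheme.homOfLE_ι, hm]
      rw [reassoc_of% h1, hst, ← Category.assoc]
      congr 1
      rw [← cancel_mono U.ι, IsOpenImmersion.lift_fac, Category.assoc, Scheme.homOfLE_ι, hm]
    exact (e i inf_le_left).trans (e j inf_le_right).symm
  obtain ⟨σ, hσ⟩ := GrothLib.RhoShBig.Aux.exists_glue s hcompat
  have hσf : σ ≫ f' = 𝟙 X := 𝒰.hom_ext _ _ fun i => by
    rw [Category.comp_id]
    show i.1.ι ≫ σ ≫ f' = i.1.ι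
    exact (Category.assoc _ _ _).symm.trans ((congrArg (· ≫ f') (hσ i)).trans (hs i))
  have hσU : U.ι ≫ σ = t' := by
    refine (U.toScheme.openCoverOfIsOpenCover (fun W : X.affineOpens => U.ι ⁻¹ᵁ W.1)
      (GrothLib.RhoShBig.Aux.iSup_preimage U)).hom_ext _ _ fun i => ?_
    show (U.ι ⁻¹ᵁ i.1).ι ≫ U.ι ≫ σ = (U.ι ⁻¹ᵁ i.1).ι ≫ t'
    let m : (U.ι ⁻¹ᵁ i.1 : Scheme.{u}) ⟶ (i.1 ⊓ U : X.Opens) :=
      IsOpenImmersion.lift (i.1 ⊓ U).ι ((U.ι ⁻¹ᵁ i.1).ι ≫ U.ι)
        (by rintro _ ⟨w, rfl⟩; rw [Scheme.Opens.range_ι]; exact ⟨w.2, w.1.2⟩)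
    have h1 : (U.ι ⁻¹ᵁ i.1).ι ≫ U.ι = m ≫ X.homOfLE inf_le_left ≫ i.1.ι := by
      rw [Scheme.homOfLE_ι]; exact (IsOpenImmersion.lift_fac _ _ _).symm
    have h2 : (U.ι ⁻¹ᵁ i.1).ι = m ≫ X.homOfLE inf_le_right := by
      rw [← cancel_mono U.ι, Category.assoc, Scheme.homOfLE_ι]; exact (IsOpenImmersion.lift_fac _ _ _).symm
    rw [reassoc_of% h1]
    refine Eq.trans ?_ (congrArg (· ≫ t') h2).symm
    exact ((congrArg (fun z => m ≫ X.homOfLE inf_le_left ≫ z) (hσ i)).trans (congrArg (m ≫ ·) (hst i))).trans (Category.assoc _ _ _).symm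
  refine ⟨σ ≫ pullback.fst f p, ?_, ?_⟩
  · rw [Category.assoc, pullback.condition, reassoc_of% hσf]
  · rw [reassoc_of% hσU]
    exact pullback.lift_fst _ _ _

/-- Morphisms over the base from a finite flat scheme to an affine one are determined by, and extend from,
their restriction to the open. -/
theorem bijective_pullback_map {U : X.Opens} [QuasiCompact U.ι]
    (hZ : ∀ z : X, z ∉ U → IsRegularLocalRing (X.presheaf.stalk z) ∧
      (2 : WithBot ℕ∞) ≤ ringKrullDim (X.presheaf.stalk z))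
    (P Q : Over X) [IsFinite P.hom] [Flat P.hom] [IsAffineHom Q.hom] :
    Function.Bijective (fun h : P ⟶ Q => (Over.pullback U.ι).map h) := by
  let V := P.hom ⁻¹ᵁ U
  have hV : NoethDepthTwoOutside V := noethDepthTwoOutside_preimage P.hom hZ
  let l : (V : Scheme.{u}) ⟶ pullback P.hom U.ι :=
    pullback.lift V.ι (P.hom ∣_ U) (morphismRestrict_ι P.hom U).symm
  haveI : QuasiCompact V.ι :=
    MorphismProperty.of_isPullback (isPullback_morphismRestrict P.hom U) inferInstance
  constructor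
  · intro a b h
    refine Over.OverMorphism.ext (GrothLib.SchDense.ext_of_isSchematicallyDense Q.hom
      ((Over.w a).trans (Over.w b).symm) (isSchematicallyDense hV) ?_)
    have e := congrArg (fun c : (Over.pullback U.ι).obj P ⟶ (Over.pullback U.ι).obj Q =>
      l ≫ c.left ≫ pullback.fst Q.hom U.ι) h
    simpa [l] using e
  · intro h'
    obtain ⟨s, hs, hsU⟩ := exists_extend hV Q.hom P.hom (l ≫ h'.left ≫ pullback.fst Q.hom U.ι) (by
      have hw := Over.w h'
      simp only [Over.pullback_obj_hom] at hw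
      simp only [Category.assoc, pullback.condition]
      rw [reassoc_of% hw]
      simp [l, V, pullback.condition, morphismRestrict_ι])
    refine ⟨Over.homMk s hs, Over.OverMorphism.ext ?_⟩
    haveI : IsIso l := by
      have : l = ((isPullback_morphismRestrict P.hom U).flip.isoPullback).hom := by
        apply pullback.hom_ext <;> simp [l, V]
      rw [this]; infer_instance
    apply pullback.hom_ext
    · rw [← cancel_epi l]
      simpa [l] using hsU
    · have hw := Over.w h'
      simp only [Over.pullback_obj_hom] at hw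
      simp [hw]

end GrothLib.HartogsQC
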