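import Mathlib.Algebra.Category.Ring.Constructions
import Mathlib.RingTheory.Flat.FaithfullyFlat.Algebra
import Mathlib.RingTheory.RingHom.FaithfullyFlat
import Mathlib.LinearAlgebra.TensorProduct.Prod

/-!
Eigenelements in a flat base change come from eigenelements.
-/

set_option autoImplicit false

universe u

open CategoryTheory TensorProduct Algebra.TensorProduct

namespace GrothLib.Torsor21

theorem exists_rTensor_ker {R : Type u} [CommRing R] {V W M : Type u} [AddCommGroup V] [Module R V]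
    [AddCommGroup W] [Module R W] [AddCommGroup M] [Module R M] [Module.Flat R M] (φ : V →ₗ[R] W)
    (x : V ⊗[R] M) (hx : φ.rTensor M x = 0) : ∃ y, (LinearMap.ker φ).subtype.rTensor M y = x :=
  (Module.Flat.rTensor_exact (M := M) φ.exact_subtype_ker_map x).1 hx

variable {A B B₂ C Q Q' : CommRingCat.{u}} {k : A ⟶ B} {φ : A ⟶ B₂} {ι : B ⟶ Q} {ρ : B₂ ⟶ Q}
  {k' : A ⟶ C} {ι' : C ⟶ Q'} {ρ' : B₂ ⟶ Q'}

/-- The identification of two pushouts with tensor products commutes with base changed maps. -/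
theorem map_isoIsPushout (po : IsPushout k φ ι ρ) (po' : IsPushout k' φ ι' ρ') (a : B ⟶ C) (ha : k ≫ a = k')
    (α : Q ⟶ Q') (hι : ι ≫ α = a ≫ ι') (hρ : ρ ≫ α = ρ') :
    letI := k.hom.toAlgebra; letI := k'.hom.toAlgebra; letI := φ.hom.toAlgebra
    ∀ z : Q, (AlgHom.toLinearMap ({ a.hom with commutes' := fun t => ConcreteCategory.congr_hom ha t } :
        B →ₐ[A] C)).rTensor B₂ ((po.isoIsPushout _ _ (CommRingCat.isPushout_tensorProduct A B B₂)).hom z) =
      (po'.isoIsPushout _ _ (CommRingCat.isPushout_tensorProduct A C B₂)).hom (α z) := by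
  let _ := k.hom.toAlgebra; let _ := k'.hom.toAlgebra; let _ := φ.hom.toAlgebra
  let a' : B →ₐ[A] C := { a.hom with commutes' := fun t => ConcreteCategory.congr_hom ha t }
  let e := po.isoIsPushout _ _ (CommRingCat.isPushout_tensorProduct A B B₂)
  let e' := po'.isoIsPushout _ _ (CommRingCat.isPushout_tensorProduct A C B₂)
  have h : e.hom ≫ CommRingCat.ofHom (Algebra.TensorProduct.map a' (AlgHom.id A B₂)).toRingHom = α ≫ e'.hom := by
    apply po.hom_ext
    · rw [IsPushout.inl_isoIsPushout_hom_assoc, reassoc_of% hι, IsPushout.inl_isoIsPushout_hom]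
      ext b
      exact Algebra.TensorProduct.map_tmul _ _ _ _
    · rw [IsPushout.inr_isoIsPushout_hom_assoc, reassoc_of% hρ, IsPushout.inr_isoIsPushout_hom]
      ext b
      exact (Algebra.TensorProduct.map_tmul _ _ _ _).trans
        (congrArg (fun s => s ⊗ₜ[A] b) (map_one a'))
  intro z
  have h' := ConcreteCategory.congr_hom h z
  refine Eq.trans ?_ h'
  show a'.toLinearMap.rTensor B₂ (e.hom z) = Algebra.TensorProduct.map a' (AlgHom.id A B₂) (e.hom z)
  generalize e.hom z = x
  induction x using TensorProduct.induction_on with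
  | zero => exact (map_zero _).trans (map_zero _).symm
  | tmul b c => exact (Algebra.TensorProduct.map_tmul a' (AlgHom.id A B₂) b c).symm
  | add x y hx hy => exact ((map_add _ x y).trans (congrArg₂ (· + ·) hx hy)).trans (map_add _ x y).symm

/-- Multiplicative eigenelements. -/
theorem mem_span_of_eigen (po : IsPushout k φ ι ρ) (po' : IsPushout k' φ ι' ρ') (hφ : φ.hom.Flat)
    (a b : B ⟶ C) (ha : k ≫ a = k') (hb : k ≫ b = k') (α β : Q ⟶ Q')
    (hαι : ι ≫ α = a ≫ ι') (hαρ : ρ ≫ α = ρ') (hβι : ι ≫ β = b ≫ ι') (hβρ : ρ ≫ β = ρ')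
    (g : C) (f : Q) (h : α f = ι' g * β f) :
    f ∈ Ideal.span (ι '' {w : B | a w = g * b w}) := by
  let _ := k.hom.toAlgebra; let _ := k'.hom.toAlgebra; let _ := φ.hom.toAlgebra
  haveI : Module.Flat A B₂ := hφ
  let a' : B →ₐ[A] C := { a.hom with commutes' := fun t => ConcreteCategory.congr_hom ha t }
  let b' : B →ₐ[A] C := { b.hom with commutes' := fun t => ConcreteCategory.congr_hom hb t }
  let e := po.isoIsPushout _ _ (CommRingCat.isPushout_tensorProduct A B B₂)
  let e' := po'.isoIsPushout _ _ (CommRingCat.isPushout_tensorProduct A C B₂)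
  let ψ : B →ₗ[A] C := a'.toLinearMap - (LinearMap.mulLeft A g).comp b'.toLinearMap
  have hmul : ∀ y : C ⊗[A] B₂, (LinearMap.mulLeft A g).rTensor B₂ y = g ⊗ₜ[A] (1 : B₂) * y := fun y => by
    induction y using TensorProduct.induction_on with
    | zero => rw [map_zero, mul_zero]
    | tmul c d => simp
    | add x y hx hy => rw [map_add, hx, hy, mul_add]
  have hg : e'.hom (ι' g) = g ⊗ₜ[A] (1 : B₂) :=
    ConcreteCategory.congr_hom (po'.inl_isoIsPushout_hom _ _ (CommRingCat.isPushout_tensorProduct A C B₂)) g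
  have hx : ψ.rTensor B₂ (e.hom f) = 0 := by
    rw [LinearMap.rTensor_sub, LinearMap.sub_apply, LinearMap.rTensor_comp, LinearMap.comp_apply,
      map_isoIsPushout po po' a ha α hαι hαρ f, map_isoIsPushout po po' b hb β hβι hβρ f, hmul, h, map_mul, hg]
    exact sub_self _
  obtain ⟨y, hy⟩ := exists_rTensor_ker ψ (e.hom f) hx
  have key : ∀ y : (LinearMap.ker ψ) ⊗[A] B₂, e.inv ((LinearMap.ker ψ).subtype.rTensor B₂ y) ∈
      Ideal.span (ι '' {w : B | a w = g * b w}) := fun y => by
    induction y using TensorProduct.induction_on with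
    | zero => rw [map_zero]; exact (map_zero e.inv.hom).symm ▸ zero_mem _
    | tmul w d =>
      have hwd : e.inv ((w : B) ⊗ₜ[A] d) = ι (w : B) * ρ d := by
        have : ((w : B) ⊗ₜ[A] d) = e.hom (ι (w : B) * ρ d) := by
          rw [map_mul, ← ConcreteCategory.comp_apply, ← ConcreteCategory.comp_apply,
            IsPushout.inl_isoIsPushout_hom, IsPushout.inr_isoIsPushout_hom]
          simp
        rw [this, ← ConcreteCategory.comp_apply, e.hom_inv_id]; rfl
      rw [LinearMap.rTensor_tmul, Submodule.subtype_apply, hwd]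
      exact Ideal.mul_mem_right _ _ (Ideal.subset_span ⟨w, sub_eq_zero.1 w.2, rfl⟩)
    | add x y hx hy => rw [map_add]; exact (map_add e.inv.hom _ _).symm ▸ add_mem hx hy
  have hf := key y
  rw [hy, ← ConcreteCategory.comp_apply, e.hom_inv_id] at hf
  exact hf

/-- Additive eigenelements. -/
theorem exists_of_affine_eigen (po : IsPushout k φ ι ρ) (po' : IsPushout k' φ ι' ρ') (hφ : φ.hom.FaithfullyFlat)
    (a b : B ⟶ C) (ha : k ≫ a = k') (hb : k ≫ b = k') (α β : Q ⟶ Q')
    (hαι : ι ≫ α = a ≫ ι') (hαρ : ρ ≫ α = ρ') (hβι : ι ≫ β = b ≫ ι') (hβρ : ρ ≫ β = ρ')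
    (g : C) (f : Q) (h : α f = β f + ι' g) : ∃ w : B, a w = b w + g := by
  let _ := k.hom.toAlgebra; let _ := k'.hom.toAlgebra; let _ := φ.hom.toAlgebra
  haveI : Module.FaithfullyFlat A B₂ := hφ
  let a' : B →ₐ[A] C := { a.hom with commutes' := fun t => ConcreteCategory.congr_hom ha t }
  let b' : B →ₐ[A] C := { b.hom with commutes' := fun t => ConcreteCategory.congr_hom hb t }
  let e := po.isoIsPushout _ _ (CommRingCat.isPushout_tensorProduct A B B₂)
  let e' := po'.isoIsPushout _ _ (CommRingCat.isPushout_tensorProduct A C B₂)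
  let ψ : (B × A) →ₗ[A] C :=
    (a'.toLinearMap - b'.toLinearMap).comp (LinearMap.fst A B A) -
      (LinearMap.toSpanSingleton A C g).comp (LinearMap.snd A B A)
  let x : (B × A) ⊗[A] B₂ := (LinearMap.inl A B A).rTensor B₂ (e.hom f) + ((0 : B), (1 : A)) ⊗ₜ[A] (1 : B₂)
  have hg : e'.hom (ι' g) = g ⊗ₜ[A] (1 : B₂) :=
    ConcreteCategory.congr_hom (po'.inl_isoIsPushout_hom _ _ (CommRingCat.isPushout_tensorProduct A C B₂)) g
  have hx : ψ.rTensor B₂ x = 0 := by
    have h1 : ψ.comp (LinearMap.inl A B A) = a'.toLinearMap - b'.toLinearMap := by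
      ext w; simp [ψ]
    have h2 : ψ ((0 : B), (1 : A)) = -g := by simp [ψ]
    rw [map_add, ← LinearMap.comp_apply, ← LinearMap.rTensor_comp, h1, LinearMap.rTensor_tmul, h2,
      LinearMap.rTensor_sub, LinearMap.sub_apply,
      map_isoIsPushout po po' a ha α hαι hαρ f, map_isoIsPushout po po' b hb β hβι hβρ f, h, map_add, hg,
      TensorProduct.neg_tmul]
    abel
  obtain ⟨y, hy⟩ := exists_rTensor_ker ψ x hx
  let L : LinearMap.ker ψ →ₗ[A] A := (LinearMap.snd A B A).comp (LinearMap.ker ψ).subtype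
  let I : Ideal A := LinearMap.range L
  have hI : ∀ z : (LinearMap.ker ψ) ⊗[A] B₂,
      TensorProduct.lid A B₂ (L.rTensor B₂ z) ∈ I.map (algebraMap A B₂) := fun z => by
    induction z using TensorProduct.induction_on with
    | zero => simp
    | tmul w d =>
      rw [LinearMap.rTensor_tmul, TensorProduct.lid_tmul, Algebra.smul_def]
      exact Ideal.mul_mem_right _ _ (Ideal.mem_map_of_mem _ ⟨w, rfl⟩)
    | add x y hx hy => rw [map_add, map_add]; exact add_mem hx hy
  have h1 := hI y
  rw [show L.rTensor B₂ y = (1 : A) ⊗ₜ[A] (1 : B₂) by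
    rw [LinearMap.rTensor_comp, LinearMap.comp_apply, hy, map_add, ← LinearMap.comp_apply,
      ← LinearMap.rTensor_comp, LinearMap.snd_comp_inl, LinearMap.rTensor_zero]
    simp, TensorProduct.lid_tmul, one_smul] at h1
  have h2 : (1 : A) ∈ I := by
    rw [← I.comap_map_eq_self_of_faithfullyFlat (B := B₂), Ideal.mem_comap, map_one]
    exact h1
  obtain ⟨⟨⟨w, c⟩, hw⟩, hc⟩ := h2
  refine ⟨w, ?_⟩
  obtain rfl : c = 1 := hc
  simp [ψ, a', b', sub_eq_zero] at hw
  linear_combination hw

end GrothLib.Torsor21
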