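import Groth.Agent.Lib.Torsor21.Local
import Groth.Agent.Lib.Torsor21.FlatKer
import Groth.Agent.Lib.DiagGrp.ActionTrivial
import Mathlib.AlgebraicGeometry.Morphisms.Affine
import Mathlib.AlgebraicGeometry.Sites.Fpqc

/-!
The local geometry of a pseudo-torsor over an affine open of the base.
-/

set_option autoImplicit false
set_option backward.isDefEq.respectTransparency false
set_option backward.isDefEq.respectTransparency.types false

universe u

open CategoryTheory CategoryTheory.Limits MonoidalCategory CartesianMonoidalCategory MonObj GrpObj AlgebraicGeometry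

namespace GrothLib.Torsor21

variable {S : Scheme.{u}} {G X : Over S} [GrpObj G] (a : AlgGrp.Action G X) {T : Over S}

/-- The torsor over an open of the base. -/
noncomputable abbrev resY (U : S.Opens) (X : Over S) : Over S := Over.mk (pullback.fst X.hom U.ι ≫ X.hom)

variable (X) (U : S.Opens)

/-- The tautological point. -/
noncomputable abbrev resPt : resY U X ⟶ X := Over.homMk (pullback.fst X.hom U.ι) rfl

/-- The projection to the open. -/
noncomputable abbrev resπ : (resY U X).left ⟶ (U : Scheme.{u}) := pullback.snd X.hom U.ι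

theorem resπ_ι : resπ X U ≫ U.ι = (resY U X).hom := pullback.condition.symm

variable (G) in
/-- The domain of the action over the open. -/
noncomputable abbrev resZ : Over S := G ⊗ resY U X

variable {X} in
/-- The translated point. -/
noncomputable abbrev resActPt : resZ G X U ⟶ X :=
  lift (fst G (resY U X)) (snd G (resY U X) ≫ resPt X U) ≫ a.act

variable (G) in
/-- The structure map of the domain of the action. -/
noncomputable abbrev resζ : (resZ G X U).left ⟶ (U : Scheme.{u}) :=
  (snd G (resY U X)).left ≫ resπ X U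

variable {X} in
/-- The action over the open. -/
noncomputable def resAct : (resZ G X U).left ⟶ (resY U X).left :=
  pullback.lift (resActPt a U).left (resζ G X U) (by
    rw [Category.assoc, resπ_ι X U]
    exact (Over.w (resActPt a U)).trans (Over.w (snd G (resY U X))).symm)

variable {X} in
theorem resAct_fst : resAct a U ≫ pullback.fst X.hom U.ι = (resActPt a U).left := pullback.lift_fst _ _ _

variable {X} in
theorem resAct_π : resAct a U ≫ resπ X U = resζ G X U := pullback.lift_snd _ _ _

/-- Pairs of points in one fibre. -/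
noncomputable abbrev resW : Over S :=
  Over.mk (pullback.fst (resπ X U) (resπ X U) ≫ (resY U X).hom)

theorem resW_snd : pullback.snd (resπ X U) (resπ X U) ≫ (resY U X).hom = (resW X U).hom := by
  change _ = pullback.fst _ _ ≫ _
  rw [← resπ_ι X U, ← Category.assoc, ← Category.assoc, pullback.condition]

/-- The first point of a pair. -/
noncomputable abbrev resW₁ : resW X U ⟶ X :=
  (Over.homMk (pullback.fst _ _) rfl : resW X U ⟶ resY U X) ≫ resPt X U

/-- The second point of a pair. -/
noncomputable abbrev resW₂ : resW X U ⟶ X :=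
  (Over.homMk (pullback.snd _ _) (resW_snd X U) : resW X U ⟶ resY U X) ≫ resPt X U

variable {X} {a}

/-- The base change of the action and of the projection to pairs, and their effect on the difference. -/
theorem translate_diff (hps : NonAbH1.IsPseudoTorsorSch a) :
    ∃ (g : resW X U ⟶ G) (A P : Over.mk (pullback.fst (resζ G X U) (resπ X U) ≫ (resZ G X U).hom) ⟶
        resW X U),
      A.left ≫ pullback.fst _ _ = pullback.fst _ _ ≫ resAct a U ∧
      A.left ≫ pullback.snd _ _ = pullback.snd _ _ ∧
      P.left ≫ pullback.fst _ _ = pullback.fst _ _ ≫ (snd G (resY U X)).left ∧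
      P.left ≫ pullback.snd _ _ = pullback.snd _ _ ∧
      lift g (resW₂ X U) ≫ a.act = resW₁ X U ∧
      A ≫ g = ((Over.homMk (pullback.fst _ _) rfl : _ ⟶ resZ G X U) ≫ fst G (resY U X)) * (P ≫ g) := by
  obtain ⟨g, hg⟩ := TorsorDesc.exists_act_eq hps (resW₁ X U) (resW₂ X U)
  let Z2 := Over.mk (pullback.fst (resζ G X U) (resπ X U) ≫ (resZ G X U).hom)
  let q : Z2 ⟶ resZ G X U := Over.homMk (pullback.fst _ _) rfl
  let Al : Z2.left ⟶ (resW X U).left :=
    pullback.lift (pullback.fst _ _ ≫ resAct a U) (pullback.snd _ _)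
      (by rw [Category.assoc, resAct_π]; exact pullback.condition)
  let Pl : Z2.left ⟶ (resW X U).left :=
    pullback.lift (pullback.fst _ _ ≫ (snd G (resY U X)).left) (pullback.snd _ _)
      (by rw [Category.assoc]; exact pullback.condition)
  have hA1 : Al ≫ pullback.fst _ _ = pullback.fst _ _ ≫ resAct a U := pullback.lift_fst _ _ _
  have hA2 : Al ≫ pullback.snd _ _ = pullback.snd _ _ := pullback.lift_snd _ _ _
  have hP1 : Pl ≫ pullback.fst _ _ = pullback.fst _ _ ≫ (snd G (resY U X)).left := pullback.lift_fst _ _ _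
  have hP2 : Pl ≫ pullback.snd _ _ = pullback.snd _ _ := pullback.lift_snd _ _ _
  let A : Z2 ⟶ resW X U := Over.homMk Al (by
    change Al ≫ pullback.fst _ _ ≫ _ = _
    rw [reassoc_of% hA1]
    change pullback.fst _ _ ≫ resAct a U ≫ pullback.fst X.hom U.ι ≫ X.hom = _
    rw [reassoc_of% (resAct_fst a U), Over.w]
    rfl)
  let P : Z2 ⟶ resW X U := Over.homMk Pl (by
    change Pl ≫ pullback.fst _ _ ≫ _ = _
    rw [reassoc_of% hP1, Over.w]
    rfl)
  refine ⟨g, A, P, hA1, hA2, hP1, hP2, hg, ?_⟩
  let u1 : Z2 ⟶ X := q ≫ snd G (resY U X) ≫ resPt X U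
  have hP1' : P ≫ resW₁ X U = u1 := by
    apply Over.OverMorphism.ext
    exact (reassoc_of% hP1) (pullback.fst X.hom U.ι)
  have hA1' : A ≫ resW₁ X U = lift (q ≫ fst G (resY U X)) u1 ≫ a.act := by
    apply Over.OverMorphism.ext
    refine ((reassoc_of% hA1) (pullback.fst X.hom U.ι)).trans ?_
    rw [resAct_fst]
    have : lift (q ≫ fst G (resY U X)) u1 ≫ a.act = q ≫ resActPt a U := by
      rw [resActPt, ← Category.assoc q, comp_lift]
    rw [this]
    rfl
  have h2 : A ≫ resW₂ X U = P ≫ resW₂ X U := by
    apply Over.OverMorphism.ext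
    exact ((reassoc_of% hA2) (pullback.fst X.hom U.ι)).trans ((reassoc_of% hP2) (pullback.fst X.hom U.ι)).symm
  refine TorsorDesc.act_left_injective hps (p := P ≫ resW₂ X U) ?_
  have hA := congrArg (A ≫ ·) hg
  have hP := congrArg (P ≫ ·) hg
  simp only [comp_lift_assoc, hA1', hP1', h2] at hA hP
  rw [hA, DiagGrp.act_mul, hP]

/-- An invariant morphism from a fpqc covering of an open descends to a section. -/
theorem hasSectionOver_of_invariant {O V : Scheme.{u}} (p : O ⟶ V) [Flat p] [Surjective p] [QuasiCompact p]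
    (v : V ⟶ S) (x : Over.mk (p ≫ v) ⟶ X)
    (hinv : ∀ {Z : Scheme.{u}} (c d : Z ⟶ O), c ≫ p = d ≫ p → c ≫ x.left = d ≫ x.left) :
    NonAbH1.HasSectionOver X v := by
  refine ⟨EffectiveEpi.desc p x.left hinv, ?_⟩
  rw [← cancel_epi p, ← Category.assoc, EffectiveEpi.fac]
  exact Over.w x

end GrothLib.Torsor21
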