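import Groth.Agent.Lib.RedPts.Ga
import Groth.Agent.Lib.DiagGrp.Points
import Mathlib.RingTheory.AdjoinRoot
import Mathlib.RingTheory.RingHom.FaithfullyFlat

/-!
The Artin-Schreier polynomial map is faithfully flat.
-/

set_option autoImplicit false

universe u

open Polynomial

namespace GrothLib.Torsor21

noncomputable section

/-- The map `Y ↦ X - X ^ p` on polynomial rings. -/
abbrev asMap (R : Type u) [CommRing R] (p : ℕ) : R[X] →+* R[X] := eval₂RingHom C (X - X ^ p)

theorem faithfullyFlat_asMap (R : Type u) [CommRing R] [Nontrivial R] {p : ℕ} (hp : 1 < p) :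
    (asMap R p).FaithfullyFlat := by
  let q : R[X][X] := (X : R[X][X]) ^ p + (-(X : R[X][X]) + C (X : R[X]))
  have hq : q.Monic := by
    refine monic_X_pow_add ?_
    refine lt_of_le_of_lt ?_ (by exact_mod_cast hp : ((1 : ℕ) : WithBot ℕ) < p)
    refine (degree_add_le _ _).trans (max_le ?_ ?_)
    · rw [degree_neg]; exact degree_X_le
    · exact degree_C_le.trans zero_le_one
  let fwd : AdjoinRoot q →+* R[X] := AdjoinRoot.lift (asMap R p) X (by simp [q, asMap]; ring)
  let bwd : R[X] →+* AdjoinRoot q := eval₂RingHom ((AdjoinRoot.of q).comp C) (AdjoinRoot.root q)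
  have h1 : bwd.comp (asMap R p) = AdjoinRoot.of q := by
    refine Polynomial.ringHom_ext (fun r => by simp [bwd, asMap]) ?_
    have h := AdjoinRoot.eval₂_root q
    simp only [q, eval₂_add, eval₂_pow, eval₂_X, eval₂_neg, eval₂_C] at h
    simp only [RingHom.comp_apply, asMap, bwd, coe_eval₂RingHom, eval₂_X, eval₂_sub, eval₂_pow]
    linear_combination -h
  have hb : Function.Bijective fwd := by
    refine ⟨Function.LeftInverse.injective (g := bwd) fun z => ?_,
      Function.RightInverse.surjective (g := bwd) fun z => ?_⟩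
    · obtain ⟨g, rfl⟩ := AdjoinRoot.mk_surjective z
      have : (bwd.comp fwd).comp (AdjoinRoot.mk q) = AdjoinRoot.mk q := by
        refine Polynomial.ringHom_ext (fun r => ?_) ?_
        · simpa [fwd] using DFunLike.congr_fun h1 r
        · simp [fwd, bwd]
      exact DFunLike.congr_fun this g
    · have : fwd.comp bwd = RingHom.id _ := by
        refine Polynomial.ringHom_ext (fun r => ?_) ?_
        · simp [fwd, bwd, asMap]
        · simp [fwd, bwd]
      exact DFunLike.congr_fun this z
  have e : asMap R p = fwd.comp (AdjoinRoot.of q) := RingHom.ext fun a => by simp [fwd]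
  rw [e]
  refine RingHom.FaithfullyFlat.stableUnderComposition _ _ ?_ (RingHom.FaithfullyFlat.of_bijective hb)
  have : Module.Free R[X] (AdjoinRoot q) := hq.free_adjoinRoot
  have : Nontrivial (AdjoinRoot q) :=
    Function.Surjective.nontrivial (f := fwd) hb.2
  exact (RingHom.faithfullyFlat_algebraMap_iff (R := R[X]) (S := AdjoinRoot q)).mpr inferInstance

open RedPts in
/-- The same map on the coordinate ring of the additive group. -/
theorem faithfullyFlat_gaMap {p : ℕ} (hp : 1 < p) :
    (RedPts.gaHomOfFn (RedPts.gaGen.{u} - RedPts.gaGen ^ p)).FaithfullyFlat := by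
  let a : GaCoord.{u} →+* (ULift.{u} ℤ)[X] := gaHomOfFn X
  let b : (ULift.{u} ℤ)[X] →+* GaCoord.{u} := eval₂RingHom (algebraMap (ULift.{u} ℤ) GaCoord.{u}) gaGen
  have hab : a.comp b = RingHom.id _ := by
    refine Polynomial.ringHom_ext (fun r => ?_) ?_
    · exact RingHom.congr_fun (DiagGrp.ulift_int_hom_ext ((a.comp b).comp C) C) r
    · simp [a, b, gaHomOfFn_gen]
  have hba : b.comp a = RingHom.id _ := by
    refine ringHom_ext_gen ?_
    simp [a, b, gaHomOfFn_gen]
  have e : RedPts.gaHomOfFn (RedPts.gaGen.{u} - RedPts.gaGen ^ p) = (b.comp (asMap _ p)).comp a := by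
    refine ringHom_ext_gen ?_
    simp [a, b, asMap, gaHomOfFn_gen]
  have hA : Function.Bijective a := ⟨Function.LeftInverse.injective (g := b) (RingHom.congr_fun hba),
    Function.RightInverse.surjective (g := b) (RingHom.congr_fun hab)⟩
  have hB : Function.Bijective b := ⟨Function.LeftInverse.injective (g := a) (RingHom.congr_fun hab),
    Function.RightInverse.surjective (g := a) (RingHom.congr_fun hba)⟩
  rw [e]
  exact RingHom.FaithfullyFlat.stableUnderComposition _ _ (RingHom.FaithfullyFlat.of_bijective hA)
    (RingHom.FaithfullyFlat.stableUnderComposition _ _ (faithfullyFlat_asMap _ hp)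
      (RingHom.FaithfullyFlat.of_bijective hB))

end

end GrothLib.Torsor21
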