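import Groth.Agent.Lib.SmoothSection.QuasiSection
import Groth.Agent.Lib.GrpSchField.SepPoint
import Mathlib.FieldTheory.SeparableClosure
import Mathlib.AlgebraicGeometry.Sites.Etale
import Mathlib.AlgebraicGeometry.Fiber

/-!
# Étale local sections of smooth surjective morphisms
-/

set_option autoImplicit false

universe u

open CategoryTheory CategoryTheory.Limits AlgebraicGeometry

namespace GrothLib.Torsor21

/-- A nonempty smooth scheme over a field has a point with finite separable residue field extension. -/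
theorem exists_separable_point {κ : Type u} [Field κ] {F : Scheme.{u}} (f : F ⟶ Spec (CommRingCat.of κ))
    [Smooth f] [Nonempty F] :
    ∃ (L : Type u) (_ : Field L) (_ : Algebra κ L), FiniteDimensional κ L ∧ Algebra.IsSeparable κ L ∧
      ∃ c : Spec (CommRingCat.of L) ⟶ F, c ≫ f = Spec.map (CommRingCat.ofHom (algebraMap κ L)) := by
  let K := SeparableClosure κ
  let τ : Spec (CommRingCat.of K) ⟶ Spec (CommRingCat.of κ) := Spec.map (CommRingCat.ofHom (algebraMap κ K))
  obtain ⟨x⟩ := ‹Nonempty F›
  obtain ⟨z, -, -⟩ := Scheme.Pullback.exists_preimage_pullback (f := f) (g := τ) x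
    (IsLocalRing.closedPoint K) (Subsingleton.elim (α := PrimeSpectrum κ) _ _)
  have : Nonempty (pullback f τ : Scheme.{u}) := ⟨z⟩
  obtain ⟨σ, hσ⟩ := GrpSchField.exists_section_of_smooth (pullback.snd f τ)
  let c : Spec (CommRingCat.of K) ⟶ F := σ ≫ pullback.fst f τ
  have hc : c ≫ f = τ := by
    rw [Category.assoc, pullback.condition, reassoc_of% hσ]
  obtain ⟨V, hV, hxV, -⟩ := exists_isAffineOpen_mem_and_subset (X := F)
    (x := c (IsLocalRing.closedPoint K)) (U := ⊤) trivial
  let χ : Γ(F, V) ⟶ CommRingCat.of K := Spec.preimage (IsOpenImmersion.lift hV.fromSpec c (by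
    rintro _ ⟨w, rfl⟩
    rw [hV.range_fromSpec, Subsingleton.elim (α := PrimeSpectrum K) w (IsLocalRing.closedPoint K)]
    exact hxV))
  have hχ : Spec.map χ ≫ hV.fromSpec = c := by rw [Spec.map_preimage, IsOpenImmersion.lift_fac]
  let ψ : CommRingCat.of κ ⟶ Γ(F, V) := Spec.preimage (hV.fromSpec ≫ f)
  have hft : ψ.hom.FiniteType := by
    rw [← HasRingHomProperty.Spec_iff (P := @LocallyOfFiniteType), Spec.map_preimage]
    infer_instance
  have hψ : ψ ≫ χ = CommRingCat.ofHom (algebraMap κ K) := by
    apply Spec.map_injective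
    show _ = τ
    rw [Spec.map_comp, ← hc, ← hχ, Category.assoc]
    exact congrArg (Spec.map χ ≫ ·) (Spec.map_preimage _)
  letI := ψ.hom.toAlgebra
  have : Algebra.FiniteType κ Γ(F, V) := hft
  let g : Γ(F, V) →ₐ[κ] K := { χ.hom with commutes' := fun r => congr(($hψ).hom r) }
  let A := g.range
  have : Algebra.FiniteType κ A := Algebra.FiniteType.of_surjective g.rangeRestrict g.rangeRestrict_surjective
  have : Algebra.IsIntegral κ A :=
    Algebra.IsIntegral.of_injective A.val Subtype.val_injective
  have : Module.Finite κ A := Algebra.IsIntegral.finite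
  letI : Field A := (isField_of_isIntegral_of_isField' (R := κ) (S := A) (Field.toIsField κ)).toField
  refine ⟨A, inferInstance, inferInstance, inferInstance,
    Algebra.isSeparable_tower_bot_of_isSeparable κ A K, Spec.map (CommRingCat.ofHom g.rangeRestrict.toRingHom) ≫ hV.fromSpec, ?_⟩
  rw [Category.assoc, ← Spec.map_preimage (hV.fromSpec ≫ f), ← Spec.map_comp]
  congr 1
  ext1
  exact RingHom.ext fun r => Subtype.ext (g.commutes r)

/-- A smooth surjective morphism has étale quasi-sections through every point of the base. -/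
theorem exists_etale_sections {X S : Scheme.{u}} (f : X ⟶ S) [Smooth f] [Surjective f] :
    ∃ (U : S → Scheme.{u}) (p : ∀ s, U s ⟶ X),
      Presieve.ofArrows U (fun s => p s ≫ f) ∈ Scheme.etalePrecoverage S := by
  have key : ∀ s : S, ∃ (U : Scheme.{u}) (p : U ⟶ X) (z : U), Etale (p ≫ f) ∧ (p ≫ f) z = s := by
    intro s
    obtain ⟨x, hx⟩ := f.surjective s
    subst hx
    have : Nonempty (f.fiber (f x)) := ⟨f.asFiber x⟩
    obtain ⟨L, _, _, hfd, hsep, c, hc⟩ := @exists_separable_point (S.residueField (f x)) _ _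
      (f.fiberToSpecResidueField (f x)) (MorphismProperty.pullback_snd _ _ inferInstance) ‹_›
    obtain ⟨U, p, u, hup, het⟩ := SmoothSection.exists_etale_quasiSection f (f x) (c ≫ f.fiberι (f x))
      (by rw [Category.assoc, ← hc, Category.assoc]; exact congrArg (c ≫ ·) pullback.condition)
    refine ⟨U, p, u (IsLocalRing.closedPoint _), het, ?_⟩
    rw [Scheme.Hom.comp_apply, ← Scheme.Hom.comp_apply u p, hup, Scheme.Hom.comp_apply]
    have h : f.fiberι (f x) (c (IsLocalRing.closedPoint L)) ∈ Set.range (f.fiberι (f x)) := ⟨_, rfl⟩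
    rwa [Scheme.Hom.range_fiberι] at h
  choose U p z het hz using key
  refine ⟨U, p, ?_⟩
  rw [Scheme.etalePrecoverage, Scheme.ofArrows_mem_precoverage_iff]
  exact ⟨fun s => ⟨s, z s, hz s⟩, het⟩

end GrothLib.Torsor21
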