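import Groth.Agent.Lib.RedPts.Ga
import Groth.Agent.Lib.Torsor21.ASPoly
import Groth.Agent.Lib.HomScheme.Const
import Groth.Prelude.Def_TwC
import Mathlib.FieldTheory.Finite.Basic
import Mathlib.AlgebraicGeometry.Sites.Fpqc

/-!
Roots of `x ^ p = x` on schemes of characteristic `p`, and the Artin-Schreier morphism.
-/

set_option autoImplicit false
set_option backward.isDefEq.respectTransparency false
set_option backward.isDefEq.respectTransparency.types false

universe u

open CategoryTheory CategoryTheory.Limits MonoidalCategory CartesianMonoidalCategory MonObj AlgebraicGeometry Opposite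
open TopologicalSpace (Opens)

namespace GrothLib.Torsor21

theorem natCast_mod {R : Type*} [CommRing R] {p : ℕ} (hp : (p : R) = 0) (a : ℕ) : ((a % p : ℕ) : R) = a := by
  conv_rhs => rw [← Nat.mod_add_div a p]
  simp [hp]

theorem natCast_val_pow {R : Type*} [CommRing R] {p : ℕ} [Fact p.Prime] (hp : (p : R) = 0) (m : ZMod p) :
    ((m.val : R)) ^ p = m.val := by
  rw [← Nat.cast_pow, ← natCast_mod hp (m.val ^ p)]
  congr 1
  have h : ((m.val ^ p : ℕ) : ZMod p) = m := by
    rw [Nat.cast_pow, ZMod.pow_card, ZMod.natCast_val, ZMod.cast_id]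
  exact (ZMod.val_natCast p (m.val ^ p)).symm.trans (congrArg ZMod.val h)

theorem sub_pow_prime {R : Type*} [CommRing R] {p : ℕ} [Fact p.Prime] (hp : (p : R) = 0) (a b : R) :
    (a - b) ^ p = a ^ p - b ^ p := by
  obtain ⟨r, hr⟩ := exists_add_pow_prime_eq (Fact.out : p.Prime) (a - b) b
  rw [sub_add_cancel, hp] at hr
  linear_combination -hr

/-- In a field of characteristic `p` a root of `x ^ p = x` is a unique residue mod `p`. -/
theorem exists_natCast_eq {K : Type*} [Field K] {p : ℕ} [Fact p.Prime] (hp : (p : K) = 0) {a : K}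
    (ha : a ^ p = a) : ∃ m : ZMod p, (m.val : K) = a ∧ ∀ m' : ZMod p, (m'.val : K) = a → m' = m := by
  haveI : CharP K p := (CharP.charP_iff_prime_eq_zero Fact.out).mpr hp
  obtain ⟨n, hn⟩ := (mem_bot_iff_intCast p K).1 ((Subfield.mem_bot_iff_pow_eq_self (F := K) p).2 ha)
  refine ⟨(n : ZMod p), ?_, fun m' hm' => ?_⟩
  · rw [ZMod.natCast_val, ZMod.cast_intCast']
    exact hn
  · have h1 : ((m'.val : ℤ) : K) = (n : K) := by rw [hn, Int.cast_natCast, hm']
    rw [CharP.intCast_eq_intCast K p] at h1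
    rw [← (ZMod.intCast_eq_intCast_iff _ _ p).2 h1, Int.cast_natCast, ZMod.natCast_val, ZMod.cast_id]

noncomputable section

variable {p : ℕ} [Fact p.Prime] {S : Scheme.{u}}

theorem natCast_eq_zero_top (hp : (p : Γ(S, ⊤)) = 0) (T : Over S) : (p : Γ(T.left, ⊤)) = 0 := by
  rw [← map_natCast T.hom.appTop.hom, hp, map_zero]

/-- The locus where `t` takes the residue `m`. -/
def asLocus {X : Scheme.{u}} (t : Γ(X, ⊤)) (m : ZMod p) : X.Opens :=
  X.basicOpen (1 - (t - (m.val : Γ(X, ⊤))) ^ (p - 1))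

theorem mem_asLocus_iff {X : Scheme.{u}} (hp : (p : Γ(X, ⊤)) = 0) {t : Γ(X, ⊤)} (ht : t ^ p = t) (m : ZMod p)
    (x : X) : x ∈ asLocus t m ↔ X.evaluation ⊤ x trivial t = (m.val : X.residueField x) := by
  set ev := (X.evaluation ⊤ x trivial).hom
  have hpK : (p : X.residueField x) = 0 := by rw [← map_natCast ev, hp, map_zero]
  have hsub : (ev t - (m.val : X.residueField x)) ^ p = ev t - (m.val : X.residueField x) := by
    rw [sub_pow_prime hpK, natCast_val_pow hpK, ← map_pow, ht]
  have h2 : (p - 1) + 1 = p := Nat.succ_pred_eq_of_pos (Fact.out : p.Prime).pos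
  rw [asLocus, ← Scheme.evaluation_ne_zero_iff_mem_basicOpen (U := ⊤) X x trivial]
  change ev _ ≠ 0 ↔ ev t = _
  rw [map_sub, map_one, map_pow, map_sub, map_natCast]
  rcases eq_or_ne (ev t) (m.val : X.residueField x) with h | h
  · simp [h, zero_pow (Nat.sub_ne_zero_of_lt (Fact.out : p.Prime).one_lt)]
  · simp only [h, iff_false, not_not]
    have h3 : (ev t - (m.val : X.residueField x)) ^ (p - 1) * (ev t - (m.val : X.residueField x)) =
        1 * (ev t - (m.val : X.residueField x)) := by rw [← pow_succ, h2, hsub, _root_.one_mul]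
    rw [mul_right_cancel₀ (sub_ne_zero.2 h) h3, sub_self]

theorem asLocus_cover {X : Scheme.{u}} (hp : (p : Γ(X, ⊤)) = 0) {t : Γ(X, ⊤)} (ht : t ^ p = t) :
    TopologicalSpace.IsOpenCover (asLocus (p := p) t) := by
  refine TopologicalSpace.IsOpenCover.mk (eq_top_iff.mpr fun x _ => ?_)
  set ev := (X.evaluation ⊤ x trivial).hom
  obtain ⟨m, hm, -⟩ := exists_natCast_eq (K := X.residueField x) (a := ev t)
    (by rw [← map_natCast ev, hp, map_zero]) (by rw [← map_pow, ht])
  exact Opens.mem_iSup.mpr ⟨m, (mem_asLocus_iff hp ht m x).2 hm.symm⟩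

theorem asLocus_unique {X : Scheme.{u}} (hp : (p : Γ(X, ⊤)) = 0) {t : Γ(X, ⊤)} (ht : t ^ p = t) {m m' : ZMod p}
    {x : X} (h : x ∈ asLocus t m) (h' : x ∈ asLocus t m') : m = m' := by
  set ev := (X.evaluation ⊤ x trivial).hom
  obtain ⟨n, -, hu⟩ := exists_natCast_eq (K := X.residueField x) (a := ev t)
    (by rw [← map_natCast ev, hp, map_zero]) (by rw [← map_pow, ht])
  rw [hu m ((mem_asLocus_iff hp ht m x).1 h).symm, hu m' ((mem_asLocus_iff hp ht m' x).1 h').symm]

theorem appTop_ι_eq {X : Scheme.{u}} (hp : (p : Γ(X, ⊤)) = 0) {t : Γ(X, ⊤)} (ht : t ^ p = t) (m : ZMod p) :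
    (asLocus t m).ι.appTop t = (m.val : Γ((asLocus t m).toScheme, ⊤)) := by
  set f := (asLocus t m).ι.appTop.hom
  set s := t - (m.val : Γ(X, ⊤))
  have hu : IsUnit (f (1 - s ^ (p - 1))) := by
    refine RingedSpace.isUnit_of_isUnit_germ (asLocus t m).toScheme.toLocallyRingedSpace.toRingedSpace _ _
      fun x hx => ?_
    refine (Scheme.mem_basicOpen (asLocus t m).toScheme _ x hx).1 ?_
    change x ∈ (asLocus t m).toScheme.basicOpen ((asLocus t m).ι.appTop _)
    rw [← Scheme.preimage_basicOpen_top]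
    exact x.2
  have h0 : f s * f (1 - s ^ (p - 1)) = 0 := by
    rw [← map_mul, mul_sub, _root_.mul_one, ← pow_succ', Nat.sub_add_cancel (Fact.out : p.Prime).one_le,
      sub_pow_prime hp, natCast_val_pow hp, ht, sub_self, map_zero]
  have h1 : f s = 0 := by rwa [IsUnit.mul_left_eq_zero hu] at h0
  rw [map_sub, sub_eq_zero, map_natCast] at h1
  exact h1

variable {G' : Over S} [GrpObj G'] (e : G' ≅ TwC.const S (Multiplicative (ZMod p)))
  (i : G' ⟶ Red.Ga S) [IsMonHom i]

set_option synthInstance.maxHeartbeats 200000 in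
/-- The image of the constant point of index `m`. -/
theorem gaFn_pt (he : TwC.IsConstGrp (Multiplicative (ZMod p)) G' e)
    (hi : Red.gaFn (TwC.pt S (Multiplicative (ZMod p)) (Multiplicative.ofAdd 1) ≫ e.inv ≫ i) = 1) (k : ℕ) :
    Red.gaFn (TwC.pt S (Multiplicative (ZMod p)) (Multiplicative.ofAdd (k : ZMod p)) ≫ e.inv ≫ i) = k := by
  have hone : ∀ {T : Over S}, (1 : T ⟶ G') ≫ i = 1 := MonObj.one_comp i
  have hmul : ∀ {T : Over S} (a b : T ⟶ G'), (a * b) ≫ i = (a ≫ i) * (b ≫ i) := fun a b => MonObj.mul_comp a b i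
  induction k with
  | zero =>
    have h := he 1 1
    rw [_root_.one_mul, mul_eq_left] at h
    rw [Nat.cast_zero, ofAdd_zero, ← Category.assoc, h, hone, RedPts.gaFn_one, Nat.cast_zero]
  | succ k ih =>
    rw [Nat.cast_succ, ofAdd_add, ← Category.assoc, ← he, hmul, RedPts.gaFn_mul, Category.assoc,
      Category.assoc, ih, hi, Nat.cast_succ]

theorem gaFn_toUnit_pt (he : TwC.IsConstGrp (Multiplicative (ZMod p)) G' e)
    (hi : Red.gaFn (TwC.pt S (Multiplicative (ZMod p)) (Multiplicative.ofAdd 1) ≫ e.inv ≫ i) = 1) (T : Over S)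
    (m : ZMod p) :
    Red.gaFn ((toUnit T ≫ TwC.pt S (Multiplicative (ZMod p)) (Multiplicative.ofAdd m) ≫ e.inv) ≫ i) =
      (m.val : Γ(T.left, ⊤)) := by
  rw [Category.assoc, Category.assoc, RedPts.gaFn_comp]
  have h := gaFn_pt e i he hi m.val
  rw [ZMod.natCast_val, ZMod.cast_id] at h
  rw [h, map_natCast]

theorem existsUnique_lift_as (hp : (p : Γ(S, ⊤)) = 0) (he : TwC.IsConstGrp (Multiplicative (ZMod p)) G' e)
    (hi : Red.gaFn (TwC.pt S (Multiplicative (ZMod p)) (Multiplicative.ofAdd 1) ≫ e.inv ≫ i) = 1) {T : Over S}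
    (x : T ⟶ Red.Ga S) (hx : Red.gaFn x ^ p = Red.gaFn x) :
    ∃! z : T ⟶ G', z ≫ i = x := by
  have hpT := natCast_eq_zero_top hp T
  set t := Red.gaFn x
  let U : ZMod p → T.left.Opens := asLocus t
  have hcov : TopologicalSpace.IsOpenCover U := asLocus_cover hpT hx
  let 𝒰 := T.left.openCoverOfIsOpenCover U hcov
  let zU : ∀ m : ZMod p, Over.mk ((U m).ι ≫ T.hom) ⟶ G' := fun m =>
    toUnit _ ≫ TwC.pt S (Multiplicative (ZMod p)) (Multiplicative.ofAdd m) ≫ e.inv
  have hzU : ∀ m, zU m ≫ i = (Over.homMk (U m).ι rfl : Over.mk ((U m).ι ≫ T.hom) ⟶ T) ≫ x := fun m => by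
    refine RedPts.gaFn_injective ?_
    rw [gaFn_toUnit_pt e i he hi, RedPts.gaFn_comp]
    exact (appTop_ι_eq hpT hx m).symm
  have hagree : ∀ a b : ZMod p, pullback.fst (U a).ι (U b).ι ≫ (zU a).left =
      pullback.snd (U a).ι (U b).ι ≫ (zU b).left := by
    intro a b
    by_cases hab : a = b
    · subst hab
      have : pullback.fst (U a).ι (U a).ι = pullback.snd (U a).ι (U a).ι := (cancel_mono (U a).ι).1 pullback.condition
      rw [this]
    · have : IsEmpty (pullback (U a).ι (U b).ι : Scheme.{u}) := ⟨fun z => hab (asLocus_unique hpT hx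
        (x := (pullback.fst (U a).ι (U b).ι ≫ (U a).ι) z) (pullback.fst (U a).ι (U b).ι z).2
        (by rw [pullback.condition]; exact (pullback.snd (U a).ι (U b).ι z).2))⟩
      exact (isInitialOfIsEmpty (X := pullback (U a).ι (U b).ι)).hom_ext _ _
  let zl : T.left ⟶ G'.left := 𝒰.glueMorphisms (fun m => (zU m).left) hagree
  have hι : ∀ m, (U m).ι ≫ zl = (zU m).left := fun m => 𝒰.ι_glueMorphisms _ _ m
  have hw : zl ≫ G'.hom = T.hom := 𝒰.hom_ext _ _ fun m => by
    change (U m).ι ≫ zl ≫ G'.hom = (U m).ι ≫ T.hom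
    rw [← Category.assoc, hι]
    exact Over.w (zU m)
  refine existsUnique_of_exists_of_unique ⟨Over.homMk zl hw, ?_⟩ fun z z' hz hz' => ?_
  · apply Over.OverMorphism.ext
    refine 𝒰.hom_ext _ _ fun m => ?_
    change (U m).ι ≫ zl ≫ i.left = (U m).ι ≫ x.left
    rw [← Category.assoc, hι]
    exact congrArg CommaMorphism.left (hzU m)
  · suffices z ≫ e.hom = z' ≫ e.hom from (cancel_mono e.hom).1 this
    let P : Multiplicative (ZMod p) → (TwC.const S (Multiplicative (ZMod p))).left.Opens := fun m =>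
      (Sigma.ι (fun _ : Multiplicative (ZMod p) => S) m).opensRange
    let V : Multiplicative (ZMod p) × Multiplicative (ZMod p) → T.left.Opens := fun q =>
      ((z ≫ e.hom).left ⁻¹ᵁ P q.1) ⊓ ((z' ≫ e.hom).left ⁻¹ᵁ P q.2)
    have hV : TopologicalSpace.IsOpenCover V := by
      refine TopologicalSpace.IsOpenCover.mk (eq_top_iff.mpr fun y _ => ?_)
      obtain ⟨a, w, hw⟩ := (sigmaOpenCover fun _ : Multiplicative (ZMod p) => S).exists_eq ((z ≫ e.hom).left y)
      obtain ⟨b, w', hw'⟩ := (sigmaOpenCover fun _ : Multiplicative (ZMod p) => S).exists_eq ((z' ≫ e.hom).left y)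
      exact Opens.mem_iSup.mpr ⟨(a, b), ⟨w, hw⟩, w', hw'⟩
    apply Over.OverMorphism.ext
    refine (T.left.openCoverOfIsOpenCover V hV).hom_ext _ _ fun q => ?_
    obtain ⟨a, b⟩ := q
    change (V (a, b)).ι ≫ (z ≫ e.hom).left = (V (a, b)).ι ≫ (z' ≫ e.hom).left
    let j : Over.mk ((V (a, b)).ι ≫ T.hom) ⟶ T := Over.homMk (V (a, b)).ι rfl
    have ha : j ≫ z ≫ e.hom = toUnit _ ≫ TwC.pt S _ a := by
      apply Over.OverMorphism.ext
      rw [HomScheme.eq_of_mem_piece S (Multiplicative (ZMod p)) (j ≫ z ≫ e.hom).left a fun w => w.2.1, Over.w]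
      rfl
    have hb : j ≫ z' ≫ e.hom = toUnit _ ≫ TwC.pt S _ b := by
      apply Over.OverMorphism.ext
      rw [HomScheme.eq_of_mem_piece S (Multiplicative (ZMod p)) (j ≫ z' ≫ e.hom).left b fun w => w.2.2, Over.w]
      rfl
    by_cases hne : Nonempty (V (a, b)).toScheme
    · obtain ⟨w⟩ := hne
      have hj : ∀ (y : T ⟶ G') (c : Multiplicative (ZMod p)), y ≫ i = x →
          j ≫ y ≫ e.hom = toUnit _ ≫ TwC.pt S _ c →
          (c.toAdd.val : Γ((V (a, b)).toScheme, ⊤)) = (V (a, b)).ι.appTop t := fun y c hy hc => by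
        have h1 := gaFn_toUnit_pt e i he hi (Over.mk ((V (a, b)).ι ≫ T.hom)) c.toAdd
        rw [ofAdd_toAdd, ← Category.assoc (toUnit _), ← hc] at h1
        simp only [Category.assoc, Iso.hom_inv_id_assoc, Iso.hom_inv_id, Category.comp_id, hy] at h1
        rw [RedPts.gaFn_comp] at h1
        exact h1.symm
      have heq := (hj z a hz ha).trans (hj z' b hz' hb).symm
      set ev := ((V (a, b)).toScheme.evaluation ⊤ w trivial).hom
      have hK : (p : (V (a, b)).toScheme.residueField w) = 0 := by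
        rw [← map_natCast ev, natCast_eq_zero_top hp (Over.mk ((V (a, b)).ι ≫ T.hom)), map_zero]
      have hev := congrArg ev heq
      rw [map_natCast, map_natCast] at hev
      obtain ⟨n, -, hu⟩ := exists_natCast_eq (K := (V (a, b)).toScheme.residueField w) hK
        (a := (a.toAdd.val : (V (a, b)).toScheme.residueField w)) (natCast_val_pow hK _)
      have : a = b := by
        apply Multiplicative.toAdd.injective
        rw [hu a.toAdd rfl, hu b.toAdd hev.symm]
      subst this
      exact congrArg CommaMorphism.left (ha.trans hb.symm)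
    · rw [not_nonempty_iff] at hne
      exact (isInitialOfIsEmpty (X := (V (a, b)).toScheme)).hom_ext _ _

omit [Fact p.Prime] in
/-- The Artin-Schreier morphism is a base change of the polynomial map. -/
theorem as_flat_surjective (hp : 1 < p) (v : Red.Ga S ⟶ Red.Ga S)
    (hv : Red.gaFn v = Red.gaFn (𝟙 (Red.Ga S)) - Red.gaFn (𝟙 (Red.Ga S)) ^ p) :
    Flat v.left ∧ Surjective v.left ∧ QuasiCompact v.left := by
  let φ := CommRingCat.ofHom (RedPts.gaHomOfFn (RedPts.gaGen.{u} - RedPts.gaGen ^ p))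
  let π := pullback.fst Red.GaZ.{u}.hom (GmPts.toBaseZ S)
  have hcomm : v.left ≫ π = π ≫ Spec.map φ := by
    apply (ΓSpec.adjunction.homEquiv (Red.Ga S).left (op (CommRingCat.of RedPts.GaCoord.{u}))).symm.injective
    rw [Adjunction.homEquiv_counit, Adjunction.homEquiv_counit, ΓSpec.adjunction_counit_app]
    apply Quiver.Hom.unop_inj
    apply CommRingCat.hom_ext
    refine RedPts.ringHom_ext_gen ?_
    change Red.gaFn v = (π ≫ Spec.map φ).appTop (RedPts.gaIso.inv RedPts.gaGen)
    refine Eq.trans (hv.trans ?_) ((GmPts.appTop_comp_apply _ _ _).trans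
      (congrArg π.appTop (RedPts.specMap_appTop_gaIso_inv φ RedPts.gaGen))).symm
    change _ = π.appTop (RedPts.gaIso.inv (RedPts.gaHomOfFn _ RedPts.gaGen))
    rw [RedPts.gaHomOfFn_gen]
    erw [map_sub, map_pow, map_sub, map_pow]
    have hid : Red.gaFn (𝟙 (Red.Ga S)) = π.appTop (RedPts.gaIso.inv RedPts.gaGen) := by
      change ((𝟙 (Red.Ga S) : Red.Ga S ⟶ Red.Ga S).left ≫ π).appTop _ = _
      rw [Over.id_left, Category.id_comp]
      rfl
    rw [hid]
  have hsq : IsPullback v.left π π (Spec.map φ) := by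
    refine IsPullback.of_right (h₁₂ := pullback.snd _ _) (v₁₃ := GmPts.toBaseZ S)
      (h₂₂ := Red.GaZ.{u}.hom) ?_ hcomm (IsPullback.of_hasPullback _ _).flip
    rw [show v.left ≫ pullback.snd _ _ = pullback.snd _ _ from Over.w v,
      show Spec.map φ ≫ Red.GaZ.{u}.hom = Red.GaZ.{u}.hom from specULiftZIsTerminal.hom_ext _ _]
    exact (IsPullback.of_hasPullback _ _).flip
  have h := faithfullyFlat_gaMap.{u} hp
  rw [RingHom.FaithfullyFlat.iff_flat_and_comap_surjective] at h
  haveI h1 : Flat (Spec.map φ) := by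
    rw [HasRingHomProperty.Spec_iff (P := @Flat)]
    exact h.1
  haveI h2 : Surjective (Spec.map φ) := ⟨h.2⟩
  exact ⟨MorphismProperty.of_isPullback hsq.flip h1, MorphismProperty.of_isPullback hsq.flip h2,
    MorphismProperty.of_isPullback hsq.flip (inferInstance : QuasiCompact (Spec.map φ))⟩

end

end GrothLib.Torsor21
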