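import Groth.Agent.Lib.Torsor21.RationalSection
import Groth.Agent.Lib.SchDense.Basic
import Groth.Agent.Lib.SpreadOut.Glue
import Groth.Agent.Lib.FlatClosure.Basic
import Groth.Agent.Lib.DescentHom.Basic
import Groth.Agent.Lib.FFDesc.Basic
import Groth.Agent.Lib.EtSite.FpqcDescent
import Groth.Agent.Lib.WeilExt.Dedekind
import Groth.Prelude.Def_ActBC
import Groth.Prelude.Def_Neron

/-!
# Morphisms of proper flat torsors over a one dimensional regular base extend from the generic point
-/

set_option autoImplicit false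
set_option backward.isDefEq.respectTransparency false
set_option backward.isDefEq.respectTransparency.types false
set_option linter.style.haveILetI false

universe u

open CategoryTheory CategoryTheory.Limits AlgebraicGeometry MonoidalCategory CartesianMonoidalCategory
open GrothLib.RepLocal

namespace GrothLib.Torsor21

variable {X : Scheme.{u}} [IsIntegral X] [IsLocallyNoetherian X]

theorem injective_stalkSpecializes_genericPoint {x y : X} (h : y ⤳ x) (e : y = genericPoint X) :
    Function.Injective (X.presheaf.stalkSpecializes h).hom := by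
  subst e
  exact IsFractionRing.injective (X.presheaf.stalk x) X.functionField

theorem isField_stalk_genericPoint {y : X} (e : y = genericPoint X) : IsField (X.presheaf.stalk y) := by
  subst e
  exact Field.toIsField X.functionField

set_option maxHeartbeats 800000 in
/-- A proper flat scheme has points in valuation rings faithfully flat over the local rings. -/
theorem exists_valuation_point
    (hX : ∀ x : X, IsRegularLocalRing (X.presheaf.stalk x) ∧ ringKrullDim (X.presheaf.stalk x) ≤ 1)
    {P : Scheme.{u}} (f : P ⟶ X) [Flat f] [Surjective f] {K : Type u} [Field K]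
    (η : Spec (CommRingCat.of K) ⟶ X) (hη : ∀ z, η z = genericPoint X) (s : X) :
    ∃ (L : Type u) (_ : Field L) (V : ValuationSubring L)
      (π : Spec (CommRingCat.of V) ⟶ Spec (X.presheaf.stalk s)),
      Flat π ∧ Surjective π ∧ ∃ (p : Spec (CommRingCat.of V) ⟶ P)
        (u : Spec (CommRingCat.of L) ⟶ Spec (CommRingCat.of K)),
        p ≫ f = π ≫ X.fromSpecStalk s ∧
          Spec.map (CommRingCat.ofHom (algebraMap V L)) ≫ π ≫ X.fromSpecStalk s = u ≫ η := by
  obtain ⟨z, rfl⟩ := f.surjective s
  obtain ⟨z', hz', hfz'⟩ := Flat.generalizingMap f (genericPoint_specializes (f z))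
  obtain ⟨w, hw, -⟩ := Scheme.Pullback.exists_preimage_pullback (f := f) (g := η) z'
    (IsLocalRing.closedPoint K) (hfz'.trans (hη _).symm)
  let a : pullback f η ⟶ P := pullback.fst f η
  let L := (pullback f η).residueField w
  have hwz : a w ⤳ z := by rw [show a w = z' from hw]; exact hz'
  have hfa : f (a w) = genericPoint X := by rw [show a w = z' from hw]; exact hfz'
  let toL : P.presheaf.stalk z ⟶ L :=
    P.presheaf.stalkSpecializes hwz ≫ a.stalkMap w ≫ (pullback f η).residue w
  obtain ⟨V, hV, hVloc⟩ := IsLocalRing.exists_factor_valuationRing (R := P.presheaf.stalk z) (K := L) toL.hom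
  let cod : P.presheaf.stalk z ⟶ CommRingCat.of V := CommRingCat.ofHom (toL.hom.codRestrict V.toSubring hV)
  let incl : CommRingCat.of V ⟶ L := CommRingCat.ofHom (algebraMap V L)
  have hcod : cod ≫ incl = toL := rfl
  let α : X.presheaf.stalk (f z) ⟶ CommRingCat.of V := f.stalkMap z ≫ cod
  haveI : IsLocalHom cod.hom := hVloc
  haveI : IsLocalHom α.hom := inferInstanceAs (IsLocalHom (cod.hom.comp (f.stalkMap z).hom))
  have hinj : Function.Injective α.hom := by
    have e : α ≫ incl = X.presheaf.stalkSpecializes (hwz.map f.continuous) ≫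
        (f.stalkMap (a w) ≫ a.stalkMap w ≫ (pullback f η).residue w) := by
      simp only [α, Category.assoc, hcod, toL]
      rw [← Scheme.Hom.stalkSpecializes_stalkMap_assoc]
    refine Function.Injective.of_comp (f := incl.hom) ?_
    rw [← RingHom.coe_comp, ← CommRingCat.hom_comp, e, CommRingCat.hom_comp, RingHom.coe_comp]
    refine Function.Injective.comp ?_ (injective_stalkSpecializes_genericPoint _ hfa)
    letI := (isField_stalk_genericPoint hfa).toField
    exact RingHom.injective _
  haveI hflat : α.hom.Flat := by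
    haveI := (hX (f z)).1
    obtain ⟨_, _⟩ := GrothLib.FlatClosure.valuationRing_of_regular (R := X.presheaf.stalk (f z)) (hX (f z)).2
    letI := α.hom.toAlgebra
    show Module.Flat (X.presheaf.stalk (f z)) V
    haveI : FaithfulSMul (X.presheaf.stalk (f z)) V := (faithfulSMul_iff_algebraMap_injective _ _).2 hinj
    rw [Module.Flat.flat_iff_torsion_eq_bot_of_isBezout, ← Submodule.isTorsionFree_iff_torsion_eq_bot]
    exact Module.IsTorsionFree.of_smul_eq_zero fun r m h => by
      rcases mul_eq_zero.1 ((Algebra.smul_def r m).symm.trans h) with h' | h'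
      · exact Or.inl (hinj (h'.trans (map_zero _).symm))
      · exact Or.inr h'
  refine ⟨L, inferInstance, V, Spec.map α, ?_, ?_, Spec.map cod ≫ P.fromSpecStalk z,
    (pullback f η).fromSpecResidueField w ≫ pullback.snd f η, ?_, ?_⟩
  · exact (HasRingHomProperty.Spec_iff (P := @Flat)).2 hflat
  · refine ⟨?_⟩
    letI := α.hom.toAlgebra
    haveI : Module.Flat (X.presheaf.stalk (f z)) V := hflat
    haveI : IsLocalHom (algebraMap (X.presheaf.stalk (f z)) V) := inferInstanceAs (IsLocalHom α.hom)
    haveI := Module.FaithfullyFlat.of_flat_of_isLocalHom (A := X.presheaf.stalk (f z)) (B := V)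
    exact PrimeSpectrum.comap_surjective_of_faithfullyFlat
  · rw [Category.assoc]
    simp only [α, Spec.map_comp, Category.assoc, Scheme.SpecMap_stalkMap_fromSpecStalk]
  · show Spec.map incl ≫ Spec.map α ≫ X.fromSpecStalk (f z) = _
    rw [← Spec.map_comp_assoc]
    simp only [α, Category.assoc, hcod, toL, Spec.map_comp, Scheme.SpecMap_stalkMap_fromSpecStalk,
      Scheme.SpecMap_stalkSpecializes_fromSpecStalk_assoc, Scheme.SpecMap_stalkMap_fromSpecStalk_assoc]
    simp only [Scheme.fromSpecResidueField, Category.assoc, a, pullback.condition]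

variable {G P Q : Over X} [GrpObj G] {K : Type u} [Field K]

set_option maxHeartbeats 1600000 in
/-- An equivariant map on the generic fibre extends over every local ring of the base. -/
theorem exists_extension_stalk
    (hX : ∀ x : X, IsRegularLocalRing (X.presheaf.stalk x) ∧ ringKrullDim (X.presheaf.stalk x) ≤ 1)
    {a : AlgGrp.Action G P} {b : AlgGrp.Action G Q} (hP : NonAbH1.IsPseudoTorsorSch a)
    [Flat P.hom] [Surjective P.hom] [IsProper Q.hom]
    (η : Spec (CommRingCat.of K) ⟶ X) (hη : ∀ z, η z = genericPoint X) [Mono η] [Flat η] [QuasiCompact η]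
    [IsDominant η]
    (φ : P ⊗ Over.mk η ⟶ Q)
    (heq : ∀ {R : Over X} (g : R ⟶ G) (x : R ⟶ P) (u : R ⟶ Over.mk η),
      lift (lift g x ≫ a.act) u ≫ φ = lift g (lift x u ≫ φ) ≫ b.act) (s : X) :
    ∃ ψ : P ⊗ Over.mk (X.fromSpecStalk s) ⟶ Q,
      ∀ {R : Over X} (c : R ⟶ P ⊗ Over.mk (X.fromSpecStalk s)) (u : R ⟶ Over.mk η),
        c ≫ ψ = lift (c ≫ fst _ _) u ≫ φ := by
  haveI : IsSchemeTheoreticallyDominant η := IsSchemeTheoreticallyDominant.of_isDominant η
  obtain ⟨L, _, V, π, hπf, hπs, p₀, u₀, hp₀, hu₀⟩ := exists_valuation_point hX P.hom η hη s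
  let j₀ := Spec.map (CommRingCat.ofHom (algebraMap V L))
  let fs := X.fromSpecStalk s
  let Ss : Over X := Over.mk fs
  let Kη : Over X := Over.mk η
  let T : Over X := Over.mk (π ≫ fs)
  let TL : Over X := Over.mk (j₀ ≫ π ≫ fs)
  let πo : T ⟶ Ss := Over.homMk π
  let jL : TL ⟶ T := Over.homMk j₀
  let uT : TL ⟶ Kη := Over.homMk u₀ hu₀.symm
  let p : T ⟶ P := Over.homMk p₀ hp₀
  haveI : Flat fs := GrothLib.FFDesc.flat_fromSpecStalk' X s
  haveI : Flat T.hom := inferInstanceAs (Flat (π ≫ fs))
  haveI : IsSchemeTheoreticallyDominant j₀ := by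
    haveI : IsDominant j₀ := by
      refine ⟨?_⟩
      exact (PrimeSpectrum.denseRange_comap_iff_ker_le_nilRadical _).2 (by
        show RingHom.ker (algebraMap V L) ≤ _
        rw [(RingHom.injective_iff_ker_eq_bot _).1 (IsFractionRing.injective V L)]
        exact bot_le)
    exact IsSchemeTheoreticallyDominant.of_isDominant j₀
  -- the valuative extension
  have hex : ValuativeCriterion.Existence Q.hom :=
    (by have h : UniversallyClosed Q.hom := inferInstance; rw [UniversallyClosed.eq_valuativeCriterion] at h; exact h.1)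
  let S : ValuativeCommSq Q.hom := ⟨V, L, (lift (jL ≫ p) uT ≫ φ).left, π ≫ fs, ⟨Over.w _⟩⟩
  obtain ⟨q₀, hq₁, hq₂⟩ := (hex S).exists_lift
  let q : T ⟶ Q := Over.homMk q₀ hq₂
  have key1 : jL ≫ q = lift (jL ≫ p) uT ≫ φ := Over.OverMorphism.ext hq₁
  obtain ⟨g, hg⟩ := TorsorDesc.exists_act_eq hP (fst P T) (snd P T ≫ p)
  let m : P ⊗ T ⟶ Q := lift g (snd P T ≫ q) ≫ b.act
  have hm0 : ∀ {R : Over X} (c : R ⟶ P ⊗ T) (u : R ⟶ Kη) (l : R ⟶ TL), l ≫ jL = c ≫ snd P T →
      c ≫ m = lift (c ≫ fst P T) u ≫ φ := by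
    intro R c u l hl
    have hu : u = l ≫ uT := Over.OverMorphism.ext ((cancel_mono η).1 ((Over.w u).trans (Over.w (l ≫ uT)).symm))
    subst hu
    have h1 : lift (c ≫ g) (l ≫ jL ≫ p) ≫ a.act = c ≫ fst P T := by
      have := congrArg (c ≫ ·) hg
      simpa only [comp_lift_assoc, ← reassoc_of% hl] using this
    calc c ≫ m = lift (c ≫ g) (l ≫ jL ≫ q) ≫ b.act := by
          simp only [m, comp_lift_assoc, ← reassoc_of% hl]
      _ = lift (c ≫ g) (lift (l ≫ jL ≫ p) (l ≫ uT) ≫ φ) ≫ b.act := by rw [← comp_lift_assoc, key1]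
      _ = lift (lift (c ≫ g) (l ≫ jL ≫ p) ≫ a.act) (l ≫ uT) ≫ φ := (heq _ _ _).symm
      _ = lift (c ≫ fst P T) (l ≫ uT) ≫ φ := by rw [h1]
  have hm : ∀ {R : Over X} (c : R ⟶ P ⊗ T) (u : R ⟶ Kη), c ≫ m = lift (c ≫ fst P T) u ≫ φ := by
    intro R c u
    let R0 : Over X := P ⊗ (T ⊗ Kη)
    let c0 : R0 ⟶ P ⊗ T := lift (fst _ _) (snd _ _ ≫ fst T Kη)
    let v0 : R0 ⟶ Kη := snd _ _ ≫ snd T Kη
    suffices h0 : c0 ≫ m = lift (c0 ≫ fst P T) v0 ≫ φ by
      let r : R ⟶ R0 := lift (c ≫ fst P T) (lift (c ≫ snd P T) u)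
      have hr : r ≫ c0 = c := by
        simp only [r, c0, comp_lift, lift_fst, lift_snd_assoc]
        rw [← comp_lift, lift_fst_snd, Category.comp_id]
      have hr' : r ≫ v0 = u := by simp [r, v0]
      have := congrArg (r ≫ ·) h0
      simpa only [reassoc_of% hr, comp_lift_assoc, hr'] using this
    let t : R0.left ⟶ T.left := (snd P (T ⊗ Kη) ≫ fst T Kη).left
    haveI : Flat t := by
      show Flat (pullback.snd P.hom (T ⊗ Kη).hom ≫ pullback.fst T.hom η)
      infer_instance
    let d : pullback t j₀ ⟶ R0.left := pullback.fst t j₀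
    haveI : IsSchemeTheoreticallyDominant d := inferInstance
    ext1
    refine GrothLib.SchDense.ext_of_schDominant Q.hom ((Over.w _).trans (Over.w _).symm) d ?_
    let R' : Over X := Over.mk (d ≫ R0.hom)
    let r : R' ⟶ R0 := Over.homMk d
    let l : R' ⟶ TL := Over.homMk (pullback.snd t j₀) (by
      show pullback.snd t j₀ ≫ j₀ ≫ T.hom = d ≫ R0.hom
      rw [← Category.assoc, ← pullback.condition, Category.assoc]
      exact congrArg (d ≫ ·) (Over.w (snd P (T ⊗ Kη) ≫ fst T Kη)))
    have hl : l ≫ jL = (r ≫ c0) ≫ snd P T := by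
      simp only [c0, Category.assoc, lift_snd]
      ext1
      exact pullback.condition.symm
    have := hm0 (r ≫ c0) (r ≫ v0) l hl
    simp only [Category.assoc, ← comp_lift_assoc] at this
    exact congrArg CommaMorphism.left this
  -- descent
  let pP : P ⊗ T ⟶ P ⊗ Ss := P ◁ πo
  have hpb : IsPullback pP.left (snd P T).left (snd P Ss).left πo.left := by
    have h1 : IsPullback (pullback.fst P.hom T.hom) (pullback.snd P.hom T.hom) P.hom T.hom :=
      IsPullback.of_hasPullback _ _
    have h2 : IsPullback (pullback.fst P.hom fs) (pullback.snd P.hom fs) P.hom fs := IsPullback.of_hasPullback _ _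
    refine IsPullback.of_right (h₁₂ := pullback.fst P.hom fs) ?_ ?_ h2
    · have e : pP.left ≫ pullback.fst P.hom fs = pullback.fst P.hom T.hom :=
        congrArg CommaMorphism.left (whiskerLeft_fst P πo)
      rw [e]
      exact h1
    · exact congrArg CommaMorphism.left (whiskerLeft_snd P πo)
  have hcov : ∀ U : (Spec (X.presheaf.stalk s)).Opens, IsAffineOpen U → ∃ W : (Spec (CommRingCat.of V)).Opens,
      IsCompact (W : Set (Spec (CommRingCat.of V))) ∧ π.base '' (W : Set (Spec (CommRingCat.of V))) = (U : Set (Spec (X.presheaf.stalk s))) :=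
    fun U hU => ⟨π ⁻¹ᵁ U, π.isCompact_preimage hU.isCompact, Set.image_preimage_eq _ π.surjective⟩
  have heff : ∀ {Y : Scheme.{u}} (y : Y ⟶ Spec (X.presheaf.stalk s)), EffectiveEpi (pullback.fst y π) :=
    fun y => GrothLib.DescentHom.effectiveEpi_of_cover π hcov y _ _ (IsPullback.of_hasPullback y π)
  haveI : EffectiveEpi pP.left := GrothLib.DescentHom.effectiveEpi_of_cover π hcov _ _ _ hpb
  have hagree : ∀ {W : Scheme.{u}} (g₁ g₂ : W ⟶ (P ⊗ T).left), g₁ ≫ pP.left = g₂ ≫ pP.left →
      g₁ ≫ m.left = g₂ ≫ m.left := by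
    intro W g₁ g₂ h
    suffices H : pullback.fst pP.left pP.left ≫ m.left = pullback.snd pP.left pP.left ≫ m.left by
      have := congrArg (pullback.lift g₁ g₂ h ≫ ·) H
      simpa using this
    let D := pullback pP.left pP.left
    let y : D ⟶ X := pullback.fst pP.left pP.left ≫ (P ⊗ T).hom
    haveI : Flat (P ⊗ T).hom := inferInstanceAs (Flat (pullback.fst P.hom T.hom ≫ P.hom))
    haveI : Flat pP.left := MorphismProperty.of_isPullback (P := @Flat) hpb.flip hπf
    haveI : Flat y := inferInstanceAs (Flat (pullback.fst pP.left pP.left ≫ (P ⊗ T).hom))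
    let d : pullback y η ⟶ D := pullback.fst y η
    haveI : IsSchemeTheoreticallyDominant d := inferInstance
    have hy : pullback.snd pP.left pP.left ≫ (P ⊗ T).hom = y := by
      simp only [y, ← Over.w pP]
      rw [← pullback.condition_assoc]
    refine GrothLib.SchDense.ext_of_schDominant Q.hom (by
      rw [Category.assoc, Category.assoc, Over.w m, hy]) d ?_
    let R : Over X := Over.mk (d ≫ y)
    let c₁ : R ⟶ P ⊗ T := Over.homMk (d ≫ pullback.fst pP.left pP.left) (Category.assoc _ _ _)
    let c₂ : R ⟶ P ⊗ T := Over.homMk (d ≫ pullback.snd pP.left pP.left) (by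
      show (d ≫ _) ≫ _ = d ≫ y; rw [Category.assoc, hy])
    let u : R ⟶ Kη := Over.homMk (pullback.snd y η) pullback.condition.symm
    have hc : c₁ ≫ pP = c₂ ≫ pP := Over.OverMorphism.ext (by
      show (d ≫ _) ≫ pP.left = (d ≫ _) ≫ pP.left
      rw [Category.assoc, Category.assoc, pullback.condition])
    have hc' : c₁ ≫ fst P T = c₂ ≫ fst P T := by
      rw [← whiskerLeft_fst P πo, ← Category.assoc, hc, Category.assoc]
    have := (hm c₁ u).trans ((congrArg (fun t => lift t u ≫ φ) hc').trans (hm c₂ u).symm)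
    exact ((Category.assoc _ _ _).symm.trans (congrArg CommaMorphism.left this)).trans (Category.assoc _ _ _)
  let ψ₀ : (P ⊗ Ss).left ⟶ Q.left := EffectiveEpi.desc pP.left m.left hagree
  have hψ₀ : pP.left ≫ ψ₀ = m.left := EffectiveEpi.fac _ _ _
  refine ⟨Over.homMk ψ₀ ?_, fun {R} c u => ?_⟩
  · rw [← cancel_epi pP.left, ← Category.assoc, hψ₀, Over.w m]
    exact (Over.w pP).symm
  · let y : R.left ⟶ Spec (X.presheaf.stalk s) := (c ≫ snd P Ss).left
    haveI := heff y
    ext1
    rw [← cancel_epi (pullback.fst y π)]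
    let R' : Over X := Over.mk (pullback.fst y π ≫ R.hom)
    let r : R' ⟶ R := Over.homMk (pullback.fst y π)
    let l : R'.left ⟶ (P ⊗ T).left := hpb.lift (pullback.fst y π ≫ c.left) (pullback.snd y π) (by
      rw [Category.assoc]
      exact pullback.condition)
    have hl1 : l ≫ pP.left = pullback.fst y π ≫ c.left := hpb.lift_fst _ _ _
    let c' : R' ⟶ P ⊗ T := Over.homMk l (by
      rw [← Over.w pP, ← Category.assoc, hl1, Category.assoc, Over.w c]
      rfl)
    have hc' : c' ≫ pP = r ≫ c := Over.OverMorphism.ext hl1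
    have h1 : c' ≫ fst P T = r ≫ c ≫ fst P Ss := by
      rw [← whiskerLeft_fst P πo, ← Category.assoc, hc', Category.assoc]
    have h2 := congrArg CommaMorphism.left ((hm c' (r ≫ u)).trans (by rw [h1, ← comp_lift_assoc]))
    show pullback.fst y π ≫ c.left ≫ ψ₀ = _
    rw [← Category.assoc, ← hl1, Category.assoc, hψ₀]
    exact h2

set_option maxHeartbeats 1600000 in
/-- An equivariant map between the generic fibres of proper flat torsors extends to an isomorphism. -/
theorem exists_equivIso_of_genPt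
    (hX : ∀ x : X, IsRegularLocalRing (X.presheaf.stalk x) ∧ ringKrullDim (X.presheaf.stalk x) ≤ 1)
    [IsProper G.hom] [Flat G.hom]
    {a : AlgGrp.Action G P} {b : AlgGrp.Action G Q} (ha : NonAbH1.IsTorsorFor Scheme.fppfPrecoverage a)
    (hb : NonAbH1.IsTorsorFor Scheme.fppfPrecoverage b)
    (η : Spec (CommRingCat.of K) ⟶ X) (hη : ∀ z, η z = genericPoint X) [Mono η] [QuasiCompact η]
    (φ : P ⊗ Over.mk η ⟶ Q)
    (heq : ∀ {R : Over X} (g : R ⟶ G) (x : R ⟶ P) (u : R ⟶ Over.mk η),
      lift (lift g x ≫ a.act) u ≫ φ = lift g (lift x u ≫ φ) ≫ b.act) :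
    Nonempty (NonAbH1.EquivIso a b) := by
  have ha' := isTorsorFor_fpqc ha
  have hb' := isTorsorFor_fpqc hb
  haveI : MorphismProperty.DescendsAlong @Flat (@Surjective ⊓ @Flat ⊓ @QuasiCompact : MorphismProperty Scheme.{u}) :=
    HasRingHomProperty.descendsAlong_flat (P := @Flat) GrothLib.AlgSp.codescendsAlong_flat
  haveI : Flat P.hom := property @Flat ha' inferInstance
  haveI : Surjective P.hom := surjective_hom ha'
  haveI : IsProper P.hom := property @IsProper ha' inferInstance
  haveI : IsProper Q.hom := property @IsProper hb' inferInstance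
  haveI : IsDominant η := ⟨dense_iff_closure_eq.2 (eq_top_iff.2 fun z _ =>
    closure_mono (Set.singleton_subset_iff.2 (show genericPoint X ∈ Set.range η from ⟨IsLocalRing.closedPoint K, hη _⟩))
      (genericPoint_specializes z).mem_closure)⟩
  haveI : IsSchemeTheoreticallyDominant η := IsSchemeTheoreticallyDominant.of_isDominant η
  haveI : Flat η := GrothLib.FlatClosure.flat_of_dominant hX η (𝟙 _) fun z => hη z
  let j : pullback P.hom η ⟶ P.left := pullback.fst P.hom η
  haveI : IsSchemeTheoreticallyDominant j := inferInstance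
  haveI : IsLocallyNoetherian (pullback P.hom η) := LocallyOfFiniteType.isLocallyNoetherian (pullback.snd P.hom η)
  haveI : LocallyOfFinitePresentation Q.hom := LocallyOfFinitePresentation.iff_locallyOfFiniteType.2 inferInstance
  let Kη : Over X := Over.mk η
  obtain ⟨F, hF, hjF⟩ := GrothLib.SpreadOut.exists_extension j P.hom Q.hom φ.left (Over.w φ) (fun x => by
    obtain ⟨ψ, hψ⟩ := exists_extension_stalk hX ha.1 η hη φ heq (P.hom x)
    let l : Spec (P.left.presheaf.stalk x) ⟶ (P ⊗ Over.mk (X.fromSpecStalk (P.hom x))).left :=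
      pullback.lift (P.left.fromSpecStalk x) (Spec.map (P.hom.stalkMap x)) (by
        exact (Scheme.SpecMap_stalkMap_fromSpecStalk P.hom).symm)
    refine ⟨l ≫ ψ.left, ?_, ?_⟩
    · rw [Category.assoc, Over.w ψ]
      show l ≫ pullback.fst _ _ ≫ P.hom = _
      rw [← Category.assoc, pullback.lift_fst]
    · let R : Over X := Over.mk (pullback.fst j (P.left.fromSpecStalk x) ≫ (P ⊗ Kη).hom)
      let r : R ⟶ P ⊗ Kη := Over.homMk (pullback.fst j (P.left.fromSpecStalk x))
      let c : R ⟶ P ⊗ Over.mk (X.fromSpecStalk (P.hom x)) :=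
        Over.homMk (pullback.snd j (P.left.fromSpecStalk x) ≫ l) (by
          show (_ ≫ l) ≫ pullback.fst _ _ ≫ P.hom = _ ≫ pullback.fst P.hom η ≫ P.hom
          rw [Category.assoc, ← Category.assoc l, pullback.lift_fst, ← Category.assoc (pullback.fst j _),
            pullback.condition, Category.assoc])
      have h1 : c ≫ fst _ _ = r ≫ fst P Kη := Over.OverMorphism.ext (by
        show (_ ≫ l) ≫ pullback.fst _ _ = _ ≫ pullback.fst P.hom η
        rw [Category.assoc, pullback.lift_fst]
        exact pullback.condition.symm)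
      have h2 := hψ c (r ≫ snd P Kη)
      rw [h1, ← comp_lift, lift_fst_snd, Category.comp_id] at h2
      exact ((congrArg CommaMorphism.left h2).symm).trans (Category.assoc _ _ _))
  let h : P ⟶ Q := Over.homMk F hF
  have hres : ∀ {R : Over X} (x : R ⟶ P) (u : R ⟶ Kη), lift x u ≫ φ = x ≫ h := by
    intro R x u
    have e : fst P Kη ≫ h = φ := Over.OverMorphism.ext hjF
    rw [← e, lift_fst_assoc]
  have hequiv : AlgGrp.Action.IsEquivariant a b h := by
    haveI : Flat (G ⊗ P).hom := inferInstanceAs (Flat (pullback.fst G.hom P.hom ≫ G.hom))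
    let d : pullback (G ⊗ P).hom η ⟶ (G ⊗ P).left := pullback.fst _ _
    haveI : IsSchemeTheoreticallyDominant d := inferInstance
    unfold AlgGrp.Action.IsEquivariant
    ext1
    refine GrothLib.SchDense.ext_of_schDominant Q.hom ((Over.w _).trans (Over.w _).symm) d ?_
    have key := heq (fst (G ⊗ P) Kη ≫ fst G P) (fst (G ⊗ P) Kη ≫ snd G P) (snd (G ⊗ P) Kη)
    rw [hres, hres, ← comp_lift, lift_fst_snd, Category.comp_id, Category.assoc] at key
    have key' : fst (G ⊗ P) Kη ≫ a.act ≫ h = fst (G ⊗ P) Kη ≫ (G ◁ h) ≫ b.act := by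
      rw [key, ← lift_whiskerLeft_assoc, ← comp_lift, lift_fst_snd, Category.comp_id]
    exact congrArg CommaMorphism.left key'
  haveI := isIso_of_isEquivariant ha.1 ha' hb.1 h hequiv
  exact ⟨⟨asIso h, hequiv⟩⟩

/-- An equivariant isomorphism after base change, seen as an equivariant map over the base. -/
theorem exists_hom_of_bc_equivIso {a : AlgGrp.Action G P} {b : AlgGrp.Action G Q} {X' : Scheme.{u}} (f : X' ⟶ X)
    (e : NonAbH1.EquivIso (a.bc f) (b.bc f)) :
    ∃ φ : P ⊗ Over.mk f ⟶ Q, ∀ {R : Over X} (g : R ⟶ G) (x : R ⟶ P) (u : R ⟶ Over.mk f),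
      lift (lift g x ≫ a.act) u ≫ φ = lift g (lift x u ≫ φ) ≫ b.act := by
  let φ : P ⊗ Over.mk f ⟶ Q := Over.homMk (e.iso.hom.left ≫ pullback.fst Q.hom f) (by
    show (_ ≫ _) ≫ Q.hom = pullback.fst P.hom f ≫ P.hom
    rw [Category.assoc, pullback.condition, pullback.condition, ← Category.assoc]
    exact congrArg (· ≫ f) (Over.w e.iso.hom))
  refine ⟨φ, ?_⟩
  intro R g x u
  let T' : Over X' := Over.mk u.left
  let g₀ : (Over.map f).obj T' ⟶ G := Over.homMk g.left ((Over.w g).trans (Over.w u).symm)
  let x₀ : (Over.map f).obj T' ⟶ P := Over.homMk x.left ((Over.w x).trans (Over.w u).symm)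
  let he := fun (Y : Over X) => (Over.mapPullbackAdj f).homEquiv T' Y
  have hl : ∀ (Y : Over X) (p : (Over.map f).obj T' ⟶ Y),
      (he Y p).left ≫ pullback.fst Y.hom f = p.left ∧
      (he Y p).left ≫ pullback.snd Y.hom f = u.left := by
    intro Y p
    refine ⟨?_, Over.w (he Y p)⟩
    have := congrArg CommaMorphism.left ((Over.mapPullbackAdj f).homEquiv T' Y |>.symm_apply_apply p)
    rw [Adjunction.homEquiv_counit] at this
    simpa using this
  have pair : ∀ (Y : Over X) (p : R ⟶ Y) (p₀ : (Over.map f).obj T' ⟶ Y), p₀.left = p.left →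
      (lift p u).left = (he Y p₀).left := by
    intro Y p p₀ hp
    apply pullback.hom_ext
    · exact ((congrArg CommaMorphism.left (lift_fst p u)).trans hp.symm).trans (hl Y p₀).1.symm
    · exact (congrArg CommaMorphism.left (lift_snd p u)).trans (hl Y p₀).2.symm
  let y₀ := (he Q).symm (he P x₀ ≫ e.iso.hom)
  have key : he P (lift g₀ x₀ ≫ a.act) ≫ e.iso.hom = he Q (lift g₀ y₀ ≫ b.act) := by
    simp only [he, ← AlgGrp.Action.lift_homEquiv_bc_act, Category.assoc]
    erw [e.comm, lift_whiskerLeft_assoc]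
    simp only [y₀, he, Equiv.apply_symm_apply]
  have hy : (lift x u ≫ φ).left = y₀.left := by
    rw [Over.comp_left, pair _ x x₀ rfl]
    show (he P x₀).left ≫ e.iso.hom.left ≫ pullback.fst _ _ = _
    rw [← (hl Q y₀).1, ← Category.assoc, ← Over.comp_left, Equiv.apply_symm_apply]
  have h3 : (lift g₀ y₀).left = (lift g (lift x u ≫ φ)).left := by
    apply pullback.hom_ext
    · exact (congrArg CommaMorphism.left (lift_fst g₀ y₀)).trans (congrArg CommaMorphism.left (lift_fst g _)).symm
    · exact ((congrArg CommaMorphism.left (lift_snd g₀ y₀)).trans hy.symm).trans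
        (congrArg CommaMorphism.left (lift_snd g _)).symm
  ext1
  rw [Over.comp_left, pair _ (lift g x ≫ a.act) (lift g₀ x₀ ≫ a.act) (by
    simp only [Over.comp_left]
    congr 1)]
  show (he P _).left ≫ e.iso.hom.left ≫ pullback.fst _ _ = _
  rw [← Category.assoc, ← Over.comp_left, key, (hl Q _).1, Over.comp_left, h3]
  rfl

/-- The local rings of a Dedekind scheme. -/
theorem dedekind_stalk {R : Type u} [CommRing R] [IsDedekindDomain R] (p : Spec (CommRingCat.of R)) :
    IsRegularLocalRing ((Spec (CommRingCat.of R)).presheaf.stalk p) ∧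
      ringKrullDim ((Spec (CommRingCat.of R)).presheaf.stalk p) ≤ 1 := by
  refine ⟨GrothLib.WeilExt.isRegularLocalRing_stalk_dedekind p, ?_⟩
  refine (ringKrullDim_eq_of_ringEquiv (StructureSheaf.stalkIso (CommRingCat.of R) p).toRingEquiv).symm.trans_le ?_
  rw [IsLocalization.AtPrime.ringKrullDim_eq_height p.asIdeal]
  exact (Ideal.height_le_ringKrullDim_of_ne_top p.isPrime.ne_top).trans (Ring.krullDimLE_iff.mp inferInstance)

theorem genPt_apply {R : Type u} [CommRing R] [IsDomain R] (z : Spec (CommRingCat.of (FractionRing R))) :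
    Neron.genPt R z = genericPoint (Spec (CommRingCat.of R)) := by
  rw [genericPoint_eq_bot_of_affine]
  refine PrimeSpectrum.ext ?_
  show Ideal.comap (algebraMap R (FractionRing R)) z.asIdeal = ⊥
  rw [(Ideal.eq_bot_or_top z.asIdeal).resolve_right z.isPrime.ne_top]
  exact (RingHom.injective_iff_ker_eq_bot _).1 (IsFractionRing.injective R (FractionRing R))

end GrothLib.Torsor21
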