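import Groth.Agent.Lib.Torsor21.RationalSection
import Groth.Agent.Lib.GrpSchField.Field
import Groth.Agent.Lib.FEt21.Normal
import Groth.Agent.Lib.EtBasicB.OverField
import Mathlib.AlgebraicGeometry.Morphisms.FlatMono
import Mathlib.RingTheory.Unramified.Field
import Groth.Prelude.Def_Red

/-!
# Rational points of étale torsors over normal schemes
-/

set_option autoImplicit false
set_option backward.isDefEq.respectTransparency false
set_option backward.isDefEq.respectTransparency.types false
set_option linter.style.haveILetI false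

universe u

open CategoryTheory CategoryTheory.Limits AlgebraicGeometry TopologicalSpace MonoidalCategory CartesianMonoidalCategory

namespace GrothLib.Torsor21

/-- An étale scheme over a field is covered by finite pieces. -/
theorem isFinite_ι_comp_of_field {k : Type u} [Field k] {X : Scheme.{u}} (g : X ⟶ Spec (CommRingCat.of k)) [Etale g]
    {N : X.Opens} (hN : IsAffineOpen N) : IsFinite (N.ι ≫ g) := by
  haveI : IsAffine (N : Scheme.{u}) := hN
  haveI : IsAffineHom (N.ι ≫ g) := isAffineHom_of_isAffine _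
  haveI : LocallyQuasiFinite (N.ι ≫ g) := GrothLib.EtBasicB.locallyQuasiFinite_of_unramified _
  exact IsFinite.of_locallyQuasiFinite (N.ι ≫ g)

theorem specializingMap_snd {k : Type u} [Field k] {X V : Scheme.{u}} (g : X ⟶ Spec (CommRingCat.of k)) [Etale g]
    (t : V ⟶ Spec (CommRingCat.of k)) : SpecializingMap (pullback.snd g t) := by
  intro z v hv
  obtain ⟨N, hN, hzN, -⟩ := exists_isAffineOpen_mem_and_subset (U := (⊤ : X.Opens)) (x := pullback.fst g t z) trivial
  haveI := isFinite_ι_comp_of_field g hN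
  let m : pullback (N.ι ≫ g) t ⟶ pullback g t := pullback.map _ _ _ _ N.ι (𝟙 _) (𝟙 _) (by simp) (by simp)
  obtain ⟨z', hz'⟩ : z ∈ Set.range m := by
    rw [Scheme.Pullback.range_map]
    refine ⟨?_, ⟨_, rfl⟩⟩
    show pullback.fst g t z ∈ Set.range N.ι
    rw [Scheme.Opens.range_ι]
    exact hzN
  have hm : pullback.snd g t (m z') = pullback.snd (N.ι ≫ g) t z' := by
    rw [← Scheme.Hom.comp_apply, pullback.lift_snd, Category.comp_id]
  obtain ⟨w, hw, hwv⟩ := (pullback.snd (N.ι ≫ g) t).isClosedMap.specializingMap (a := z')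
    (show pullback.snd (N.ι ≫ g) t z' ⤳ v by rw [← hm, hz']; exact hv)
  refine ⟨m w, hz' ▸ hw.map m.continuous, ?_⟩
  rw [← Scheme.Hom.comp_apply, pullback.lift_snd, Category.comp_id]
  exact hwv

theorem eq_genericPoint_of_specializes {S : Scheme.{u}} [IrreducibleSpace S] {z : S} (h : z ⤳ genericPoint S) :
    z = genericPoint S := (h.antisymm (genericPoint_specializes z)).eq

theorem exists_generization {Y S : Scheme.{u}} [IrreducibleSpace S] (g : Y ⟶ S) [Flat g] (z : Y) :
    ∃ a : Y, a ⤳ z ∧ g a = genericPoint S := by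
  obtain ⟨a, ha, hga⟩ := Flat.generalizingMap g (genericPoint_specializes (g z))
  exact ⟨a, ha, hga⟩

/-- Over a normal base every point of an étale scheme has one generization over the generic point. -/
theorem generization_unique {Y S : Scheme.{u}} [IsIntegral S] (hS : Pi1.IsNormalScheme S) (g : Y ⟶ S) [Etale g]
    {a b z : Y} (ha : a ⤳ z) (hb : b ⤳ z) (hga : g a = genericPoint S) (hgb : g b = genericPoint S) : a = b := by
  haveI : IsDomain (Y.presheaf.stalk z) := (GrothLib.FEt21.isNormalScheme_of_etale hS g z).1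
  let m₀ : Spec (Y.presheaf.stalk z) := ⟨⊥, Ideal.isPrime_bot⟩
  let m : Y := Y.fromSpecStalk z m₀
  have key : ∀ y : Y, y ⤳ z → g y = genericPoint S → m = y := fun y hy hgy => by
    obtain ⟨w, rfl⟩ : y ∈ Set.range (Y.fromSpecStalk z) := by rw [Scheme.range_fromSpecStalk]; exact hy
    have hmw : m ⤳ Y.fromSpecStalk z w :=
      Specializes.map ((PrimeSpectrum.le_iff_specializes m₀ w).1 bot_le) (Y.fromSpecStalk z).continuous
    have hgm : g m = genericPoint S := eq_genericPoint_of_specializes (hgy ▸ hmw.map g.continuous)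
    haveI : LocallyQuasiFinite g := GrothLib.EtBasicB.locallyQuasiFinite_of_unramified g
    obtain ⟨O, hO, hOy⟩ : ∃ O : Set Y, IsOpen O ∧ O ∩ g ⁻¹' {genericPoint S} = {Y.fromSpecStalk z w} := by
      haveI := isDiscrete_iff_discreteTopology.1 (g.isDiscrete_preimage_singleton (genericPoint S))
      exact (by
        obtain ⟨O, hO, hOe⟩ := isOpen_induced_iff.1 (isOpen_discrete ({⟨Y.fromSpecStalk z w, hgy⟩} : Set (g ⁻¹' {genericPoint S})))
        refine ⟨O, hO, Set.ext fun q => ⟨fun ⟨hq, hqg⟩ => ?_, fun hq => ?_⟩⟩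
        · have : (⟨q, hqg⟩ : g ⁻¹' {genericPoint S}) ∈ Subtype.val ⁻¹' O := hq
          rw [hOe] at this
          exact congrArg Subtype.val this
        · rw [Set.mem_singleton_iff] at hq
          subst hq
          have : (⟨_, hgy⟩ : g ⁻¹' {genericPoint S}) ∈ Subtype.val ⁻¹' O := by rw [hOe]; rfl
          exact ⟨this, hgy⟩)
    exact hOy.subset ⟨hmw.mem_open hO (hOy.symm.subset rfl).1, hgm⟩
  exact (key a ha hga).symm.trans (key b hb hgb)

/-- The component of a point over the generic point is open. -/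
theorem isOpen_closure_of_generic {Y S : Scheme.{u}} [IsIntegral S] (hS : Pi1.IsNormalScheme S) (g : Y ⟶ S) [Etale g]
    (e : Y) (he : g e = genericPoint S) : IsOpen (closure ({e} : Set Y)) := by
  rw [isOpen_iff_forall_mem_open]
  intro z hz
  obtain ⟨U, hU, hzU, -⟩ := exists_isAffineOpen_mem_and_subset (U := (⊤ : S.Opens)) (x := g z) trivial
  obtain ⟨N, hN, hzN, hNU⟩ := exists_isAffineOpen_mem_and_subset (U := g ⁻¹ᵁ U) (x := z) hzU
  haveI : IsAffine (N : Scheme.{u}) := hN
  haveI : IsAffine (U : Scheme.{u}) := hU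
  let h := g.resLE U N hNU
  haveI : LocallyQuasiFinite g := GrothLib.EtBasicB.locallyQuasiFinite_of_unramified g
  have hgen : genericPoint S ∈ U := (genericPoint_specializes (g z)).mem_open U.2 hzU
  have hfin : (h ⁻¹' {⟨genericPoint S, hgen⟩}).Finite := h.finite_preimage_singleton _
  let F : Set Y := (N.ι '' (h ⁻¹' {⟨genericPoint S, hgen⟩})) \ {e}
  have hF : F.Finite := (hfin.image _).diff
  refine ⟨(N : Set Y) \ ⋃ a ∈ F, closure {a}, fun y hy => ?_,
    N.2.sdiff (hF.isClosed_biUnion fun a _ => isClosed_closure), hzN, ?_⟩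
  · obtain ⟨a, ha, hga⟩ := exists_generization g y
    rw [← specializes_iff_mem_closure]
    by_contra hne
    refine hy.2 (Set.mem_iUnion₂.2 ⟨a, ⟨⟨⟨a, ha.mem_open N.2 hy.1⟩, ?_, rfl⟩, fun h' => hne ?_⟩, ha.mem_closure⟩)
    · refine Subtype.ext ?_
      show U.ι (h ⟨a, _⟩) = genericPoint S
      rw [← Scheme.Hom.comp_apply, Scheme.Hom.resLE_comp_ι]
      exact hga
    · rw [Set.mem_singleton_iff] at h'
      exact h' ▸ ha
  · simp only [Set.mem_iUnion, exists_prop, not_exists, not_and]
    rintro a ⟨⟨w, hw, rfl⟩, hne⟩ hza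
    refine hne (generization_unique hS g (specializes_iff_mem_closure.2 hza) (specializes_iff_mem_closure.2 hz) ?_ he)
    have h1 : U.ι (h w) = genericPoint S := congrArg Subtype.val (hw : h w = ⟨genericPoint S, hgen⟩)
    rw [← Scheme.Hom.comp_apply, Scheme.Hom.resLE_comp_ι] at h1
    exact h1

/-- Two morphisms to a separated étale scheme agreeing at a point are equal on an irreducible source. -/
theorem hom_ext_etale {T Y S : Scheme.{u}} [IrreducibleSpace T] (g : Y ⟶ S) [Etale g] [IsSeparated g]
    {a b : T ⟶ Y} (h : a ≫ g = b ≫ g) {Q : Scheme.{u}} [Nonempty Q] (q : Q ⟶ T) (hq : ∀ z, q z = genericPoint T)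
    (hqab : q ≫ a = q ≫ b) : a = b := by
  let l : T ⟶ pullback g g := pullback.lift a b h
  let d := pullback.diagonal g
  haveI : IsOpenImmersion d := inferInstance
  let e := pullback.snd d l
  have hgen : genericPoint T ∈ Set.range e := by
    obtain ⟨z⟩ := ‹Nonempty Q›
    refine ⟨pullback.lift (q ≫ a) q ?_ z, ?_⟩
    · apply pullback.hom_ext
      · simp [d, l]
      · simp [d, l, hqab]
    · rw [← Scheme.Hom.comp_apply, pullback.lift_snd]
      exact hq z
  haveI : Surjective e := ⟨fun t => (genericPoint_specializes t).mem_closed e.isClosedMap.isClosed_range hgen⟩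
  haveI : IsIso e := (isIso_iff_isOpenImmersion_and_surjective e).2 ⟨inferInstance, inferInstance⟩
  have h1 := pullback.condition (f := d) (g := l)
  have ha : pullback.fst d l = e ≫ a := by
    have := congrArg (· ≫ pullback.fst g g) h1
    simpa [d, l, e] using this
  have hb : pullback.fst d l = e ≫ b := by
    have := congrArg (· ≫ pullback.snd g g) h1
    simpa [d, l, e] using this
  exact (cancel_epi e).1 (ha.symm.trans hb)

/-- A rational point of a torsor under a constant étale group extends. -/
theorem exists_section_of_generic {k : Type u} [Field k] {G : Over (Spec (CommRingCat.of k))} [GrpObj G]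
    [Etale G.hom] {S : Scheme.{u}} [IsIntegral S] (hS : Pi1.IsNormalScheme S) (s : S ⟶ Spec (CommRingCat.of k))
    {E : Over S} {a : AlgGrp.Action (Red.bc s G) E} (hE : NonAbH1.IsTorsorFor Scheme.fppfPrecoverage a)
    (x : Spec (S.residueField (genericPoint S)) ⟶ E.left)
    (hx : x ≫ E.hom = S.fromSpecResidueField (genericPoint S)) :
    ∃ σ : S ⟶ E.left, σ ≫ E.hom = 𝟙 S ∧ S.fromSpecResidueField (genericPoint S) ≫ σ = x := by
  classical
  have hE' := isTorsorFor_fpqc hE
  haveI : IsSeparated G.hom := GrothLib.GrpSchField.isSeparated G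
  haveI : Etale (Red.bc s G).hom := inferInstanceAs (Etale (pullback.snd G.hom s))
  haveI : IsSeparated (Red.bc s G).hom := inferInstanceAs (IsSeparated (pullback.snd G.hom s))
  haveI : Etale E.hom := property (P := @Etale.{u}) hE' inferInstance
  haveI := GrothLib.EtSite.descendsAlong_isSeparated.{u}
  haveI : IsSeparated E.hom := property (P := @IsSeparated.{u}) hE' inferInstance
  let η := genericPoint S
  let p₀ : Spec (S.residueField η) := IsLocalRing.closedPoint _
  let e := x p₀
  have hhe : E.hom e = η := by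
    rw [← Scheme.Hom.comp_apply, hx]
    exact S.fromSpecResidueField_apply η p₀
  let Z : E.left.Opens := ⟨closure {e}, isOpen_closure_of_generic hS E.hom e hhe⟩
  let γ := Z.ι ≫ E.hom
  haveI : IsClosedImmersion Z.ι :=
    IsClosedImmersion.of_isPreimmersion _ (by rw [Scheme.Opens.range_ι]; exact isClosed_closure)
  haveI : Etale γ := inferInstance
  haveI : IsSeparated γ := inferInstance
  haveI : IrreducibleSpace (Z : Scheme.{u}) := isIrreducible_iff_irreducibleSpace.mp (isIrreducible_singleton (x := e)).closure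
  have hfib : ∀ z : (Z : Scheme.{u}), γ z = η → Z.ι z = e := fun z hz =>
    generization_unique hS E.hom (specializes_rfl : Z.ι z ⤳ Z.ι z) (specializes_iff_mem_closure.2 z.2) hz hhe
  let xZ : Spec (S.residueField η) ⟶ (Z : Scheme.{u}) := IsOpenImmersion.lift Z.ι x (by
    rw [Scheme.Opens.range_ι]
    rintro _ ⟨p, rfl⟩
    rw [Subsingleton.elim p p₀]
    exact subset_closure rfl)
  have hxZ : xZ ≫ Z.ι = x := IsOpenImmersion.lift_fac _ _ _
  have hxγ : xZ ≫ γ = S.fromSpecResidueField η := by simp only [γ, reassoc_of% hxZ, hx]; rfl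
  let F := pullback γ (S.fromSpecResidueField η)
  let pF : F ⟶ Spec (S.residueField η) := pullback.snd γ _
  let σF : Spec (S.residueField η) ⟶ F := pullback.lift xZ (𝟙 _) (by rw [hxγ, Category.id_comp])
  haveI : IsIso pF := by
    haveI : Etale (σF ≫ pF) := by rw [pullback.lift_snd]; infer_instance
    haveI : Etale σF := Etale.of_comp σF pF
    haveI : Surjective σF := ⟨fun q => ⟨p₀, (pullback.fst γ (S.fromSpecResidueField η)).isEmbedding.injective
      (Z.ι.isOpenEmbedding.injective (by
        have h1 : γ (pullback.fst γ (S.fromSpecResidueField η) q) = η := by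
          rw [← Scheme.Hom.comp_apply, pullback.condition]; exact S.fromSpecResidueField_apply η _
        rw [hfib _ h1, ← Scheme.Hom.comp_apply σF, pullback.lift_fst, ← Scheme.Hom.comp_apply, hxZ]))⟩⟩
    haveI : IsSplitMono σF := IsSplitMono.mk' ⟨pF, pullback.lift_snd _ _ _⟩
    haveI : IsOpenImmersion σF := IsOpenImmersion.of_flat_of_mono σF
    haveI : IsIso σF := (isIso_iff_isOpenImmersion_and_surjective σF).2 ⟨inferInstance, inferInstance⟩
    haveI : IsIso (σF ≫ pF) := by rw [pullback.lift_snd]; infer_instance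
    exact IsIso.of_isIso_comp_left σF pF
  have hfac : ∀ (W : Scheme.{u}) (f : W ⟶ S) (w : W), f w = η →
      ∃ c : Spec (W.residueField w) ⟶ Spec (S.residueField η), c ≫ S.fromSpecResidueField η =
        W.fromSpecResidueField w ≫ f := fun W f w hw => by
    rw [← hw]
    exact ⟨Spec.map (f.residueFieldMap w), f.SpecMap_residueFieldMap_fromSpecResidueField w⟩
  haveI : Surjective (pullback.diagonal γ) := by
    refine ⟨fun q => ?_⟩
    obtain ⟨q', hq', hq'η⟩ := exists_generization (pullback.fst γ γ ≫ γ) q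
    obtain ⟨c, hc⟩ := hfac _ _ q' hq'η
    let uq := (pullback γ γ).fromSpecResidueField q'
    let l₁ : _ ⟶ F := pullback.lift (uq ≫ pullback.fst γ γ) c (by rw [hc, Category.assoc])
    let l₂ : _ ⟶ F := pullback.lift (uq ≫ pullback.snd γ γ) c (by rw [hc, Category.assoc, ← pullback.condition])
    have hl : l₁ = l₂ := (cancel_mono pF).1 (by simp [l₁, l₂, pF])
    have hu : uq ≫ pullback.fst γ γ = uq ≫ pullback.snd γ γ := by
      simpa [l₁, l₂] using congrArg (· ≫ pullback.fst γ (S.fromSpecResidueField η)) hl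
    have hu' : (uq ≫ pullback.fst γ γ) ≫ pullback.diagonal γ = uq := by
      apply pullback.hom_ext
      · simp
      · simpa using hu
    have hq'r : q' ∈ Set.range (pullback.diagonal γ) := by
      refine ⟨(uq ≫ pullback.fst γ γ) (IsLocalRing.closedPoint _), ?_⟩
      rw [← Scheme.Hom.comp_apply, hu']
      exact (pullback γ γ).fromSpecResidueField_apply q' _
    exact hq'.mem_closed (pullback.diagonal γ).isClosedMap.isClosed_range hq'r
  haveI : IsIso (pullback.diagonal γ) :=
    (isIso_iff_isOpenImmersion_and_surjective _).2 ⟨inferInstance, inferInstance⟩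
  haveI : Mono γ := (pullback.isIso_diagonal_iff γ).1 inferInstance
  haveI : IsOpenImmersion γ := IsOpenImmersion.of_flat_of_mono γ
  haveI : Surjective γ := by
    refine ⟨fun y => ?_⟩
    obtain ⟨κ, U, g, hg, ⟨σs⟩⟩ := exists_sections hE'
    obtain ⟨-, hflat, hsurj⟩ := FpqcCov.quasiCompactCover_and_flat g hg
    obtain ⟨i, v, rfl⟩ := hsurj y
    haveI : Flat (g i) := hflat i
    obtain ⟨v', hv', hv'η⟩ := exists_generization (g i) v
    have := isIso_triv hE.1 (σs i)
    let eT : Red.bc s G ⊗ Over.mk (g i) ⟶ E ⊗ Over.mk (g i) :=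
      lift ((Red.bc s G ◁ σs i) ≫ a.act) (snd (Red.bc s G) (Over.mk (g i)))
    haveI : IsIso eT.left := inferInstanceAs (IsIso ((Over.forget S).map eT))
    have heT : eT.left ≫ pullback.snd E.hom (g i) = pullback.snd (Red.bc s G).hom (g i) :=
      congrArg CommaMorphism.left (lift_snd ((Red.bc s G ◁ σs i) ≫ a.act) (snd (Red.bc s G) (Over.mk (g i))))
    let eP : pullback (pullback.snd G.hom s) (g i) ≅ pullback G.hom (g i ≫ s) :=
      pullbackLeftPullbackSndIso G.hom s (g i)
    obtain ⟨z', hz'₁, hz'₂⟩ := Scheme.Pullback.exists_preimage_pullback (f := E.hom) (g := g i) e v' (hhe.trans hv'η.symm)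
    let φ : pullback E.hom (g i) ⟶ pullback G.hom (g i ≫ s) := inv eT.left ≫ eP.hom
    have hφ : φ ≫ pullback.snd G.hom (g i ≫ s) = pullback.snd E.hom (g i) := by
      simp only [φ, eP, Category.assoc]
      rw [IsIso.inv_comp_eq]
      exact (pullbackLeftPullbackSndIso_hom_snd G.hom s (g i)).trans heT.symm
    haveI : IsIso φ := inferInstance
    obtain ⟨w, hw, hwv⟩ := specializingMap_snd G.hom (g i ≫ s) (a := φ z')
      (show pullback.snd G.hom (g i ≫ s) (φ z') ⤳ v by
        rw [← Scheme.Hom.comp_apply, hφ, hz'₂]; exact hv')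
    let w' := inv φ w
    have h1 : z' ⤳ w' := by
      have h2 : φ z' ⤳ w := hw
      have h3 : inv φ (φ z') = z' := by rw [← Scheme.Hom.comp_apply, IsIso.hom_inv_id]; rfl
      exact h3 ▸ h2.map (inv φ).continuous
    have h4 : pullback.snd E.hom (g i) w' = v := by
      rw [← hφ, Scheme.Hom.comp_apply]
      show pullback.snd G.hom (g i ≫ s) (φ (inv φ w)) = v
      rw [← Scheme.Hom.comp_apply (inv φ) φ, IsIso.inv_hom_id]
      exact hwv
    refine ⟨⟨pullback.fst E.hom (g i) w', ?_⟩, ?_⟩
    · have h5 := h1.map (pullback.fst E.hom (g i)).continuous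
      rw [hz'₁] at h5
      exact h5.mem_closure
    · show E.hom (pullback.fst E.hom (g i) w') = g i v
      rw [← Scheme.Hom.comp_apply, pullback.condition, Scheme.Hom.comp_apply, h4]
  haveI : IsIso γ := (isIso_iff_isOpenImmersion_and_surjective γ).2 ⟨inferInstance, inferInstance⟩
  refine ⟨inv γ ≫ Z.ι, by rw [Category.assoc]; exact IsIso.inv_hom_id γ, ?_⟩
  rw [← hxγ, Category.assoc, IsIso.hom_inv_id_assoc, hxZ]

end GrothLib.Torsor21
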