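import Groth.Agent.Lib.Torsor21.Local

/-!
# The long exact sequence of fpqc torsors, on the level of schemes
-/

set_option autoImplicit false

universe u

open CategoryTheory CategoryTheory.Limits MonoidalCategory CartesianMonoidalCategory MonObj GrpObj AlgebraicGeometry
open GrothLib.RepLocal

namespace GrothLib.Torsor21

variable {S : Scheme.{u}} {G G' G'' : Over S} [GrpObj G] [GrpObj G'] [GrpObj G''] {u : G' ⟶ G} {v : G ⟶ G''}

theorem existsUnique_translate (hex : NonAbH1.IsExactSeq Scheme.fpqcPrecoverage u v) {T : Over S}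
    (x y : T ⟶ G) (h : x ≫ v = y ≫ v) : ∃! g : T ⟶ G', x * (g ≫ u) = y := by
  obtain ⟨-, -, -, hsq, -⟩ := hex
  have key : ∀ g : T ⟶ G', lift x g ≫ (G ◁ u) ≫ μ[G] = x * (g ≫ u) := fun g => by
    rw [lift_whiskerLeft_assoc, ← Hom.mul_def]
  obtain ⟨l, h₁, h₂⟩ : ∃ l : T ⟶ G ⊗ G', l ≫ fst G G' = x ∧ l ≫ (G ◁ u) ≫ μ[G] = y :=
    ⟨hsq.lift x y h, hsq.lift_fst _ _ _, hsq.lift_snd _ _ _⟩
  have hl : l = lift x (l ≫ snd G G') := by
    rw [← h₁, ← comp_lift, lift_fst_snd, Category.comp_id]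
  refine ⟨l ≫ snd G G', ?_, fun g hg => ?_⟩
  · show x * ((l ≫ snd G G') ≫ u) = y
    rw [← key, ← hl, h₂]
  · have e : lift x g = l := hsq.hom_ext (by rw [lift_fst, h₁]) (by rw [key, h₂]; exact hg)
    rw [← e, lift_snd]

theorem point_injective (hex : NonAbH1.IsExactSeq Scheme.fpqcPrecoverage u v) {T : Over S}
    {g₁ g₂ : T ⟶ G'} (h : g₁ ≫ u = g₂ ≫ u) : g₁ = g₂ := by
  haveI : IsMonHom v := hex.2.1
  have huv := hex.2.2.1
  refine (existsUnique_translate hex 1 (g₁ ≫ u) ?_).unique (_root_.one_mul _) ((_root_.one_mul _).trans h.symm)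
  rw [MonObj.one_comp, Category.assoc, huv, MonObj.comp_one]

/-- Morphisms invariant under a torsor descend to the base. -/
theorem exists_desc_toUnit {X Z : Over S} {a : AlgGrp.Action G' X}
    (ha : NonAbH1.IsTorsorFor Scheme.fpqcPrecoverage a) (ψ : X ⟶ Z)
    (hψ : ∀ (T : Over S) (g : T ⟶ G') (p : T ⟶ X), (lift g p ≫ a.act) ≫ ψ = p ≫ ψ) :
    ∃ c : 𝟙_ (Over S) ⟶ Z, toUnit X ≫ c = ψ := by
  haveI : EffectiveEpi (toUnit X).left := by
    rw [show (toUnit X).left = X.hom from ((Category.comp_id _).symm.trans (Over.w (toUnit X)))]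
    exact TorsorDesc.effectiveEpi_of_localSections X.hom ha.2
  refine (TorsorDesc.existsUnique_desc (toUnit X) ψ fun T p q _ => ?_).exists
  obtain ⟨g, hg⟩ := TorsorDesc.exists_act_eq ha.1 p q
  rw [← hg, hψ]

theorem isPushforward_trivial_iff [IsCommMonObj G]
    (hex : NonAbH1.IsExactSeq Scheme.fpqcPrecoverage u v) (Q : NonAbH1.TorsorSch G' Scheme.fpqcPrecoverage) :
    NonAbH1.IsPushforwardAlongSch u Q.act (NonAbH1.trivialAction G) ↔
      ∃ (f : 𝟙_ (Over S) ⟶ G'') (i : Q.X ⟶ G), NonAbH1.IsPullbackTorsor u v f i Q.act := by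
  haveI : IsMonHom u := hex.1
  haveI : IsMonHom v := hex.2.1
  have huv := hex.2.2.1
  have htriv : ∀ (T : Over S) (g x : T ⟶ G), lift g x ≫ (NonAbH1.trivialAction G).act = g * x :=
    fun T g x => rfl
  constructor
  · rintro ⟨f, hf⟩
    let i : Q.X ⟶ G := f⁻¹
    have hi : ∀ (T : Over S) (g : T ⟶ G') (p : T ⟶ Q.X),
        lift g p ≫ Q.act.act ≫ i = (p ≫ i) * (g ≫ u)⁻¹ := fun T g p => by
      have h1 := congrArg (lift g p ≫ ·) hf
      simp only [comp_lift_assoc, lift_fst_assoc, lift_snd_assoc] at h1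
      rw [htriv] at h1
      simp only [i, GrpObj.comp_inv]
      rw [h1, _root_.mul_inv_rev]
    obtain ⟨f₀, hf₀⟩ := exists_desc_toUnit Q.isTorsor (i ≫ v) fun T g p => by
      rw [← Category.assoc, Category.assoc (lift g p), hi, MonObj.mul_comp, GrpObj.inv_comp,
        Category.assoc g, huv, MonObj.comp_one, inv_one, _root_.mul_one, Category.assoc]
    have hinj : ∀ {T : Over S} (p q : T ⟶ Q.X), p ≫ i = q ≫ i → p = q := fun {T} p q h => by
      obtain ⟨g, hg⟩ := TorsorDesc.exists_act_eq Q.isTorsor.1 p q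
      have h1 := hi T g q
      rw [← Category.assoc, hg, h] at h1
      have hg1 : g = 1 := point_injective hex (by
        rw [MonObj.one_comp]; exact inv_eq_one.mp (mul_left_cancel (h1.symm.trans (_root_.mul_one _).symm)))
      rw [← hg, hg1]
      exact AlgGrp.Action.lift_one_act _ _
    obtain ⟨κ, U, g, hg, ⟨s⟩⟩ := exists_sections Q.isTorsor
    have hlift : ∀ (T : Over S) (x : T ⟶ G), x ≫ v = toUnit T ≫ f₀ → ∃ q : T ⟶ Q.X, q ≫ i = x := by
      intro T x hx
      let z : ∀ i, FpqcRep.pb g T i ⟶ Over.mk (g i) := fun i =>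
        Over.homMk (pullback.fst (g i) T.hom) rfl
      choose q hq using fun j : κ => (by
        let R := FpqcRep.pb g T j ⊗ 𝟙_ (Over S)
        let q₀ : R ⟶ Q.X := fst _ _ ≫ z j ≫ s j
        let xR : R ⟶ G := fst _ _ ≫ FpqcRep.pι g T j ≫ x
        obtain ⟨h, hh, -⟩ := existsUnique_translate hex (q₀ ≫ i) xR (by
          simp only [q₀, xR, Category.assoc, ← hf₀, hx]
          simp only [← Category.assoc]
          exact congrArg (· ≫ f₀) (toUnit_unique _ _))
        refine ⟨lift h⁻¹ q₀ ≫ Q.act.act, ?_⟩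
        rw [Category.assoc, hi, GrpObj.inv_comp, _root_.inv_inv]
        exact hh :
        ∃ q : FpqcRep.pb g T j ⊗ 𝟙_ (Over S) ⟶ Q.X, q ≫ i = fst _ _ ≫ FpqcRep.pι g T j ≫ x)
      obtain ⟨k, hk, -⟩ := FpqcRep.existsUnique_hom hg T (𝟙_ (Over S)) q fun j l R a b e => hinj _ _ (by
        rw [Category.assoc, Category.assoc, hq, hq]
        simp only [← Category.assoc]
        congr 1
        rw [whiskerRight_fst, whiskerRight_fst, Category.assoc, Category.assoc, e])
      have h1 : k ≫ i = fst T _ ≫ x := FpqcRep.hom_ext_pb hg T _ fun j => by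
        rw [← Category.assoc, hk, hq, whiskerRight_fst_assoc]
      exact ⟨(ρ_ T).inv ≫ k, by simp [h1]⟩
    choose l hl using hlift
    refine ⟨f₀, i, inferInstance, inferInstance, ⟨⟨hf₀.symm⟩, ⟨PullbackCone.IsLimit.mk _
      (fun c => l c.pt c.fst (c.condition.trans (congrArg (· ≫ f₀) (toUnit_unique _ _))))
      (fun c => hl _ _ _) (fun c => toUnit_unique _ _)
      fun c m h₁ _ => hinj _ _ (h₁.trans (hl _ _ _).symm)⟩⟩, hi⟩
  · rintro ⟨f, i, -, -, -, hi⟩
    refine ⟨i⁻¹, ?_⟩
    refine AlgGrp.Action.hom_ext_lift₂ fun T g p => ?_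
    simp only [comp_lift_assoc, lift_fst_assoc, lift_snd_assoc]
    rw [htriv, GrpObj.comp_inv, GrpObj.comp_inv, GrpObj.comp_inv, hi, _root_.mul_inv_rev, _root_.inv_inv]

theorem isPushforward_iff_exists
    (hex : NonAbH1.IsExactSeq Scheme.fpqcPrecoverage u v) (P : NonAbH1.TorsorSch G Scheme.fpqcPrecoverage) :
    NonAbH1.IsPushforwardAlongSch v P.act (NonAbH1.trivialAction G'') ↔
      ∃ Q : NonAbH1.TorsorSch G' Scheme.fpqcPrecoverage, NonAbH1.IsPushforwardAlongSch u Q.act P.act := by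
  haveI : IsMonHom u := hex.1
  haveI : IsMonHom v := hex.2.1
  have huv := hex.2.2.1
  have htriv : ∀ (T : Over S) (g x : T ⟶ G''), lift g x ≫ (NonAbH1.trivialAction G'').act = g * x :=
    fun T g x => rfl
  constructor
  · rintro ⟨f, hf⟩
    have hf' : ∀ (T : Over S) (g : T ⟶ G) (p : T ⟶ P.X),
        (lift g p ≫ P.act.act) ≫ f = (g ≫ v) * (p ≫ f) := fun T g p => by
      have h1 := congrArg (lift g p ≫ ·) hf
      simp only [comp_lift_assoc, lift_fst_assoc, lift_snd_assoc] at h1
      rw [Category.assoc, h1, htriv]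
    let one : 𝟙_ (Over S) ⟶ G'' := η[G'']
    let Q : Over S := Over.mk (pullback.fst f.left one.left ≫ P.X.hom)
    let i : Q ⟶ P.X := Over.homMk (pullback.fst f.left one.left) rfl
    have hone : ∀ {T : Over S}, toUnit T ≫ one = (1 : T ⟶ G'') := fun {T} => Hom.one_def.symm
    have hsq : IsPullback i (toUnit Q) f one := by
      let t : Q ⟶ 𝟙_ (Over S) := Over.homMk (pullback.snd f.left one.left) (by
        show _ = pullback.fst f.left one.left ≫ P.X.hom
        rw [← Over.w f, ← Over.w one, pullback.condition_assoc])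
      rw [toUnit_unique (toUnit Q) t]
      exact IsPullback.of_map (Over.forget S) (Over.OverMorphism.ext pullback.condition)
        (IsPullback.of_hasPullback f.left one.left)
    have hi : i ≫ f = 1 := hsq.w.trans hone
    haveI : Mono i := ⟨fun {T} p q h => hsq.hom_ext h (toUnit_unique _ _)⟩
    let act : G' ⊗ Q ⟶ Q := hsq.lift (lift (fst G' Q ≫ u) (snd G' Q ≫ i) ≫ P.act.act) (toUnit _) (by
      rw [hf', Category.assoc, huv, Category.assoc, hi, MonObj.comp_one, MonObj.comp_one,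
        _root_.mul_one, hone])
    have hact : ∀ (T : Over S) (g : T ⟶ G') (q : T ⟶ Q),
        (lift g q ≫ act) ≫ i = lift (g ≫ u) (q ≫ i) ≫ P.act.act := fun T g q => by
      rw [Category.assoc, IsPullback.lift_fst, comp_lift_assoc, lift_fst_assoc, lift_snd_assoc]
    let b : AlgGrp.Action G' Q :=
      { act := act
        one_act := AlgGrp.Action.hom_ext_lift₂ fun T e q => by
          rw [← cancel_mono i, lift_whiskerRight_assoc, hact, toUnit_unique e (toUnit T), ← Hom.one_def,
            MonObj.one_comp, AlgGrp.Action.lift_one_act, leftUnitor_hom, lift_snd]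
        mul_act := AlgGrp.Action.hom_ext_lift₃ fun T g h q => by
          rw [← cancel_mono i, lift_whiskerRight_assoc, hact, ← Hom.mul_def, MonObj.mul_comp,
            AlgGrp.Action.lift_mul_act, lift_lift_associator_hom_assoc,
            lift_whiskerLeft_assoc, hact, hact] }
    have hQf : ∀ {T : Over S} (q : T ⟶ Q), (q ≫ i) ≫ f = 1 := fun q => by
      rw [Category.assoc, hi, MonObj.comp_one]
    refine ⟨⟨Q, b, TorsorDesc.isPseudoTorsorSch_of_points (fun T q₁ q₂ => ?_)
      (fun T g₁ g₂ q h => ?_), ?_⟩, i, ?_⟩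
    · obtain ⟨g, hg⟩ := TorsorDesc.exists_act_eq P.isTorsor.1 (q₁ ≫ i) (q₂ ≫ i)
      have hgv : g ≫ v = 1 := by
        have h1 := hf' T g (q₂ ≫ i)
        rw [hg, hQf, hQf, _root_.mul_one] at h1
        exact h1.symm
      obtain ⟨h, hh, -⟩ := existsUnique_translate hex 1 g (by rw [MonObj.one_comp, hgv])
      rw [_root_.one_mul] at hh
      exact ⟨h, (cancel_mono i).mp ((hact T h q₂).trans (by rw [hh, hg]))⟩
    · have h1 := congrArg (· ≫ i) h
      simp only [b] at h1
      rw [hact, hact] at h1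
      exact point_injective hex (TorsorDesc.act_left_injective P.isTorsor.1 h1)
    · obtain ⟨κ, U, g, hg, ⟨s⟩⟩ := exists_sections P.isTorsor
      obtain ⟨R, hR, hsec⟩ := hex.2.2.2.2
      obtain ⟨κ', U', g', hg', href⟩ := FpqcRep.exists_small_refinement hR
      have hs : ∀ l, ∃ x : U' l ⟶ G.left, x ≫ v.left = g' l := fun l => by
        obtain ⟨Z, r, k, hr, hk⟩ := href l
        obtain ⟨x, hx⟩ := hsec r hr
        exact ⟨k ≫ x, by rw [Category.assoc, ← hk]; exact congrArg (k ≫ ·) hx⟩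
      choose x hx using hs
      let t : ∀ j, U j ⟶ G''.left := fun j => (s j ≫ f).left
      have hcov : ∀ j, Presieve.ofArrows (fun l => pullback (g' l) (t j))
          (fun l => pullback.snd (g' l) (t j)) ∈ Scheme.fpqcPrecoverage (U j) := fun j => by
        rw [Presieve.ofArrows_pullback (t j) U' g']
        exact Precoverage.pullbackArrows_mem _ hg'
      refine ⟨_, Precoverage.comp_mem_coverings g hg _ hcov, ?_⟩
      rintro W w ⟨j, l⟩
      let W' : Over S := Over.mk (pullback.snd (g' l) (t j) ≫ g j)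
      let c : W' ⟶ Over.mk (g j) := Over.homMk (pullback.snd (g' l) (t j)) rfl
      let y : W' ⟶ G := Over.homMk (pullback.fst (g' l) (t j) ≫ x l) (by
        show _ = pullback.snd (g' l) (t j) ≫ g j
        rw [Category.assoc, ← Over.w v, reassoc_of% hx l, pullback.condition_assoc]
        exact congrArg (pullback.snd (g' l) (t j) ≫ ·) (Over.w (s j ≫ f)))
      have hy : y ≫ v = c ≫ s j ≫ f := Over.OverMorphism.ext (by
        show (pullback.fst (g' l) (t j) ≫ x l) ≫ v.left = _
        rw [Category.assoc, hx l, pullback.condition]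
        rfl)
      let q : W' ⟶ Q := hsq.lift (lift y⁻¹ (c ≫ s j) ≫ P.act.act) (toUnit W') (by
        rw [hone, hf', GrpObj.inv_comp, hy, Category.assoc, inv_mul_cancel])
      exact ⟨q.left, Over.w q⟩
    · exact AlgGrp.Action.hom_ext_lift₂ fun T g q => by
        rw [← Category.assoc, hact, comp_lift_assoc, lift_fst_assoc, lift_snd_assoc]
  · rintro ⟨Q, h, hh⟩
    have hh' : ∀ (T : Over S) (g : T ⟶ G') (q : T ⟶ Q.X),
        (lift g q ≫ Q.act.act) ≫ h = lift (g ≫ u) (q ≫ h) ≫ P.act.act := fun T g q => by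
      have h1 := congrArg (lift g q ≫ ·) hh
      simp only [comp_lift_assoc, lift_fst_assoc, lift_snd_assoc] at h1
      rw [Category.assoc, h1]
    obtain ⟨d, hd⟩ := TorsorDesc.exists_act_eq P.isTorsor.1 (fst P.X Q.X) (snd P.X Q.X ≫ h)
    have hd' : ∀ (T : Over S) (p : T ⟶ P.X) (q : T ⟶ Q.X),
        lift (lift p q ≫ d) (q ≫ h) ≫ P.act.act = p := fun T p q => by
      have h1 := congrArg (lift p q ≫ ·) hd
      simp only [comp_lift_assoc, lift_fst, lift_snd_assoc] at h1
      exact h1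
    haveI : EffectiveEpi (fst P.X Q.X).left := TorsorDesc.effectiveEpi_of_localSections _
      (TorsorDesc.isLocallyTrivialFor_of_isPullback _
        (IsPullback.of_hasPullback P.X.hom Q.X.hom).flip Q.isTorsor.2)
    obtain ⟨φ, hφ, -⟩ := TorsorDesc.existsUnique_desc (fst P.X Q.X) (d ≫ v) fun T a b e => by
      obtain ⟨g, hg⟩ := TorsorDesc.exists_act_eq Q.isTorsor.1 (a ≫ snd _ _) (b ≫ snd _ _)
      have ea : a = lift (a ≫ fst _ _) (a ≫ snd _ _) := by rw [← comp_lift, lift_fst_snd, Category.comp_id]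
      have eb : b = lift (a ≫ fst _ _) (b ≫ snd _ _) := by rw [e, ← comp_lift, lift_fst_snd, Category.comp_id]
      rw [ea, eb]
      generalize a ≫ fst P.X Q.X = p at *
      generalize b ≫ snd P.X Q.X = q at *
      rw [← hg]
      have h1 := hd' T p (lift g q ≫ Q.act.act)
      rw [hh', ← AlgGrp.Action.lift_mul_act] at h1
      have h2 := TorsorDesc.act_left_injective P.isTorsor.1 (h1.trans (hd' T p q).symm)
      rw [← Category.assoc, ← Category.assoc, ← h2, MonObj.mul_comp, Category.assoc g u v, huv,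
        MonObj.comp_one, _root_.mul_one]
    refine ⟨φ, ?_⟩
    haveI : EffectiveEpi (fst (G ⊗ P.X) Q.X).left := TorsorDesc.effectiveEpi_of_localSections _
      (TorsorDesc.isLocallyTrivialFor_of_isPullback _
        (IsPullback.of_hasPullback (G ⊗ P.X).hom Q.X.hom).flip Q.isTorsor.2)
    refine TorsorDesc.cancel_of_effectiveEpi (fst (G ⊗ P.X) Q.X) (AlgGrp.Action.hom_ext_lift₂
      fun T gp q => ?_)
    obtain ⟨g, p, rfl⟩ : ∃ g p, gp = lift g p :=
      ⟨gp ≫ fst G P.X, gp ≫ snd G P.X, by rw [← comp_lift, lift_fst_snd, Category.comp_id]⟩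
    have hφ' : ∀ (p : T ⟶ P.X), p ≫ φ = (lift p q ≫ d) ≫ v := fun p => by
      rw [Category.assoc, ← hφ, lift_fst_assoc]
    simp only [lift_fst_assoc, comp_lift_assoc, lift_snd_assoc]
    rw [htriv, ← Category.assoc, hφ', hφ', ← MonObj.mul_comp]
    congr 1
    refine TorsorDesc.act_left_injective P.isTorsor.1 (p := q ≫ h) ?_
    rw [hd', AlgGrp.Action.lift_mul_act, hd']

end GrothLib.Torsor21
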