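import Mathlib.RingTheory.Valuation.LocalSubring
import Mathlib.RingTheory.TensorProduct.Basic
import Mathlib.Algebra.Module.Projective
import Mathlib.LinearAlgebra.FreeModule.Finite.Basic
import Mathlib.RingTheory.Finiteness.Projective
import Mathlib.LinearAlgebra.TensorProduct.Pi
import Mathlib.RingTheory.IntegralClosure.IntegrallyClosed

/-!
# Integrality of an element of a generic fibre, tested on valuation rings
-/

set_option autoImplicit false

universe u

open TensorProduct

namespace GrothLib.Torsor21

variable {A K L : Type u} [CommRing A] [IsDomain A] [IsIntegrallyClosed A] [Field K] [Algebra A K]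
  [IsFractionRing A K] [Field L] [Algebra A L] (κ : K →ₐ[A] L)

theorem mem_range_of_forall_valuationSubring {z : K}
    (h : ∀ V : ValuationSubring L, (∀ a : A, algebraMap A L a ∈ V) → κ z ∈ V) :
    z ∈ Set.range (algebraMap A K) := by
  by_contra hz
  have hnot : κ z ∉ (integralClosure A L).toSubring := by
    intro hi
    have h1 : IsIntegral A (κ z) := hi
    have h2 : IsIntegral A z := (isIntegral_algHom_iff κ κ.toRingHom.injective).1 h1
    exact hz (IsIntegrallyClosed.algebraMap_eq_of_integral h2)
  haveI : IsIntegrallyClosedIn (integralClosure A L).toSubring L :=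
    inferInstanceAs (IsIntegrallyClosedIn (integralClosure A L) L)
  obtain ⟨V, hV, hzV⟩ := Subring.exists_le_valuationSubring_of_isIntegrallyClosedIn hnot
  exact hzV (h V fun a => hV ((integralClosure A L).algebraMap_mem a))

variable {B : Type u} [CommRing B] [Algebra A B] [Module.Finite A B] [Module.Projective A B]

/-- An element of the generic fibre of a finite projective algebra is integral as soon as it is so over every
valuation ring of an extension field containing the base. -/
theorem mem_range_includeLeft_of_valuations {z : B ⊗[A] K}
    (h : ∀ (V : Subalgebra A L), (∀ x : L, x ∈ V ∨ x⁻¹ ∈ V) →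
      LinearMap.lTensor B κ.toLinearMap z ∈ LinearMap.range (LinearMap.lTensor B V.val.toLinearMap)) :
    z ∈ Set.range (Algebra.TensorProduct.includeLeft : B →ₐ[A] B ⊗[A] K) := by
  obtain ⟨n, π, ι, hπ, -, hι⟩ := Module.Finite.exists_comp_eq_id_of_projective A B
  have key : ∀ i, LinearMap.rTensor K (LinearMap.proj i ∘ₗ ι) z ∈
      Set.range fun a : A => a ⊗ₜ[A] (1 : K) := by
    intro i
    let f : B →ₗ[A] A := LinearMap.proj i ∘ₗ ι
    let w := TensorProduct.lid A K (LinearMap.rTensor K f z)
    obtain ⟨a, ha⟩ := mem_range_of_forall_valuationSubring κ (z := w) fun V hV => by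
      let V' : Subalgebra A L := { V.toSubring.toSubsemiring with algebraMap_mem' := hV }
      obtain ⟨t, ht⟩ := h V' fun x => V.mem_or_inv_mem x
      have nat : ∀ (M N : Type u) [AddCommGroup M] [Module A M] [AddCommGroup N] [Module A N]
          (g : M →ₗ[A] N) (y : B ⊗[A] M),
          g (TensorProduct.lid A M (LinearMap.rTensor M f y)) =
            TensorProduct.lid A N (LinearMap.rTensor N f (LinearMap.lTensor B g y)) := by
        intro M N _ _ _ _ g y
        induction y with
        | zero => simp
        | tmul b m => simp
        | add p q hp hq => simp [hp, hq]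
      have e : κ w = V'.val (TensorProduct.lid A V' (LinearMap.rTensor V' f t)) := by
        refine (nat K L κ.toLinearMap z).trans ?_
        rw [← ht]
        exact (nat V' L V'.val.toLinearMap t).symm
      rw [e]
      exact (TensorProduct.lid A V' (LinearMap.rTensor V' f t)).2
    refine ⟨a, (TensorProduct.lid A K).injective ?_⟩
    rw [TensorProduct.lid_tmul, ← Algebra.algebraMap_eq_smul_one, ha]
  choose a ha using key
  refine ⟨π a, ?_⟩
  have hz : z = LinearMap.rTensor K π (LinearMap.rTensor K ι z) := by
    rw [← LinearMap.comp_apply, ← LinearMap.rTensor_comp, hι, LinearMap.rTensor_id]; rfl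
  have h2 : LinearMap.rTensor K ι z = a ⊗ₜ[A] (1 : K) := by
    apply (TensorProduct.piLeft A K (fun _ : Fin n => A)).injective
    funext i
    have : ∀ y : (Fin n → A) ⊗[A] K, TensorProduct.piLeft A K (fun _ : Fin n => A) y i =
        LinearMap.rTensor K (LinearMap.proj i) y := by
      intro y
      induction y with
      | zero => simp
      | tmul g c => simp
      | add p q hp hq => rw [map_add, Pi.add_apply, hp, hq, map_add]
    rw [this, this, ← LinearMap.comp_apply, ← LinearMap.rTensor_comp, LinearMap.rTensor_tmul, ← ha i]
    rfl
  rw [hz, h2, LinearMap.rTensor_tmul]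
  rfl

end GrothLib.Torsor21
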