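import Groth.Agent.Lib.Torsor21.RationalSection
import Groth.Agent.Lib.Torsor21.ValuativeRange
import Groth.Agent.Lib.FEt21.RelAffine
import Groth.Agent.Lib.FEt21.Affine
import Groth.Agent.Lib.FEt21.NormalUnramified
import Groth.Agent.Lib.SchDense.Basic
import Groth.Prelude.Def_Pi1

/-!
# Morphisms of finite torsors over a normal base extend from the generic point
-/

set_option autoImplicit false
set_option backward.isDefEq.respectTransparency false
set_option backward.isDefEq.respectTransparency.types false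
set_option linter.style.haveILetI false

universe u

open CategoryTheory CategoryTheory.Limits AlgebraicGeometry MonoidalCategory CartesianMonoidalCategory
open TopologicalSpace TensorProduct
open GrothLib.RepLocal

namespace GrothLib.Torsor21

variable {X : Scheme.{u}} [IsIntegral X]

/-- The morphism from the generic point to an open containing it. -/
noncomputable def toOpen (U : X.Opens) (hU : genericPoint X ∈ U) :
    Spec (X.presheaf.stalk (genericPoint X)) ⟶ (U : Scheme.{u}) :=
  IsOpenImmersion.lift U.ι (X.fromSpecStalk (genericPoint X)) (by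
    rw [Scheme.Opens.range_ι, Scheme.range_fromSpecStalk]
    intro z hz
    rw [show z = genericPoint X from (Specializes.antisymm hz (genericPoint_specializes z)).eq]
    exact hU)

@[reassoc]
theorem toOpen_ι (U : X.Opens) (hU : genericPoint X ∈ U) :
    toOpen U hU ≫ U.ι = X.fromSpecStalk (genericPoint X) := IsOpenImmersion.lift_fac _ _ _

variable {P : Over X}

/-- The comparison of the generic fibre with the restriction to an open. -/
noncomputable def genToOpen (P : Over X) (U : X.Opens) (hU : genericPoint X ∈ U) :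
    pullback P.hom (X.fromSpecStalk (genericPoint X)) ⟶ (P ⊗ Over.mk U.ι).left :=
  pullback.lift (pullback.fst P.hom _) (pullback.snd P.hom _ ≫ toOpen U hU) (by
    rw [Category.assoc]
    exact (congrArg (pullback.snd P.hom _ ≫ ·) (toOpen_ι U hU)).symm ▸ pullback.condition)

@[reassoc]
theorem genToOpen_fst (P : Over X) (U : X.Opens) (hU : genericPoint X ∈ U) :
    genToOpen P U hU ≫ pullback.fst P.hom U.ι = pullback.fst P.hom _ := pullback.lift_fst _ _ _

@[reassoc]
theorem genToOpen_snd (P : Over X) (U : X.Opens) (hU : genericPoint X ∈ U) :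
    genToOpen P U hU ≫ pullback.snd P.hom U.ι = pullback.snd P.hom _ ≫ toOpen U hU := pullback.lift_snd _ _ _

variable {G Q : Over X} [GrpObj G]

set_option maxHeartbeats 2000000 in
/-- Over an affine open, an equivariant map on the generic fibre extends. -/
theorem exists_extension_affine (hX : Pi1.IsNormalScheme X) {a : AlgGrp.Action G P} {b : AlgGrp.Action G Q}
    (hP : NonAbH1.IsPseudoTorsorSch a) [IsFinite P.hom] [Flat P.hom] [Surjective P.hom] [IsFinite Q.hom]
    (U : X.Opens) (hU : genericPoint X ∈ U) (φ : P ⊗ Over.mk U.ι ⟶ Q)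
    (heq : ∀ {R : Over X} (g : R ⟶ G) (x : R ⟶ P) (u : R ⟶ Over.mk U.ι),
      lift (lift g x ≫ a.act) u ≫ φ = lift g (lift x u ≫ φ) ≫ b.act)
    (W : X.Opens) (hW : IsAffineOpen W) :
    ∃ m : ((P.hom ⁻¹ᵁ W : P.left.Opens) : Scheme.{u}) ⟶ Q.left, m ≫ Q.hom = (P.hom ⁻¹ᵁ W).ι ≫ P.hom ∧
      ∀ {R : Scheme.{u}} (r : R ⟶ ((P.hom ⁻¹ᵁ W : P.left.Opens) : Scheme.{u}))
        (rη : R ⟶ pullback P.hom (X.fromSpecStalk (genericPoint X))),
        r ≫ (P.hom ⁻¹ᵁ W).ι = rη ≫ pullback.fst P.hom _ → r ≫ m = rη ≫ genToOpen P U hU ≫ φ.left := by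
  classical
  rcases isEmpty_or_nonempty (W : Scheme.{u}) with hWe | hWne
  · haveI : IsEmpty ((P.hom ⁻¹ᵁ W : P.left.Opens) : Scheme.{u}) := Function.isEmpty (fun z => (P.hom ∣_ W) z)
    refine ⟨isInitialOfIsEmpty.to _, isInitialOfIsEmpty.hom_ext _ _, fun {R} r rη _ => ?_⟩
    haveI : IsEmpty R := Function.isEmpty (fun z => r z)
    exact isInitialOfIsEmpty.hom_ext _ _
  let η := genericPoint X
  have hηW : η ∈ W := by
    obtain ⟨w⟩ := hWne
    exact (genericPoint_specializes w.1).mem_open W.2 w.2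
  let hWP := hW.preimage P.hom
  let hWQ := hW.preimage Q.hom
  let A := Γ(X, W)
  let K := X.functionField
  let B := Γ(P.left, P.hom ⁻¹ᵁ W)
  let C := Γ(Q.left, Q.hom ⁻¹ᵁ W)
  haveI : Nonempty W := ⟨⟨η, hηW⟩⟩
  letI : Algebra A K := (X.germToFunctionField W).hom.toAlgebra
  haveI : IsFractionRing A K := functionField_isFractionRing_of_isAffineOpen X W hW
  haveI : IsIntegrallyClosed A := by
    refine IsIntegrallyClosed.of_localization_maximal fun p _ hp => ?_
    haveI : p.IsPrime := hp.isPrime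
    let x : X := hW.fromSpec ⟨p, inferInstance⟩
    have hxW : x ∈ W := hW.range_fromSpec.subset ⟨_, rfl⟩
    have hpx : hW.primeIdealOf ⟨x, hxW⟩ = ⟨p, inferInstance⟩ := hW.fromSpec.isOpenEmbedding.injective
      (by rw [hW.fromSpec_primeIdealOf])
    letI : Algebra A (X.presheaf.stalk x) := (X.presheaf.germ W x hxW).hom.toAlgebra
    haveI : IsLocalization.AtPrime (X.presheaf.stalk x) p := by
      have := hW.isLocalization_stalk ⟨x, hxW⟩
      rwa [hpx] at this
    haveI := (hX x).1
    haveI := (hX x).2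
    exact IsIntegrallyClosed.of_equiv
      (IsLocalization.algEquiv p.primeCompl (X.presheaf.stalk x) (Localization.AtPrime p)).toRingEquiv
  letI : Algebra A B := (P.hom.app W).hom.toAlgebra
  letI : Algebra A C := (Q.hom.app W).hom.toAlgebra
  haveI : Module.Finite A B := P.hom.finite_app W hW
  haveI : Module.Finite A C := Q.hom.finite_app W hW
  haveI : Module.Flat A B := by
    have := P.hom.flat_appLE hW hWP le_rfl
    rwa [← Scheme.Hom.app_eq_appLE] at this
  haveI := GrothLib.FEt21.finitePresentation_of_finite_flat_domain (R := A) B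
  haveI : Module.Projective A B := Module.Flat.projective_of_finitePresentation
  have sqP := GrothLib.FEt21.isPullback_app P.hom hW
  have sqQ := GrothLib.FEt21.isPullback_app Q.hom hW
  have hgerm : Spec.map (CommRingCat.ofHom (algebraMap A K)) ≫ hW.fromSpec = X.fromSpecStalk η :=
    hW.fromSpecStalk_eq_fromSpecStalk hηW
  let BK := B ⊗[A] K
  let inlK : B →ₐ[A] BK := Algebra.TensorProduct.includeLeft
  let inrK : K →ₐ[A] BK := Algebra.TensorProduct.includeRight
  let sp : ∀ {S T : Type u} [CommRing S] [CommRing T], (S →+* T) → (Spec (CommRingCat.of T) ⟶ Spec (CommRingCat.of S)) :=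
    fun f => Spec.map (CommRingCat.ofHom f)
  have spc : ∀ {S T V : Type u} [CommRing S] [CommRing T] [CommRing V] (f : S →+* T) (g : T →+* V),
      sp g ≫ sp f = sp (g.comp f) := fun f g => (Spec.map_comp _ _).symm
  let fW : Spec (CommRingCat.of A) ⟶ X := hW.fromSpec
  let fB : Spec (CommRingCat.of B) ⟶ P.left := hWP.fromSpec
  let fC : Spec (CommRingCat.of C) ⟶ Q.left := hWQ.fromSpec
  have hfB : fB ≫ P.hom = sp (algebraMap A B) ≫ fW := sqP.w
  have hfC : fC ≫ Q.hom = sp (algebraMap A C) ≫ fW := sqQ.w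
  have hover : ∀ {S : Type u} [CommRing S] [Algebra A S] (f : B →ₐ[A] S),
      (sp f.toRingHom ≫ fB) ≫ P.hom = sp (algebraMap A S) ≫ fW := fun {S} _ _ f => by
    rw [Category.assoc, hfB, ← Category.assoc, spc, AlgHom.toRingHom_eq_coe, f.comp_algebraMap]
  have hoverC : ∀ {S : Type u} [CommRing S] [Algebra A S] (f : C →ₐ[A] S),
      (sp f.toRingHom ≫ fC) ≫ Q.hom = sp (algebraMap A S) ≫ fW := fun {S} _ _ f => by
    rw [Category.assoc, hfC, ← Category.assoc, spc, AlgHom.toRingHom_eq_coe, f.comp_algebraMap]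
  obtain ⟨aK, haK1, haK2⟩ : ∃ aK : Spec (CommRingCat.of BK) ⟶ pullback P.hom (X.fromSpecStalk η),
      aK ≫ pullback.fst _ _ = sp inlK.toRingHom ≫ fB ∧ aK ≫ pullback.snd _ _ = sp inrK.toRingHom :=
    ⟨pullback.lift (sp inlK.toRingHom ≫ fB) (sp inrK.toRingHom) (by
      rw [hover, ← hgerm]
      show _ = sp inrK.toRingHom ≫ sp (algebraMap A K) ≫ fW
      rw [← Category.assoc, spc, AlgHom.toRingHom_eq_coe, inrK.comp_algebraMap]),
      pullback.lift_fst _ _ _, pullback.lift_snd _ _ _⟩
  let M : Spec (CommRingCat.of BK) ⟶ Q.left := aK ≫ genToOpen P U hU ≫ φ.left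
  have hgen : genToOpen P U hU ≫ φ.left ≫ Q.hom = pullback.fst P.hom (X.fromSpecStalk η) ≫ P.hom := by
    rw [Over.w φ]
    show genToOpen P U hU ≫ pullback.fst P.hom U.ι ≫ P.hom = _
    exact pullback.lift_fst_assoc _ _ _ _
  have hM : M ≫ Q.hom = sp (algebraMap A BK) ≫ fW := by
    show (aK ≫ genToOpen P U hU ≫ φ.left) ≫ Q.hom = _
    rw [Category.assoc, Category.assoc, hgen, reassoc_of% haK1, ← Category.assoc, hover]
  have factorQ : ∀ {S : Type u} [CommRing S] [Algebra A S] (N : Spec (CommRingCat.of S) ⟶ Q.left),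
      N ≫ Q.hom = sp (algebraMap A S) ≫ fW → ∃ ω : C →ₐ[A] S, sp ω.toRingHom ≫ fC = N := by
    intro S _ _ N hN
    let l := sqQ.lift N (sp (algebraMap A S)) hN
    refine ⟨{ (Spec.preimage l).hom with commutes' := fun x => ?_ }, ?_⟩
    · have h1 : Q.hom.app W ≫ Spec.preimage l = CommRingCat.ofHom (algebraMap A S) := by
        apply Spec.map_injective
        rw [Spec.map_comp, Spec.map_preimage]
        exact sqQ.lift_snd _ _ _
      exact congrArg (fun q => q.hom x) h1
    · show Spec.map (CommRingCat.ofHom (Spec.preimage l).hom) ≫ fC = N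
      rw [CommRingCat.ofHom_hom, Spec.map_preimage]
      exact sqQ.lift_fst _ _ _
  obtain ⟨ψ, hψ⟩ := factorQ M hM
  haveI : Nontrivial BK := by
    obtain ⟨z, hz⟩ := P.hom.surjective η
    obtain ⟨z', rfl⟩ : z ∈ Set.range fB := hWP.range_fromSpec.ge (show P.hom z ∈ W from hz ▸ hηW)
    let p₀ : Spec (CommRingCat.of K) := IsLocalRing.closedPoint K
    obtain ⟨w, -⟩ := Scheme.Pullback.exists_preimage_pullback (f := sp (algebraMap A B))
      (g := sp (algebraMap A K)) z' p₀ (hW.fromSpec.isOpenEmbedding.injective (by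
        show fW (sp (algebraMap A B) z') = fW (sp (algebraMap A K) p₀)
        rw [← Scheme.Hom.comp_apply, ← hfB, Scheme.Hom.comp_apply, hz, ← Scheme.Hom.comp_apply, hgerm]
        exact (Scheme.fromSpecStalk_closedPoint).symm))
    exact PrimeSpectrum.nonempty_iff_nontrivial.1 ⟨((pullbackSpecIso A B K).hom w : Spec (CommRingCat.of BK))⟩
  obtain ⟨mL, hmL⟩ := Ideal.exists_maximal BK
  let L := BK ⧸ mL
  letI : Field L := Ideal.Quotient.field mL
  let mk : BK →ₐ[A] L := Ideal.Quotient.mkₐ A mL
  let κ : K →ₐ[A] L := mk.comp inrK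
  have hrange : ∀ c : C, ψ c ∈ Set.range inlK := by
    intro c
    refine mem_range_includeLeft_of_valuations κ fun V hVval => ?_
    let VS : ValuationSubring L := { V.toSubring with mem_or_inv_mem' := hVval }
    have hint : ∀ y : L, IsIntegral A y → y ∈ V := fun y hy => by
      letI : Algebra A VS := inferInstanceAs (Algebra A V)
      haveI : IsScalarTower A VS L := IsScalarTower.of_algebraMap_eq fun _ => rfl
      obtain ⟨v, hv⟩ := IsIntegrallyClosed.algebraMap_eq_of_integral (R := VS) (hy.tower_top : IsIntegral VS y)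
      rw [← hv]
      exact v.2
    let pV : B →ₐ[A] V := AlgHom.codRestrict (mk.comp inlK) V fun x =>
      hint _ ((Algebra.IsIntegral.isIntegral x).map (mk.comp inlK))
    let qV : C →ₐ[A] V := AlgHom.codRestrict (mk.comp ψ) V fun x =>
      hint _ ((Algebra.IsIntegral.isIntegral x).map (mk.comp ψ))
    let T : Over X := Over.mk (sp (algebraMap A V) ≫ fW)
    let p : T ⟶ P := Over.homMk (sp pV.toRingHom ≫ fB) (hover pV)
    let q : T ⟶ Q := Over.homMk (sp qV.toRingHom ≫ fC) (hoverC qV)
    obtain ⟨g, hg⟩ := TorsorDesc.exists_act_eq hP (fst P T) (snd P T ≫ p)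
    let hT : P ⊗ T ⟶ Q := lift g (snd P T ≫ q) ≫ b.act
    let BV := B ⊗[A] V
    let RV : Over X := Over.mk (sp (algebraMap A BV) ≫ fW)
    let xV : RV ⟶ P := Over.homMk (sp (Algebra.TensorProduct.includeLeft : B →ₐ[A] BV).toRingHom ≫ fB) (hover _)
    let tV : RV ⟶ T := Over.homMk (sp (Algebra.TensorProduct.includeRight : V →ₐ[A] BV).toRingHom) (by
      show _ ≫ sp (algebraMap A V) ≫ fW = sp (algebraMap A BV) ≫ fW
      rw [← Category.assoc, spc, AlgHom.toRingHom_eq_coe, AlgHom.comp_algebraMap])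
    obtain ⟨ω, hω⟩ := factorQ (lift xV tV ≫ hT).left (Over.w (lift xV tV ≫ hT))
    refine ⟨ω c, ?_⟩
    let BL := B ⊗[A] L
    let mapV : BV →ₐ[A] BL := Algebra.TensorProduct.map (AlgHom.id A B) V.val
    let mapK : BK →ₐ[A] BL := Algebra.TensorProduct.map (AlgHom.id A B) κ
    let inrL : L →ₐ[A] BL := Algebra.TensorProduct.includeRight
    let RL : Over X := Over.mk (sp (algebraMap A BL) ≫ fW)
    let TL : Over X := Over.mk (sp (algebraMap A L) ≫ fW)
    let i : RL ⟶ RV := Over.homMk (sp mapV.toRingHom) (by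
      show _ ≫ sp (algebraMap A BV) ≫ fW = sp (algebraMap A BL) ≫ fW
      rw [← Category.assoc, spc, AlgHom.toRingHom_eq_coe, AlgHom.comp_algebraMap])
    let sL : RL ⟶ TL := Over.homMk (sp inrL.toRingHom) (by
      show _ ≫ sp (algebraMap A L) ≫ fW = sp (algebraMap A BL) ≫ fW
      rw [← Category.assoc, spc, AlgHom.toRingHom_eq_coe, AlgHom.comp_algebraMap])
    let jT : TL ⟶ T := Over.homMk (sp V.val.toRingHom) (by
      show _ ≫ sp (algebraMap A V) ≫ fW = sp (algebraMap A L) ≫ fW
      rw [← Category.assoc, spc, AlgHom.toRingHom_eq_coe, AlgHom.comp_algebraMap])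
    let uT : TL ⟶ Over.mk U.ι := Over.homMk (sp κ.toRingHom ≫ toOpen U hU) (by
      show (sp κ.toRingHom ≫ toOpen U hU) ≫ U.ι = sp (algebraMap A L) ≫ fW
      rw [Category.assoc, toOpen_ι, ← hgerm]
      show sp κ.toRingHom ≫ sp (algebraMap A K) ≫ fW = _
      rw [← Category.assoc, spc, AlgHom.toRingHom_eq_coe, AlgHom.comp_algebraMap])
    have htL : i ≫ tV = sL ≫ jT := by
      ext1
      show sp mapV.toRingHom ≫ sp _ = sp inrL.toRingHom ≫ sp _
      rw [spc, spc]
      congr 1
    have key1 : lift (jT ≫ p) uT ≫ φ = jT ≫ q := by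
      ext1
      have e1 : (lift (jT ≫ p) uT).left = sp mk.toRingHom ≫ aK ≫ genToOpen P U hU := by
        apply pullback.hom_ext
        · refine (congrArg CommaMorphism.left (lift_fst (jT ≫ p) uT)).trans ?_
          show sp V.val.toRingHom ≫ sp pV.toRingHom ≫ fB = _
          simp only [Category.assoc]
          erw [genToOpen_fst, haK1]
          rw [← Category.assoc, spc, ← Category.assoc (sp mk.toRingHom), spc]
          rfl
        · refine (congrArg CommaMorphism.left (lift_snd (jT ≫ p) uT)).trans ?_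
          show sp κ.toRingHom ≫ toOpen U hU = _
          simp only [Category.assoc]
          erw [genToOpen_snd, reassoc_of% haK2]
          rw [← Category.assoc (sp mk.toRingHom), spc]
          rfl
      rw [Over.comp_left, e1, Category.assoc, Category.assoc]
      show sp mk.toRingHom ≫ M = sp V.val.toRingHom ≫ sp qV.toRingHom ≫ fC
      rw [← hψ, ← Category.assoc, spc, ← Category.assoc (sp V.val.toRingHom), spc]
      rfl
    have key2 : i ≫ lift xV tV ≫ hT = lift (i ≫ xV) (sL ≫ uT) ≫ φ := by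
      have h1 : lift ((i ≫ lift xV tV) ≫ g) (sL ≫ jT ≫ p) ≫ a.act = i ≫ xV := by
        have := congrArg (fun e => (i ≫ lift xV tV) ≫ e) hg
        simpa only [comp_lift_assoc, Category.assoc, lift_snd_assoc, lift_fst, reassoc_of% htL] using this
      calc i ≫ lift xV tV ≫ hT = lift ((i ≫ lift xV tV) ≫ g) (sL ≫ jT ≫ q) ≫ b.act := by
            simp only [hT, comp_lift_assoc, Category.assoc, lift_snd_assoc, reassoc_of% htL]
        _ = lift ((i ≫ lift xV tV) ≫ g) (lift (sL ≫ jT ≫ p) (sL ≫ uT) ≫ φ) ≫ b.act := by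
            rw [← comp_lift_assoc, key1]
        _ = lift (lift ((i ≫ lift xV tV) ≫ g) (sL ≫ jT ≫ p) ≫ a.act) (sL ≫ uT) ≫ φ := (heq _ _ _).symm
        _ = lift (i ≫ xV) (sL ≫ uT) ≫ φ := by rw [h1]
    have e2 : (lift (i ≫ xV) (sL ≫ uT)).left = sp mapK.toRingHom ≫ aK ≫ genToOpen P U hU := by
      apply pullback.hom_ext
      · refine (congrArg CommaMorphism.left (lift_fst (i ≫ xV) (sL ≫ uT))).trans ?_
        show sp mapV.toRingHom ≫ sp _ ≫ fB = _
        simp only [Category.assoc]
        erw [genToOpen_fst, haK1]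
        rw [← Category.assoc, spc, ← Category.assoc (sp mapK.toRingHom), spc]
        congr 2
      · refine (congrArg CommaMorphism.left (lift_snd (i ≫ xV) (sL ≫ uT))).trans ?_
        show sp inrL.toRingHom ≫ sp κ.toRingHom ≫ toOpen U hU = _
        simp only [Category.assoc]
        erw [genToOpen_snd, reassoc_of% haK2]
        rw [← Category.assoc, spc, ← Category.assoc (sp mapK.toRingHom), spc]
        congr 2
    have key3 : sp (mapV.comp ω).toRingHom ≫ fC = sp (mapK.comp ψ).toRingHom ≫ fC := by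
      have h1 : i.left ≫ (lift xV tV ≫ hT).left = (lift (i ≫ xV) (sL ≫ uT)).left ≫ φ.left := by
        rw [← Over.comp_left, ← Over.comp_left, key2]
      rw [← hω, e2] at h1
      simp only [Category.assoc] at h1
      show sp (mapV.toRingHom.comp ω.toRingHom) ≫ fC = sp (mapK.toRingHom.comp ψ.toRingHom) ≫ fC
      rw [← spc, ← spc, Category.assoc, Category.assoc]
      refine h1.trans ?_
      show sp mapK.toRingHom ≫ M = _
      rw [← hψ]
    have key4 := congrArg (fun t : Spec (CommRingCat.of BL) ⟶ Spec (CommRingCat.of C) => Spec.preimage t)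
      ((cancel_mono fC).1 key3)
    simp only [sp, Spec.preimage_map] at key4
    exact congrArg (fun t => t.hom c) key4
  have hinj : Function.Injective inlK :=
    Algebra.TensorProduct.includeLeft_injective (S := A) (IsFractionRing.injective A K)
  let ψ₀ : C →ₐ[A] B := (AlgEquiv.ofInjective inlK hinj).symm.toAlgHom.comp (ψ.codRestrict inlK.range hrange)
  have hψ₀ : inlK.comp ψ₀ = ψ := AlgHom.ext fun c => by
    show inlK ((AlgEquiv.ofInjective inlK hinj).symm (ψ.codRestrict inlK.range hrange c)) = ψ c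
    exact congrArg Subtype.val ((AlgEquiv.ofInjective inlK hinj).apply_symm_apply _)
  let PW : Scheme.{u} := (P.hom ⁻¹ᵁ W : P.left.Opens)
  let tS : PW ⟶ Spec (CommRingCat.of B) := (P.hom ⁻¹ᵁ W).toSpecΓ
  have htS : tS ≫ fB = (P.hom ⁻¹ᵁ W).ι := hWP.toSpecΓ_fromSpec
  refine ⟨tS ≫ sp ψ₀.toRingHom ≫ fC, ?_, fun {R} r rη hr => ?_⟩
  · rw [← htS, Category.assoc, Category.assoc, Category.assoc, hfC, hfB, ← Category.assoc (sp ψ₀.toRingHom),
      spc, AlgHom.toRingHom_eq_coe, ψ₀.comp_algebraMap]
  · let l₀ : R ⟶ pullback (sp (algebraMap A B)) (sp (algebraMap A K)) :=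
      pullback.lift (r ≫ tS) (rη ≫ pullback.snd P.hom _) (by
        rw [← cancel_mono fW]
        simp only [Category.assoc]
        rw [← hfB, reassoc_of% htS, reassoc_of% hr, pullback.condition]
        exact congrArg (fun t => rη ≫ pullback.snd P.hom _ ≫ t) hgerm.symm)
    let l : R ⟶ Spec (CommRingCat.of BK) := l₀ ≫ (pullbackSpecIso A B K).hom
    have hl1 : l ≫ sp inlK.toRingHom = r ≫ tS := by
      simp only [l, Category.assoc]
      erw [pullbackSpecIso_hom_fst]
      exact pullback.lift_fst _ _ _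
    have hl2 : l ≫ sp inrK.toRingHom = rη ≫ pullback.snd P.hom _ := by
      simp only [l, Category.assoc]
      erw [pullbackSpecIso_hom_snd]
      exact pullback.lift_snd _ _ _
    have hl : l ≫ aK = rη := by
      apply pullback.hom_ext
      · rw [Category.assoc, haK1, reassoc_of% hl1, htS, hr]
      · rw [Category.assoc, haK2, hl2]
    rw [← hl, Category.assoc]
    show r ≫ tS ≫ sp ψ₀.toRingHom ≫ fC = l ≫ M
    rw [← reassoc_of% hl1, ← hψ, ← hψ₀, ← Category.assoc (sp inlK.toRingHom), spc]
    rfl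

set_option maxHeartbeats 800000 in
/-- An equivariant map between finite flat torsors over a normal integral base defined over a dense open
extends to an isomorphism. -/
theorem exists_equivIso_of_open (hX : Pi1.IsNormalScheme X) [IsFinite G.hom] [Flat G.hom]
    {a : AlgGrp.Action G P} {b : AlgGrp.Action G Q} (ha : NonAbH1.IsTorsorFor Scheme.fppfPrecoverage a)
    (hb : NonAbH1.IsTorsorFor Scheme.fppfPrecoverage b)
    (U : X.Opens) (hU : genericPoint X ∈ U) (φ : P ⊗ Over.mk U.ι ⟶ Q)
    (heq : ∀ {R : Over X} (g : R ⟶ G) (x : R ⟶ P) (u : R ⟶ Over.mk U.ι),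
      lift (lift g x ≫ a.act) u ≫ φ = lift g (lift x u ≫ φ) ≫ b.act) :
    Nonempty (NonAbH1.EquivIso a b) := by
  have ha' := isTorsorFor_fpqc ha
  have hb' := isTorsorFor_fpqc hb
  haveI : MorphismProperty.DescendsAlong @Flat (@Surjective ⊓ @Flat ⊓ @QuasiCompact : MorphismProperty Scheme.{u}) :=
    HasRingHomProperty.descendsAlong_flat (P := @Flat) GrothLib.AlgSp.codescendsAlong_flat
  haveI : Flat P.hom := property @Flat ha' inferInstance
  haveI : Surjective P.hom := surjective_hom ha'
  haveI : IsFinite P.hom := isFinite_hom ha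
  haveI : IsFinite Q.hom := isFinite_hom hb
  let η := X.fromSpecStalk (genericPoint X)
  haveI : IsDominant η := by
    refine ⟨dense_iff_closure_eq.2 (eq_top_iff.2 fun z _ => ?_)⟩
    rw [Scheme.range_fromSpecStalk]
    exact closure_mono (Set.singleton_subset_iff.2 specializes_rfl) (genericPoint_specializes z).mem_closure
  haveI : QuasiCompact η := inferInstance
  haveI : IsSchemeTheoreticallyDominant η := IsSchemeTheoreticallyDominant.of_isDominant η
  choose m hm1 hm2 using fun W : X.affineOpens => exists_extension_affine hX ha.1 U hU φ heq W.1 W.2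
  have hdom : ∀ (O : P.left.Opens), IsSchemeTheoreticallyDominant
      (pullback.fst (O.ι ≫ P.hom) η) := fun O => inferInstance
  have glue : ∀ (V W : X.affineOpens) (i : W.1 ≤ V.1),
      P.left.homOfLE (P.hom.preimage_mono i) ≫ m V = m W := by
    intro V W i
    let O := P.hom ⁻¹ᵁ W.1
    haveI := hdom O
    refine GrothLib.SchDense.ext_of_schDominant Q.hom (by rw [Category.assoc, hm1, hm1, Scheme.homOfLE_ι_assoc])
      (pullback.fst (O.ι ≫ P.hom) η) ?_
    let rη : pullback (O.ι ≫ P.hom) η ⟶ pullback P.hom η :=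
      pullback.lift (pullback.fst _ _ ≫ O.ι) (pullback.snd _ _) (by rw [Category.assoc, pullback.condition])
    have e : pullback.fst (O.ι ≫ P.hom) η ≫ O.ι = rη ≫ pullback.fst P.hom η := (pullback.lift_fst _ _ _).symm
    rw [← Category.assoc, hm2 V _ rη (by rw [Category.assoc, Scheme.homOfLE_ι]; exact e)]
    exact (hm2 W _ rη e).symm
  obtain ⟨h, hh⟩ := GrothLib.FEt21.exists_glue (f := P.hom) m glue
  let 𝒰 := P.left.openCoverOfIsOpenCover (fun W : X.affineOpens => P.hom ⁻¹ᵁ W.1)
    (.comap (iSup_affineOpens_eq_top X) P.hom.base.1)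
  have hw : h ≫ Q.hom = P.hom := 𝒰.hom_ext _ _ fun W => by
    show (P.hom ⁻¹ᵁ W.1).ι ≫ h ≫ Q.hom = (P.hom ⁻¹ᵁ W.1).ι ≫ P.hom
    rw [← Category.assoc, hh, hm1]
  let hP' : P ⟶ Q := Over.homMk h hw
  have hgen : pullback.fst P.hom η ≫ h = genToOpen P U hU ≫ φ.left := by
    refine Scheme.Cover.hom_ext (𝒰.pullback₁ (pullback.fst P.hom η)) _ _ fun W => ?_
    show pullback.fst _ _ ≫ pullback.fst P.hom η ≫ h = pullback.fst _ _ ≫ _
    rw [pullback.condition_assoc]
    show pullback.snd _ _ ≫ (P.hom ⁻¹ᵁ W.1).ι ≫ h = _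
    rw [hh]
    exact hm2 W _ _ pullback.condition.symm
  have hequiv : AlgGrp.Action.IsEquivariant a b hP' := by
    haveI : Flat (G ⊗ P).hom := inferInstanceAs (Flat (pullback.fst G.hom P.hom ≫ G.hom))
    let d : pullback (G ⊗ P).hom η ⟶ (G ⊗ P).left := pullback.fst _ _
    haveI : IsSchemeTheoreticallyDominant d := inferInstance
    unfold AlgGrp.Action.IsEquivariant
    ext1
    refine GrothLib.SchDense.ext_of_schDominant Q.hom ((Over.w _).trans (Over.w _).symm) d ?_
    let R : Over X := Over.mk (pullback.snd (G ⊗ P).hom η ≫ η)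
    let g : R ⟶ G := Over.homMk d pullback.condition ≫ fst G P
    let x : R ⟶ P := Over.homMk d pullback.condition ≫ snd G P
    let v : R ⟶ Over.mk U.ι := Over.homMk (pullback.snd (G ⊗ P).hom η ≫ toOpen U hU)
      (by show (_ ≫ toOpen U hU) ≫ U.ι = _; rw [Category.assoc, toOpen_ι]; rfl)
    have hres : ∀ y : R ⟶ P, lift y v ≫ φ = y ≫ hP' := by
      intro y
      ext1
      let ry : R.left ⟶ pullback P.hom η := pullback.lift y.left (pullback.snd (G ⊗ P).hom η) (Over.w y)
      have : (lift y v).left = ry ≫ genToOpen P U hU := by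
        apply pullback.hom_ext
        · rw [Category.assoc]
          erw [genToOpen_fst]
          exact (congrArg CommaMorphism.left (lift_fst y v)).trans (pullback.lift_fst _ _ _).symm
        · rw [Category.assoc]
          erw [genToOpen_snd, pullback.lift_snd_assoc]
          exact congrArg CommaMorphism.left (lift_snd y v)
      show (lift y v).left ≫ φ.left = y.left ≫ h
      rw [this, Category.assoc, ← hgen, ← Category.assoc, pullback.lift_fst]
    have key := heq g x v
    rw [hres, hres] at key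
    have hd : (Over.homMk d pullback.condition : R ⟶ G ⊗ P) = lift g x := by
      rw [← comp_lift, lift_fst_snd, Category.comp_id]
    have key' : (Over.homMk d pullback.condition : R ⟶ G ⊗ P) ≫ a.act ≫ hP' =
        (Over.homMk d pullback.condition : R ⟶ G ⊗ P) ≫ (G ◁ hP') ≫ b.act := by
      rw [hd, lift_whiskerLeft_assoc, ← Category.assoc]
      exact key
    exact congrArg CommaMorphism.left key'
  haveI := isIso_of_isEquivariant ha.1 ha' hb.1 hP' hequiv
  exact ⟨⟨asIso hP', hequiv⟩⟩

end GrothLib.Torsor21
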