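import Groth.Prelude.Def_NonAbH2
import Mathlib.AlgebraicGeometry.EffectiveEpi
import Mathlib.RingTheory.Unramified.Field
import Mathlib.RingTheory.Etale.Field
import Mathlib.AlgebraicGeometry.Morphisms.ClosedImmersion
import Mathlib.AlgebraicGeometry.Morphisms.Etale
import Mathlib.RingTheory.Jacobson.Ring
import Mathlib.AlgebraicGeometry.Morphisms.QuasiFinite
import Mathlib.Topology.Separation.Connected

set_option autoImplicit false
universe u
open CategoryTheory AlgebraicGeometry MonoidalCategory CartesianMonoidalCategory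
open scoped MonObj TensorProduct

namespace GrothLib.Torsor21

variable {K : Type u} [Field K]

/-- A finite connected group scheme over a field: the unit is surjective. -/
lemma surjective_unit (G : Over (Spec (CommRingCat.of K))) [GrpObj G] [IsFinite G.hom]
    [ConnectedSpace G.left] : Surjective (η[G]).left := by
  have : IsLocallyArtinian G.left := IsLocallyArtinian.of_locallyQuasiFinite G.hom
  have : Subsingleton G.left := PreconnectedSpace.trivial_of_discrete
  exact ⟨fun x => ⟨(default : (Spec (CommRingCat.of K))), Subsingleton.elim _ _⟩⟩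

/-- A torsor under a finite connected group scheme over a field with a point over a separable
finite extension has a rational point. -/
lemma hasSection_of_separable (G X : Over (Spec (CommRingCat.of K))) [GrpObj G] [IsFinite G.hom]
    [ConnectedSpace G.left] (a : AlgGrp.Action G X) (h : NonAbH1.IsPseudoTorsorSch a)
    (L : Type u) [Field L] [Algebra K L] [Algebra.IsSeparable K L] [Module.Finite K L]
    (s : Spec (CommRingCat.of L) ⟶ X.left)
    (hs : s ≫ X.hom = Spec.map (CommRingCat.ofHom (algebraMap K L))) :
    NonAbH1.HasSectionOver X (𝟙 (Spec (CommRingCat.of K))) := by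
  let π := Spec.map (CommRingCat.ofHom (algebraMap K L))
  have : Flat π := by
    rw [HasRingHomProperty.Spec_iff (P := @Flat)]
    exact RingHom.flat_algebraMap_iff.mpr inferInstance
  have : Surjective π := ⟨fun x => ⟨default, Subsingleton.elim _ _⟩⟩
  have : IsRegularEpi π := isRegularEpi_of_flat_of_surjective_of_isAffine π
  let T := Limits.pullback π π
  have : IsReduced T := by
    have : _root_.IsReduced (L ⊗[K] L) :=
      have : Algebra.FormallyUnramified K L := Algebra.FormallyUnramified.of_isSeparable K L
      Algebra.FormallyUnramified.isReduced_of_field L _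
    exact isReduced_of_isOpenImmersion (pullbackSpecIso K L L).hom
  have key : Limits.pullback.fst π π ≫ s = Limits.pullback.snd π π ≫ s := by
    let T' : Over (Spec (CommRingCat.of K)) := Over.mk (Limits.pullback.fst π π ≫ π)
    let x₁ : T' ⟶ X := Over.homMk (Limits.pullback.fst π π ≫ s) (by
      simp only [Category.assoc, hs]; rfl)
    let x₂ : T' ⟶ X := Over.homMk (Limits.pullback.snd π π ≫ s) (by
      simp only [Category.assoc, hs]; exact Limits.pullback.condition.symm)
    have : IsIso (lift a.act (snd G X)) := h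
    let g : T' ⟶ G ⊗ X := lift x₁ x₂ ≫ inv (lift a.act (snd G X))
    have hg : g ≫ lift a.act (snd G X) = lift x₁ x₂ := (Category.assoc _ _ _).trans (by rw [IsIso.inv_hom_id, Category.comp_id])
    have hg1 : g ≫ a.act = x₁ := by
      have := congrArg (fun f => f ≫ fst _ _) hg
      simpa using this
    have hg2 : g ≫ snd G X = x₂ := by
      have := congrArg (fun f => f ≫ snd _ _) hg
      simpa using this
    have h1 : g ≫ fst G X = toUnit T' ≫ η[G] := by
      have : IsClosedImmersion (η[G]).left := by
        have : IsClosedImmersion ((η[G]).left ≫ G.hom) := by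
          rw [Over.w η[G]]; exact inferInstanceAs (IsClosedImmersion (𝟙 _))
        exact IsClosedImmersion.of_comp _ G.hom
      have := surjective_unit G
      let q := Limits.pullback.fst (g ≫ fst G X).left (η[G]).left
      have : IsReduced T'.left := ‹IsReduced T›
      have : IsIso q := isIso_of_isClosedImmersion_of_surjective q
      apply Over.OverMorphism.ext
      obtain ⟨k, e⟩ : ∃ k, (g ≫ fst G X).left = k ≫ (η[G]).left :=
        ⟨inv q ≫ Limits.pullback.snd (g ≫ fst G X).left (η[G]).left,
          ((IsIso.eq_inv_comp q).2 Limits.pullback.condition).trans (Category.assoc _ _ _).symm⟩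
      have h0 : (g ≫ fst G X).left ≫ G.hom = T'.hom := Over.w _
      replace h0 := (congrArg (· ≫ G.hom) e.symm).trans h0
      simp only [Category.assoc] at h0
      rw [Over.w η[G]] at h0
      have h2 : (toUnit T').left ≫ (𝟙_ (Over (Spec (CommRingCat.of K)))).hom = T'.hom := Over.w _
      have e2 : k = (toUnit T').left := by simpa using h0.trans h2.symm
      exact e.trans (by rw [e2, Over.comp_left])
    have hg3 : g = lift (toUnit T' ≫ η[G]) x₂ := by
      apply CartesianMonoidalCategory.hom_ext <;> simp [h1, hg2]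
    have e : x₁ = x₂ := by
      rw [← hg1, hg3]
      have : lift (toUnit T' ≫ η[G]) x₂ = lift (toUnit T') x₂ ≫ (η[G] ▷ X) := by simp
      rw [this, Category.assoc, a.one_act, leftUnitor_hom]
      simp
    exact congrArg CommaMorphism.left e
  have hc : ∀ {Z : Scheme.{u}} (g₁ g₂ : Z ⟶ _), g₁ ≫ π = g₂ ≫ π → g₁ ≫ s = g₂ ≫ s :=
    fun g₁ g₂ hg => by
      have := congrArg (Limits.pullback.lift g₁ g₂ hg ≫ ·) key
      rwa [Limits.pullback.lift_fst_assoc, Limits.pullback.lift_snd_assoc] at this
  refine ⟨EffectiveEpi.desc π s hc, ?_⟩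
  rw [← cancel_epi π, ← Category.assoc, EffectiveEpi.fac, hs, Category.comp_id]

/-- A finite-dimensional residue field of a point of a nonempty affine open. -/
lemma exists_finite_point {U : Scheme.{u}} [Nonempty U] (f : U ⟶ Spec (CommRingCat.of K))
    [LocallyOfFiniteType f] :
    ∃ (L : Type u) (_ : Field L) (_ : Algebra K L) (_ : Module.Finite K L)
      (t : Spec (CommRingCat.of L) ⟶ U),
      t ≫ f = Spec.map (CommRingCat.ofHom (algebraMap K L)) ∧
      (Etale f → Algebra.IsSeparable K L) := by
  obtain ⟨V, hV, hxV, -⟩ := exists_isAffineOpen_mem_and_subset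
    (x := Classical.arbitrary U) (U := ⊤) trivial
  have : IsAffine V.toScheme := hV
  let g : V.toScheme ⟶ Spec (CommRingCat.of K) := V.ι ≫ f
  let φ : CommRingCat.of K ⟶ Γ(V.toScheme, ⊤) := Spec.preimage (V.toScheme.isoSpec.inv ≫ g)
  have hφ : Spec.map φ = V.toScheme.isoSpec.inv ≫ g := Spec.map_preimage _
  letI : Algebra K Γ(V.toScheme, ⊤) := φ.hom.toAlgebra
  have : Nontrivial Γ(V.toScheme, ⊤) := by
    have : Nonempty V.toScheme := ⟨⟨_, hxV⟩⟩
    have : Nonempty (Spec Γ(V.toScheme, ⊤)) := ⟨V.toScheme.isoSpec.hom (Classical.arbitrary _)⟩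
    exact PrimeSpectrum.nonempty_iff_nontrivial.mp this
  have hft : φ.hom.FiniteType := by
    rw [← HasRingHomProperty.Spec_iff (P := @LocallyOfFiniteType), hφ]; infer_instance
  have : Algebra.FiniteType K Γ(V.toScheme, ⊤) := hft
  obtain ⟨m, hm⟩ := Ideal.exists_maximal Γ(V.toScheme, ⊤)
  letI := Ideal.Quotient.field m
  have : Module.Finite K (Γ(V.toScheme, ⊤) ⧸ m) := finite_of_finite_type_of_isJacobsonRing _ _
  refine ⟨Γ(V.toScheme, ⊤) ⧸ m, inferInstance, inferInstance, inferInstance,
    Spec.map (CommRingCat.ofHom (Ideal.Quotient.mk m)) ≫ V.toScheme.isoSpec.inv ≫ V.ι, ?_, ?_⟩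
  · change _ = Spec.map (CommRingCat.ofHom ((Ideal.Quotient.mk m).comp (algebraMap K _)))
    simp only [Category.assoc]
    rw [show V.toScheme.isoSpec.inv ≫ V.ι ≫ f = Spec.map φ from hφ.symm, ← Spec.map_comp]
    rfl
  · intro he
    have hE : φ.hom.Etale := by
      rw [← HasRingHomProperty.Spec_iff (P := @Etale), hφ]; infer_instance
    have : Algebra.Etale K Γ(V.toScheme, ⊤) := hE
    have : Algebra.FormallyUnramified Γ(V.toScheme, ⊤) (Γ(V.toScheme, ⊤) ⧸ m) := inferInstance
    have : Algebra.FormallyUnramified K (Γ(V.toScheme, ⊤) ⧸ m) :=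
      Algebra.FormallyUnramified.comp K Γ(V.toScheme, ⊤) _
    exact Algebra.FormallyUnramified.isSeparable K _

end GrothLib.Torsor21
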