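import Mathlib.CategoryTheory.Monoidal.Cartesian.Grp
import Mathlib.CategoryTheory.Limits.Shapes.Pullback.IsPullback.Basic

/-!
The exact-sequence square of a kernel identified on points.
-/

set_option autoImplicit false

universe v u

open CategoryTheory CategoryTheory.Limits MonoidalCategory CartesianMonoidalCategory MonObj GrpObj

namespace GrothLib.Torsor21

/-- A homomorphism whose kernel is identified on points gives the exact-sequence square. -/
theorem isPullback_of_kernel {C : Type u} [Category.{v} C] [CartesianMonoidalCategory C] {G G' G'' : C} [GrpObj G] [GrpObj G'] [GrpObj G'']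
    (i : G' ⟶ G) (v : G ⟶ G'') [IsMonHom v] (h1 : i ≫ v = 1)
    (h2 : ∀ (T : C) (t : T ⟶ G), t ≫ v = 1 → ∃! z : T ⟶ G', z ≫ i = t) :
    IsPullback (fst G G') ((G ◁ i) ≫ μ[G]) v v := by
  have hmul : ∀ {T : C} (s : T ⟶ G ⊗ G'),
      s ≫ (G ◁ i) ≫ μ[G] = (s ≫ fst G G') * (s ≫ snd G G' ≫ i) := fun s => by
    rw [← Category.assoc, CategoryTheory.Hom.mul_def]
    congr 1
    apply CartesianMonoidalCategory.hom_ext <;> simp
  have hw : fst G G' ≫ v = ((G ◁ i) ≫ μ[G]) ≫ v := by
    rw [show (G ◁ i) ≫ μ[G] = 𝟙 _ ≫ (G ◁ i) ≫ μ[G] from (Category.id_comp _).symm, hmul,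
      MonObj.mul_comp, Category.id_comp, Category.id_comp, Category.assoc, h1, MonObj.comp_one, _root_.mul_one]
  refine IsPullback.of_isLimit' ⟨hw⟩ (PullbackCone.IsLimit.mk _ (fun c => lift c.fst
    (h2 c.pt (c.fst⁻¹ * c.snd) (by rw [MonObj.mul_comp, GrpObj.inv_comp, c.condition,
      inv_mul_cancel])).choose) (fun c => lift_fst _ _) (fun c => ?_) fun c m hm1 hm2 => ?_)
  · rw [hmul, lift_fst, lift_snd_assoc,
      (h2 c.pt (c.fst⁻¹ * c.snd) (by rw [MonObj.mul_comp, GrpObj.inv_comp, c.condition,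
        inv_mul_cancel])).choose_spec.1, mul_inv_cancel_left]
  · apply CartesianMonoidalCategory.hom_ext
    · rw [lift_fst]; exact hm1
    · rw [lift_snd]
      refine (h2 c.pt (c.fst⁻¹ * c.snd) (by rw [MonObj.mul_comp, GrpObj.inv_comp, c.condition,
        inv_mul_cancel])).choose_spec.2 _ ?_
      rw [← hm1, ← hm2]
      rw [hmul]
      simp [Category.assoc]


end GrothLib.Torsor21
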