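import Mathlib.AlgebraicGeometry.AffineTransitionLimit
import Mathlib.AlgebraicGeometry.Morphisms.Flat
import Mathlib.CategoryTheory.Monoidal.Cartesian.Over
import Mathlib.CategoryTheory.Monoidal.Cartesian.Grp
import Mathlib.CategoryTheory.Limits.Constructions.Over.Connected
import Mathlib.RingTheory.Flat.EquationalCriterion
import Mathlib.RingTheory.Flat.FaithfullyFlat.Algebra

/-!
# Cofiltered limits of faithfully flat affine morphisms; limits of affine group schemes
-/

set_option autoImplicit false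
set_option backward.isDefEq.respectTransparency false
set_option backward.isDefEq.respectTransparency.types false
set_option linter.style.haveILetI false

universe u

open CategoryTheory CategoryTheory.Limits AlgebraicGeometry MonoidalCategory CartesianMonoidalCategory MonObj

namespace GrothLib.Torsor21

/-- Affine case: a cofiltered limit of faithfully flat affine schemes is faithfully flat. -/
theorem flat_surjective_of_isLimit_affine {J : Type u} [SmallCategory J] [IsCofiltered J]
    (D : J ⥤ Scheme.{u}) (c : Cone D) (hc : IsLimit c) [∀ j, IsAffine (D.obj j)] [IsAffine c.pt]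
    {S : Scheme.{u}} [IsAffine S] (q : ∀ j, D.obj j ⟶ S) (hq : ∀ {i j} (f : i ⟶ j), D.map f ≫ q j = q i)
    [hflat : ∀ j, Flat (q j)] [hsurj : ∀ j, Surjective (q j)] (qc : c.pt ⟶ S) (hqc : ∀ j, c.π.app j ≫ q j = qc) :
    Flat qc ∧ Surjective qc := by
  classical
  let A := Γ(S, ⊤)
  let B := Γ(c.pt, ⊤)
  letI algB : Algebra A B := qc.appTop.hom.toAlgebra
  letI algD : ∀ j, Algebra A Γ(D.obj j, ⊤) := fun j => (q j).appTop.hom.toAlgebra
  haveI : ∀ j, Module.Flat A Γ(D.obj j, ⊤) := fun j =>
    (HasRingHomProperty.iff_of_isAffine (P := @Flat)).1 (hflat j)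
  let π : ∀ j, Γ(D.obj j, ⊤) →ₐ[A] B := fun j =>
    { (c.π.app j).appTop.hom with
      commutes' := fun a => congr(($((Scheme.Hom.comp_appTop (c.π.app j) (q j)).symm.trans
        (congrArg Scheme.Hom.appTop (hqc j)))).hom a) }
  let tr : ∀ {i j} (f : i ⟶ j), Γ(D.obj j, ⊤) →ₐ[A] Γ(D.obj i, ⊤) := fun {i j} f =>
    { (D.map f).appTop.hom with
      commutes' := fun a => congr(($((Scheme.Hom.comp_appTop (D.map f) (q j)).symm.trans
        (congrArg Scheme.Hom.appTop (hq f)))).hom a) }
  have htr : ∀ {i j} (f : i ⟶ j) x, π i (tr f x) = π j x := fun {i j} f x =>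
    congr(($((Scheme.Hom.comp_appTop (c.π.app i) (D.map f)).symm.trans
      (congrArg Scheme.Hom.appTop (c.w f)))).hom x)
  have exlift : ∀ s : B, ∃ j t, π j t = s := exists_appTop_π_eq_of_isAffine_of_isLimit D c hc
  have exzero : ∀ i (s : Γ(D.obj i, ⊤)), π i s = 0 → ∃ (j : J) (f : j ⟶ i), tr f s = 0 :=
    exists_appTop_map_eq_zero_of_isAffine_of_isLimit D c hc
  have exfam : ∀ {l : ℕ} (b : Fin l → B), ∃ j, ∀ i, ∃ t, π j t = b i := by
    intro l b
    choose js ts hts using fun i => exlift (b i)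
    obtain ⟨j₀, hj₀⟩ := IsCofiltered.inf_objs_exists (Finset.univ.image js)
    exact ⟨j₀, fun i => ⟨tr (hj₀ (Finset.mem_image_of_mem js (Finset.mem_univ i))).some (ts i),
      (htr _ _).trans (hts i)⟩⟩
  have hBflat : Module.Flat A B := by
    refine Module.Flat.of_forall_exists_factorization fun {l f x} hx => ?_
    obtain ⟨j, hj⟩ := exfam fun i => x (Finsupp.single i 1)
    choose t ht using hj
    let xj : (Fin l →₀ A) →ₗ[A] Γ(D.obj j, ⊤) := Finsupp.linearCombination A t
    have hxj : (π j).toLinearMap ∘ₗ xj = x := by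
      ext i
      simp [xj, ht]
    obtain ⟨j', g, hg⟩ := exzero j (xj f) (by rw [← hx, ← hxj]; rfl)
    obtain ⟨k, a, y, hya, haf⟩ := Module.Flat.iff_forall_exists_factorization.1
      (inferInstance : Module.Flat A Γ(D.obj j', ⊤)) (f := f) (x := (tr g).toLinearMap ∘ₗ xj) hg
    refine ⟨k, a, (π j').toLinearMap ∘ₗ y, ?_, haf⟩
    rw [LinearMap.comp_assoc, ← hya, ← LinearMap.comp_assoc, ← hxj]
    congr 1
    ext z
    exact (htr g z).symm
  have hff : Module.FaithfullyFlat A B := by
    rw [Module.FaithfullyFlat.iff_flat_and_proper_ideal]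
    refine ⟨hBflat, fun I hI htop => ?_⟩
    rw [Ideal.smul_top_eq_map] at htop
    have h1 : (1 : B) ∈ I.map (algebraMap A B) := by
      have : (1 : B) ∈ (⊤ : Submodule A B) := trivial
      rw [← htop] at this
      exact this
    obtain ⟨n, cf, g, hsum⟩ : ∃ (n : ℕ) (cf : Fin n → I) (g : Fin n → B), ∑ i, (cf i).1 • g i = (1 : B) := by
      have h2 : (1 : B) ∈ I • (⊤ : Submodule A B) := by rw [Ideal.smul_top_eq_map]; exact h1
      refine Submodule.smul_induction_on h2 (fun r hr m _ => ⟨1, fun _ => ⟨r, hr⟩, fun _ => m, by simp⟩) ?_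
      rintro a b ⟨n, cf, g, rfl⟩ ⟨n', cf', g', rfl⟩
      exact ⟨n + n', Fin.append cf cf', Fin.append g g', by simp [Fin.sum_univ_add]⟩
    obtain ⟨j, hj⟩ := exfam g
    choose t ht using hj
    obtain ⟨j', f, hf⟩ := exzero j (∑ i, (cf i).1 • t i - 1) (by simp [map_sum, map_smul, ht, hsum])
    rw [map_sub, map_one, map_sum, sub_eq_zero] at hf
    haveI : Module.FaithfullyFlat A Γ(D.obj j', ⊤) := by
      have h' : Surjective (Spec.map (q j').appTop) :=
        (MorphismProperty.arrow_mk_iso_iff @Surjective (arrowIsoSpecΓOfIsAffine (q j'))).1 (hsurj j')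
      exact Module.FaithfullyFlat.of_comap_surjective fun z => h'.surj z
    refine (Module.FaithfullyFlat.iff_flat_and_proper_ideal A Γ(D.obj j', ⊤)).1 inferInstance |>.2 I hI ?_
    rw [eq_top_iff]
    intro z _
    have hz : z = ∑ i, (cf i).1 • (tr f (t i) * z) := by
      conv_lhs => rw [← _root_.one_mul z, ← hf, Finset.sum_mul]
      exact Finset.sum_congr rfl fun i _ => by rw [map_smul, smul_mul_assoc]
    refine (congrArg (fun w => w ∈ _) hz).mpr ?_
    exact Submodule.sum_mem _ fun i _ => Submodule.smul_mem_smul (cf i).2 trivial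
  refine ⟨(HasRingHomProperty.iff_of_isAffine (P := @Flat)).2 hBflat, ?_⟩
  refine (MorphismProperty.arrow_mk_iso_iff @Surjective (arrowIsoSpecΓOfIsAffine qc)).2 ⟨fun z => ?_⟩
  haveI := hff
  exact PrimeSpectrum.comap_surjective_of_faithfullyFlat (A := A) (B := B) z

/-- Relative case. -/
theorem props_of_isLimit {X : Scheme.{u}} {I : Type u} [SmallCategory I] [IsCofiltered I] (DT : I ⥤ Over X)
    [∀ i, IsAffineHom (DT.obj i).hom] [∀ i, Flat (DT.obj i).hom] [∀ i, Surjective (DT.obj i).hom]
    (cT : Cone DT) (hcT : IsLimit cT) :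
    IsAffineHom cT.pt.hom ∧ Flat cT.pt.hom ∧ Surjective cT.pt.hom := by
  let D : I ⥤ Scheme.{u} := DT ⋙ Over.forget X
  let c : Cone D := (Over.forget X).mapCone cT
  let hc : IsLimit c := isLimitOfPreserves (Over.forget X) hcT
  haveI : ∀ {i j} (f : i ⟶ j), IsAffineHom (D.map f) := fun {i j} f => by
    haveI : IsAffineHom ((DT.map f).left ≫ (DT.obj j).hom) := by rw [Over.w]; infer_instance
    exact IsAffineHom.of_comp (DT.map f).left (DT.obj j).hom
  obtain ⟨i₀⟩ := IsCofiltered.nonempty (C := I)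
  haveI := isAffineHom_π_app D c hc i₀
  have hw : ∀ i, c.π.app i ≫ (DT.obj i).hom = cT.pt.hom := fun i => Over.w (cT.π.app i)
  have haff : IsAffineHom cT.pt.hom := by
    rw [← hw i₀]
    haveI : IsAffineHom (DT.obj i₀).hom := inferInstance
    exact MorphismProperty.comp_mem (W := @IsAffineHom) _ _ (isAffineHom_π_app D c hc i₀) this
  have key : ∀ (W : X.Opens) (hW : IsAffineOpen W), Flat (cT.pt.hom ∣_ W) ∧ Surjective (cT.pt.hom ∣_ W) := by
    intro W hW
    let U : (D.obj i₀).Opens := (DT.obj i₀).hom ⁻¹ᵁ W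
    have hUj : ∀ j : Over i₀, D.map j.hom ⁻¹ᵁ U = (DT.obj j.left).hom ⁻¹ᵁ W := fun j => by
      show (DT.map j.hom).left ⁻¹ᵁ (DT.obj i₀).hom ⁻¹ᵁ W = _
      rw [← Scheme.Hom.comp_preimage, Over.w]
    have hUc : c.π.app i₀ ⁻¹ᵁ U = cT.pt.hom ⁻¹ᵁ W := by
      show _ ⁻¹ᵁ (DT.obj i₀).hom ⁻¹ᵁ W = _
      rw [← Scheme.Hom.comp_preimage, hw]
    haveI : IsAffine (W : Scheme.{u}) := hW
    haveI hA : ∀ j, IsAffine ((opensDiagram D i₀ U).obj j) := fun j => by
      show IsAffineOpen (D.map j.hom ⁻¹ᵁ U)
      rw [hUj]; exact hW.preimage _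
    haveI : IsAffine (opensCone D c i₀ U).pt := by
      show IsAffineOpen (c.π.app i₀ ⁻¹ᵁ U)
      rw [hUc]
      haveI := haff
      exact hW.preimage _
    let q : ∀ j : Over i₀, (opensDiagram D i₀ U).obj j ⟶ (W : Scheme.{u}) := fun j =>
      (DT.obj j.left).hom.resLE W _ (hUj j).le
    have hq' : ∀ j, q j = (Scheme.isoOfEq _ (hUj j)).hom ≫ ((DT.obj j.left).hom ∣_ W) := fun j => by
      rw [← cancel_mono W.ι]
      simp [q, Scheme.Hom.resLE]
    haveI : ∀ j, Flat (q j) := fun j => by
      rw [hq']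
      haveI : Flat ((DT.obj j.left).hom ∣_ W) := IsZariskiLocalAtTarget.restrict (P := @Flat) (inferInstance : Flat (DT.obj j.left).hom) W
      infer_instance
    haveI : ∀ j, Surjective (q j) := fun j => by
      rw [hq']
      haveI : Surjective ((DT.obj j.left).hom ∣_ W) :=
        IsZariskiLocalAtTarget.restrict (P := @Surjective) (inferInstance : Surjective (DT.obj j.left).hom) W
      infer_instance
    let qc : (opensCone D c i₀ U).pt ⟶ (W : Scheme.{u}) :=
      (Scheme.isoOfEq _ hUc).hom ≫ (cT.pt.hom ∣_ W)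
    obtain ⟨h1, h2⟩ := flat_surjective_of_isLimit_affine _ _ (isLimitOpensCone D c hc i₀ U) q
      (fun {i j} f => by
        rw [← cancel_mono W.ι]
        simp only [q, opensDiagram_map, Category.assoc, Scheme.Hom.resLE_comp_ι, Scheme.Hom.resLE_comp_ι_assoc]
        congr 1
        exact Over.w (DT.map f.left))
      qc (fun j => by
        rw [← cancel_mono W.ι]
        simp only [q, qc, opensCone, Category.assoc, Scheme.Hom.resLE_comp_ι, Scheme.Hom.resLE_comp_ι_assoc,
          morphismRestrict_ι, Scheme.isoOfEq_hom_ι_assoc]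
        congr 1
        exact hw j.left)
    have e : (cT.pt.hom ∣_ W) = (Scheme.isoOfEq _ hUc).inv ≫ qc := by simp [qc]
    rw [e]
    exact ⟨inferInstance, inferInstance⟩
  refine ⟨haff, ?_, ⟨fun y => ?_⟩⟩
  · exact (IsZariskiLocalAtTarget.iff_of_iSup_eq_top (P := @Flat) _ (iSup_affineOpens_eq_top X)).2
      fun W => (key W.1 W.2).1
  · obtain ⟨W, hW, hyW, -⟩ := exists_isAffineOpen_mem_and_subset (X := X) (x := y) (U := ⊤) trivial
    obtain ⟨z, hz⟩ := (key W hW).2.surj ⟨y, hyW⟩
    refine ⟨(cT.pt.hom ⁻¹ᵁ W).ι z, ?_⟩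
    rw [← Scheme.Hom.comp_apply, ← morphismRestrict_ι, Scheme.Hom.comp_apply, hz]
    rfl

/-- The underlying scheme of a cofiltered limit of affine group schemes is the limit of the underlying schemes. -/
theorem isLimit_forget_mapCone {k : Type u} [Field k] {I : Type u} [SmallCategory I] [IsCofiltered I]
    (DG : I ⥤ Grp (Over (Spec (CommRingCat.of k)))) [∀ i, IsAffineHom (DG.obj i).X.hom]
    (cG : Cone DG) (hcG : IsLimit cG) : Nonempty (IsLimit ((Grp.forget _).mapCone cG)) := by
  let F := DG ⋙ Grp.forget (Over (Spec (CommRingCat.of k)))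
  haveI : IsConnected I := IsCofiltered.isConnected I
  haveI hlim : HasLimit (F ⋙ Over.forget _) := by
    haveI : ∀ i, IsAffine ((F ⋙ Over.forget _).obj i) := fun i => isAffine_of_isAffineHom (DG.obj i).X.hom
    let F' : I ⥤ AffineScheme.{u} :=
      { obj := fun i => AffineScheme.of ((F ⋙ Over.forget _).obj i)
        map := fun f => AffineScheme.ofHom ((F ⋙ Over.forget _).map f)
        map_id := fun i => AffineScheme.forgetToScheme.map_injective ((F ⋙ Over.forget _).map_id i)
        map_comp := fun f g => AffineScheme.forgetToScheme.map_injective ((F ⋙ Over.forget _).map_comp f g) }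
    exact HasLimit.mk ⟨AffineScheme.forgetToScheme.mapCone (limit.cone F'),
      isLimitOfPreserves AffineScheme.forgetToScheme (limit.isLimit F')⟩
  haveI : HasLimit F := hasLimit_of_created F (Over.forget _)
  let L := limit F
  let pr : ∀ i, L ⟶ (DG.obj i).X := limit.π F
  have hcompat : ∀ {R} (h : ∀ i, R ⟶ (DG.obj i).X), (∀ {i j} (f : i ⟶ j), h i ≫ (DG.map f).hom.hom = h j) →
      ∃ l : R ⟶ L, ∀ i, l ≫ pr i = h i := fun h hh =>
    ⟨limit.lift F ⟨_, { app := h, naturality := fun i j f => by simpa [F] using (hh f).symm }⟩,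
      fun i => limit.lift_π _ i⟩
  have hext : ∀ {R} (l l' : R ⟶ L), (∀ i, l ≫ pr i = l' ≫ pr i) → l = l' := fun l l' h => limit.hom_ext h
  have hw : ∀ {i j} (f : i ⟶ j), pr i ≫ (DG.map f).hom.hom = pr j := fun f => limit.w F f
  obtain ⟨e, he⟩ := hcompat (fun i => (1 : 𝟙_ _ ⟶ (DG.obj i).X)) fun f => MonObj.one_comp _
  obtain ⟨m, hm⟩ := hcompat (fun i => (fst L L ≫ pr i) * (snd L L ≫ pr i)) fun f => by
    rw [MonObj.mul_comp, Category.assoc, Category.assoc, hw]
  obtain ⟨ι', hι⟩ := hcompat (fun i => (pr i)⁻¹) fun f => by rw [GrpObj.inv_comp, hw]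
  letI : MonObj L :=
    { one := e
      mul := m
      one_mul := by
        refine hext _ _ fun i => ?_
        rw [Category.assoc, hm, MonObj.comp_mul, whiskerRight_fst_assoc, he, MonObj.comp_one,
          whiskerRight_snd_assoc, _root_.one_mul, leftUnitor_hom]
      mul_one := by
        refine hext _ _ fun i => ?_
        rw [Category.assoc, hm, MonObj.comp_mul, whiskerLeft_fst_assoc, whiskerLeft_snd_assoc, he,
          MonObj.comp_one, _root_.mul_one, rightUnitor_hom]
      mul_assoc := by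
        refine hext _ _ fun i => ?_
        simp only [Category.assoc, hm, MonObj.comp_mul, whiskerRight_fst_assoc, whiskerRight_snd_assoc,
          whiskerLeft_fst_assoc, whiskerLeft_snd_assoc, associator_hom_fst_assoc, associator_hom_snd_fst_assoc,
          associator_hom_snd_snd_assoc, _root_.mul_assoc] }
  letI : GrpObj L :=
    { inv := ι'
      left_inv := by
        refine hext _ _ fun i => ?_
        show (lift ι' (𝟙 L) ≫ m) ≫ pr i = (toUnit L ≫ e) ≫ pr i
        rw [Category.assoc, hm, MonObj.comp_mul, lift_fst_assoc, lift_snd_assoc, hι, Category.id_comp,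
          inv_mul_cancel, Category.assoc, he, MonObj.comp_one]
      right_inv := by
        refine hext _ _ fun i => ?_
        show (lift (𝟙 L) ι' ≫ m) ≫ pr i = (toUnit L ≫ e) ≫ pr i
        rw [Category.assoc, hm, MonObj.comp_mul, lift_fst_assoc, lift_snd_assoc, hι, Category.id_comp,
          mul_inv_cancel, Category.assoc, he, MonObj.comp_one] }
  have hmon : ∀ i, IsMonHom (pr i) := fun i =>
    { one_hom := by
        show e ≫ pr i = _
        rw [he, MonObj.one_eq_one]
      mul_hom := by
        show m ≫ pr i = _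
        rw [hm, Hom.mul_def]
        congr 1 }
  let cL : Cone DG :=
    { pt := ⟨L⟩
      π :=
        { app := fun i => haveI := hmon i; Grp.homMk (A := ⟨L⟩) (B := DG.obj i) (pr i)
          naturality := fun i j f => by
            apply Grp.hom_ext
            simpa using (hw f).symm } }
  let u : L ⟶ cG.pt.X := (hcG.lift cL).hom.hom
  obtain ⟨v, hv⟩ := hcompat (R := cG.pt.X) (fun i => (cG.π.app i).hom.hom) fun f => by
    rw [← cG.w f]; rfl
  have huv : u ≫ v = 𝟙 L := hext _ _ fun i => by
    rw [Category.assoc, hv, Category.id_comp]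
    exact congrArg (fun t => t.hom.hom) (hcG.fac cL i)
  haveI : IsMonHom v :=
    { one_hom := hext _ _ fun i => by
        rw [Category.assoc, hv]
        exact (IsMonHom.one_hom (cG.π.app i).hom.hom).trans (he i).symm |>.trans rfl
      mul_hom := hext _ _ fun i => by
        rw [Category.assoc, Category.assoc, hv]
        haveI := hmon i
        rw [IsMonHom.mul_hom (cG.π.app i).hom.hom, IsMonHom.mul_hom (pr i), tensorHom_comp_tensorHom_assoc, hv] }
  have hvu : v ≫ u = 𝟙 _ := by
    have : Grp.homMk (A := cG.pt) (B := cL.pt) v ≫ hcG.lift cL = 𝟙 cG.pt := hcG.hom_ext fun i => by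
      rw [Category.assoc, hcG.fac, Category.id_comp]
      exact Grp.hom_ext _ _ (hv i)
    exact congrArg (fun t => t.hom.hom) this
  exact ⟨IsLimit.ofIsoLimit (limit.isLimit F) (Cones.ext ⟨u, v, huv, hvu⟩ fun i =>
    (congrArg (fun t => t.hom.hom) (hcG.fac cL i)).symm)⟩

end GrothLib.Torsor21
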