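import Groth.Agent.Lib.Torsor21.Local
import Groth.Agent.Lib.FEt21.NormalizationIn

/-!
# Rational sections of finite morphisms over normal schemes
-/

set_option autoImplicit false
set_option backward.isDefEq.respectTransparency false
set_option backward.isDefEq.respectTransparency.types false
set_option linter.style.haveILetI false

universe u

open CategoryTheory CategoryTheory.Limits AlgebraicGeometry MonoidalCategory CartesianMonoidalCategory MonObj
open GrothLib.RepLocal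

namespace GrothLib.Torsor21

/-- A rational section of an integral morphism over a normal integral scheme extends. -/
theorem exists_section_of_rational {X Y : Scheme.{u}} [IsIntegral X] (hX : Pi1.IsNormalScheme X)
    (g : Y ⟶ X) [IsIntegralHom g] (s : Spec (X.presheaf.stalk (genericPoint X)) ⟶ Y)
    (hs : s ≫ g = X.fromSpecStalk (genericPoint X)) : ∃ t : X ⟶ Y, t ≫ g = 𝟙 X := by
  let h := X.fromSpecStalk (genericPoint X)
  haveI : QuasiCompact h := inferInstance
  haveI : QuasiSeparated h := inferInstance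
  haveI := GrothLib.FEt21.isIso_fromNormalization_self hX
  haveI : QuasiSeparated (s ≫ g) := by rw [hs]; infer_instance
  haveI : QuasiCompact (s ≫ g) := by rw [hs]; infer_instance
  haveI : QuasiSeparated s := QuasiSeparated.of_comp s g
  haveI : QuasiCompact s := QuasiCompact.of_comp s g
  refine ⟨inv h.fromNormalization ≫ h.normalizationDesc s g hs.symm, ?_⟩
  rw [Category.assoc, Scheme.Hom.normalizationDesc_comp]
  exact IsIso.inv_hom_id _

theorem isTorsorFor_fpqc {S : Scheme.{u}} {G X : Over S} [GrpObj G] {a : AlgGrp.Action G X}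
    (h : NonAbH1.IsTorsorFor Scheme.fppfPrecoverage a) : NonAbH1.IsTorsorFor Scheme.fpqcPrecoverage a := by
  obtain ⟨R, hR, hsec⟩ := h.2
  exact ⟨h.1, R, Scheme.fppfPrecoverage_le_fpqcPrecoverage _ hR, hsec⟩

theorem isFinite_hom {S : Scheme.{u}} {G X : Over S} [GrpObj G] [IsFinite G.hom] {a : AlgGrp.Action G X}
    (h : NonAbH1.IsTorsorFor Scheme.fppfPrecoverage a) : IsFinite X.hom := by
  haveI := GrothLib.EtSite.descendsAlong_isFinite.{u}
  exact property (P := @IsFinite.{u}) (isTorsorFor_fpqc h) inferInstance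

/-- Over an object where a homomorphism of groups is bijective on points, sections of a push-forward
torsor lift. -/
theorem exists_lift_of_pushforward {S : Scheme.{u}} {G G' P P' : Over S} [GrpObj G] [GrpObj G']
    (g : G ⟶ G') {a : AlgGrp.Action G P} {a' : AlgGrp.Action G' P'}
    (hP : NonAbH1.IsTorsorFor Scheme.fppfPrecoverage a) (hP' : NonAbH1.IsPseudoTorsorSch a')
    (f : P ⟶ P') (hf : a.act ≫ f = lift (fst G P ≫ g) (snd G P ≫ f) ≫ a'.act) (T₀ : Over S)
    (hg : ∀ {T : Over S} (_ : T ⟶ T₀), Function.Bijective (fun h : T ⟶ G => h ≫ g)) (s' : T₀ ⟶ P') :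
    ∃ s : T₀ ⟶ P, s ≫ f = s' := by
  obtain ⟨κ, U, u, hu, ⟨σ⟩⟩ := exists_sections (isTorsorFor_fpqc hP)
  have hmap : ∀ {T : Over S} (h : T ⟶ G) (p : T ⟶ P),
      lift h p ≫ a.act ≫ f = lift (h ≫ g) (p ≫ f) ≫ a'.act := fun {T} h p => by
    rw [hf, comp_lift_assoc, lift_fst_assoc, lift_snd_assoc]
  have hinj : ∀ {T : Over S} (_ : T ⟶ T₀) (p q : T ⟶ P), p ≫ f = q ≫ f → p = q := by
    intro T r p q e
    obtain ⟨h, hh⟩ := TorsorDesc.exists_act_eq hP.1 p q
    have h1 : lift (h ≫ g) (q ≫ f) ≫ a'.act = lift ((1 : T ⟶ G')) (q ≫ f) ≫ a'.act := by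
      rw [← hmap, ← Category.assoc, hh, e]
      exact (a'.lift_one_act _).symm
    have h2 := TorsorDesc.act_left_injective hP' h1
    obtain ⟨h', hh'⟩ := TorsorDesc.exists_act_eq hP.1 q q
    have h3 : lift (h' ≫ g) (q ≫ f) ≫ a'.act = lift ((1 : T ⟶ G')) (q ≫ f) ≫ a'.act := by
      rw [← hmap, ← Category.assoc, hh']
      exact (a'.lift_one_act _).symm
    have h4 : h = h' := (hg r).1 (h2.trans (TorsorDesc.act_left_injective hP' h3).symm)
    rw [← hh, h4, hh']
  let z : ∀ i, FpqcRep.pb u T₀ i ⟶ Over.mk (u i) := fun i => Over.homMk (pullback.fst (u i) T₀.hom) rfl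
  let p₀ : ∀ i, FpqcRep.pb u T₀ i ⊗ 𝟙_ (Over S) ⟶ P := fun i => fst _ _ ≫ z i ≫ σ i
  let t₀ : ∀ i, FpqcRep.pb u T₀ i ⊗ 𝟙_ (Over S) ⟶ T₀ := fun i => fst _ _ ≫ FpqcRep.pι u T₀ i
  choose d hd using fun i => TorsorDesc.exists_act_eq hP' (t₀ i ≫ s') (p₀ i ≫ f)
  choose e he using fun i => (hg (t₀ i)).2 (d i)
  let q : ∀ i, FpqcRep.pb u T₀ i ⊗ 𝟙_ (Over S) ⟶ P := fun i => lift (e i) (p₀ i) ≫ a.act
  have hq : ∀ i, q i ≫ f = t₀ i ≫ s' := fun i => by
    simp only [q, Category.assoc]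
    rw [hmap, show e i ≫ g = d i from he i]
    exact hd i
  obtain ⟨k, hk, -⟩ := FpqcRep.existsUnique_hom hu T₀ (𝟙_ (Over S)) q fun i j R x y hxy => by
    refine hinj ((fst R (𝟙_ (Over S))) ≫ x ≫ FpqcRep.pι u T₀ i) _ _ ?_
    simp only [Category.assoc, hq, t₀]
    rw [whiskerRight_fst_assoc, whiskerRight_fst_assoc, reassoc_of% hxy]
  refine ⟨(ρ_ T₀).inv ≫ k, ?_⟩
  have h1 : k ≫ f = fst T₀ (𝟙_ (Over S)) ≫ s' := by
    refine FpqcRep.hom_ext_pb hu T₀ _ fun i => ?_
    rw [← Category.assoc, hk, hq, whiskerRight_fst_assoc]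
    simp only [t₀, Category.assoc]
  simp [h1]

end GrothLib.Torsor21
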