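import Groth.Agent.Lib.Torsor21.PointedPair
import Groth.Agent.Lib.FlatCx.Up
import Groth.Agent.Lib.GrpdQuot.QuotSheaf
import Groth.Agent.S18318
import Mathlib.RingTheory.Flat.Localization

/-!
# The fibre product of pointed morphisms of finite torsors over a reduced base is a torsor
-/

set_option autoImplicit false
set_option backward.isDefEq.respectTransparency false
set_option backward.isDefEq.respectTransparency.types false
set_option linter.style.haveILetI false

universe u

open CategoryTheory CategoryTheory.Limits AlgebraicGeometry MonoidalCategory CartesianMonoidalCategory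
open TensorProduct
open GrothLib.RepLocal

namespace GrothLib.Torsor21

theorem finrank_eq_of_iso_spec {L D D' : Type u} [Field L] [CommRing D] [Algebra L D] [CommRing D'] [Algebra L D']
    (e : Spec (CommRingCat.of D) ≅ Spec (CommRingCat.of D'))
    (he : e.hom ≫ Spec.map (CommRingCat.ofHom (algebraMap L D')) = Spec.map (CommRingCat.ofHom (algebraMap L D))) :
    Module.finrank L D = Module.finrank L D' := by
  let θ : CommRingCat.of D' ⟶ CommRingCat.of D := Spec.preimage e.hom
  let θ' : CommRingCat.of D ⟶ CommRingCat.of D' := Spec.preimage e.inv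
  have h1 : θ ≫ θ' = 𝟙 _ := Spec.map_injective (by
    rw [Spec.map_comp, Spec.map_preimage, Spec.map_preimage, Spec.map_id, Iso.inv_hom_id])
  have h2 : θ' ≫ θ = 𝟙 _ := Spec.map_injective (by
    rw [Spec.map_comp, Spec.map_preimage, Spec.map_preimage, Spec.map_id, Iso.hom_inv_id])
  have h3 : CommRingCat.ofHom (algebraMap L D') ≫ θ = CommRingCat.ofHom (algebraMap L D) := Spec.map_injective (by
    rw [Spec.map_comp, Spec.map_preimage]; exact he)
  let f : D' ≃ₐ[L] D :=
    { θ.hom with
      invFun := θ'.hom
      left_inv := fun x => congr(($h1).hom x)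
      right_inv := fun x => congr(($h2).hom x)
      commutes' := fun r => congr(($h3).hom r) }
  exact f.symm.toLinearEquiv.finrank_eq

set_option maxHeartbeats 1000000 in
/-- A finite morphism to a reduced scheme with constant fibre rank is flat. -/
theorem flat_of_fibre_rank {X Y : Scheme.{u}} [AlgebraicGeometry.IsReduced X] (f : Y ⟶ X) [IsFinite f] (N : ℕ)
    (h : ∀ (K : Type u) [Field K] (ζ : Spec (CommRingCat.of K) ⟶ X),
      ∃ (L : Type u) (_ : Field L) (_ : Algebra K L), ∀ (D : Type u) [CommRing D] [Algebra L D]
        (a : Spec (CommRingCat.of D) ⟶ Y),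
        IsPullback a (Spec.map (CommRingCat.ofHom (algebraMap L D))) f
          (Spec.map (CommRingCat.ofHom (algebraMap K L)) ≫ ζ) → Module.finrank L D = N) :
    Flat f := by
  have key : ∀ (W : X.Opens) (hW : IsAffineOpen W), Flat (Spec.map (f.app W)) := by
    intro W hW
    let A : CommRingCat := Γ(X, W)
    let B : CommRingCat := Γ(Y, f ⁻¹ᵁ W)
    have sq := GrothLib.FEt21.isPullback_app f hW
    letI : Algebra A B := (f.app W).hom.toAlgebra
    haveI : Module.Finite A B := f.finite_app W hW
    haveI : _root_.IsReduced A := inferInstanceAs (_root_.IsReduced Γ(X, W))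
    have hflat : Module.Flat A B := by
      refine Module.flat_of_localized_maximal (B : Type u) fun p _ => ?_
      let Ap := Localization.AtPrime p
      haveI : _root_.IsReduced Ap := isReduced_localizationPreserves p.primeCompl Ap inferInstance
      let M := Ap ⊗[A] (B : Type u)
      have hdim : ∀ q : PrimeSpectrum Ap,
          Module.finrank q.asIdeal.ResidueField (q.asIdeal.ResidueField ⊗[Ap] M) = N := by
        intro q
        let K := q.asIdeal.ResidueField
        rw [(TensorProduct.AlgebraTensorModule.cancelBaseChange A Ap K K (B : Type u)).finrank_eq]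
        let ζ : Spec (CommRingCat.of K) ⟶ X := Spec.map (CommRingCat.ofHom (algebraMap A K)) ≫ hW.fromSpec
        obtain ⟨L, _, _, hL⟩ := h K ζ
        letI : Algebra A L := ((algebraMap K L).comp (algebraMap A K)).toAlgebra
        haveI : IsScalarTower A K L := IsScalarTower.of_algebraMap_eq fun _ => rfl
        have h1 := hL (L ⊗[A] (B : Type u))
          (Spec.map (CommRingCat.ofHom (Algebra.TensorProduct.includeRight : (B : Type u) →ₐ[A] L ⊗[A] (B : Type u)).toRingHom) ≫ (hW.preimage f).fromSpec) (by
            have h2 := (isPullback_SpecMap_of_isPushout _ _ _ _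
              ((CommRingCat.isPushout_tensorProduct A L B).flip)).paste_horiz sq
            refine h2.of_iso (Iso.refl _) (Iso.refl _) (Iso.refl _) (Iso.refl _) ?_ ?_ ?_ ?_
            · simp
            · simp; rfl
            · simp
            · simp only [Iso.refl_hom, Category.id_comp, Category.comp_id, ζ]
              rw [← Category.assoc, ← Spec.map_comp]
              rfl)
        rw [← h1]
        exact (Module.finrank_baseChange (R := L) (M' := K ⊗[A] (B : Type u))).symm.trans
          (TensorProduct.AlgebraTensorModule.cancelBaseChange A K L L (B : Type u)).finrank_eq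
      haveI : Module.Free Ap M := GrothLib.FlatCx.free_of_finrank_eq_minimal M fun q _ =>
        (hdim q).trans (hdim _).symm
      haveI : Module.Flat A M := Module.Flat.trans A Ap M
      exact Module.Flat.of_linearEquiv ((LocalizedModule.equivTensorProduct p.primeCompl (B : Type u)).restrictScalars A)
    exact (HasRingHomProperty.Spec_iff (P := @Flat)).2 hflat
  rw [IsZariskiLocalAtTarget.iff_of_openCover (P := @Flat) X.affineCover]
  intro i
  let c := X.affineCover.f i
  let W := c.opensRange
  have hW : IsAffineOpen W := isAffineOpen_opensRange c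
  have hr : Set.range c ⊆ Set.range hW.fromSpec := by rw [hW.range_fromSpec]; exact subset_rfl
  let ρ := IsOpenImmersion.lift hW.fromSpec c hr
  have hρ : ρ ≫ hW.fromSpec = c := IsOpenImmersion.lift_fac _ _ _
  have sq := GrothLib.FEt21.isPullback_app f hW
  let e := sq.lift (pullback.fst f c) (pullback.snd f c ≫ ρ) (by rw [Category.assoc, hρ]; exact pullback.condition)
  have h' : IsPullback e (pullback.snd f c) (Spec.map (f.app W)) ρ := by
    refine IsPullback.of_right (h₁₂ := (hW.preimage f).fromSpec) ?_ (sq.lift_snd _ _ _) sq
    rw [sq.lift_fst, hρ]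
    exact IsPullback.of_hasPullback _ _
  exact MorphismProperty.of_isPullback (P := @Flat) h' (key W hW)

end GrothLib.Torsor21
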