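import Groth.Agent.Lib.Torsor21.RationalSection
import Groth.Agent.Lib.FEt21.RelAffine
import Groth.Agent.Lib.FEt21.Affine
import Groth.Prelude.Def_ActBC
import Mathlib.AlgebraicGeometry.Morphisms.UniversallyOpen
import Mathlib.Topology.Separation.Connected

/-!
# Fibre products of pointed morphisms of torsors under finite groups
-/

set_option autoImplicit false
set_option backward.isDefEq.respectTransparency false
set_option backward.isDefEq.respectTransparency.types false
set_option linter.style.haveILetI false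

universe u

open CategoryTheory CategoryTheory.Limits AlgebraicGeometry MonoidalCategory CartesianMonoidalCategory MonObj
open GrothLib.RepLocal

namespace GrothLib.Torsor21

variable {k : Type u} [Field k] {X : Scheme.{u}}

/-- A torsor under a finite group over a field is finite, flat and of finite presentation. -/
theorem torsor_props (s : X ⟶ Spec (CommRingCat.of k)) {G : Over (Spec (CommRingCat.of k))} [GrpObj G]
    [IsFinite G.hom] {T : Over X} {a : AlgGrp.Action (Red.bc s G) T}
    (hT : NonAbH1.IsTorsorFor Scheme.fppfPrecoverage a) :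
    IsFinite T.hom ∧ Flat T.hom ∧ LocallyOfFinitePresentation T.hom := by
  haveI : IsFinite (Red.bc s G).hom := inferInstanceAs (IsFinite (pullback.snd G.hom s))
  haveI : LocallyOfFinitePresentation G.hom :=
    LocallyOfFinitePresentation.iff_locallyOfFiniteType.2 inferInstance
  haveI : LocallyOfFinitePresentation (Red.bc s G).hom :=
    inferInstanceAs (LocallyOfFinitePresentation (pullback.snd G.hom s))
  haveI : Flat (Red.bc s G).hom := inferInstanceAs (Flat (pullback.snd G.hom s))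
  haveI : MorphismProperty.DescendsAlong @Flat (@Surjective ⊓ @Flat ⊓ @QuasiCompact : MorphismProperty Scheme.{u}) :=
    HasRingHomProperty.descendsAlong_flat (P := @Flat) GrothLib.AlgSp.codescendsAlong_flat
  exact ⟨isFinite_hom hT, property @Flat (isTorsorFor_fpqc hT) inferInstance,
    property @LocallyOfFinitePresentation (isTorsorFor_fpqc hT) inferInstance⟩

variable (s : X ⟶ Spec (CommRingCat.of k))
  {G G₁ G₂ : Over (Spec (CommRingCat.of k))} [GrpObj G] [GrpObj G₁] [GrpObj G₂] [IsFinite G.hom]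
  {φ₁ : G₁ ⟶ G} {φ₂ : G₂ ⟶ G} [IsMonHom φ₁] [IsMonHom φ₂]
  {T T₁ T₂ : Over X} {a : AlgGrp.Action (Red.bc s G) T}
  {a₁ : AlgGrp.Action (Red.bc s G₁) T₁} {a₂ : AlgGrp.Action (Red.bc s G₂) T₂}

/-- The unit point of `G`. -/
noncomputable def unitPt (G : Over (Spec (CommRingCat.of k))) [GrpObj G] :
    Spec (CommRingCat.of k) ⟶ G.left :=
  (1 : Over.mk (𝟙 _) ⟶ G).left

theorem unitPt_hom (G : Over (Spec (CommRingCat.of k))) [GrpObj G] : unitPt G ≫ G.hom = 𝟙 _ :=
  Over.w (1 : Over.mk (𝟙 _) ⟶ G)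

theorem bc_one_left {R : Over X} :
    (1 : R ⟶ Red.bc s G).left ≫ pullback.fst G.hom s = (R.hom ≫ s) ≫ unitPt G := by
  have h := (Over.mapPullbackAdj s).homEquiv R G |>.symm_apply_apply (1 : (Over.map s).obj R ⟶ G)
  have e : (Over.mapPullbackAdj s).homEquiv R G 1 = 1 := by
    have h1 := AlgGrp.Action.homEquiv_mul (f := s) (G := G) (T' := R) 1 1
    rw [_root_.one_mul] at h1
    exact left_eq_mul.1 h1
  rw [e, Adjunction.homEquiv_counit] at h
  have h2 := congrArg (fun z : (Over.map s).obj R ⟶ G => z.left) h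
  rw [show (1 : (Over.map s).obj R ⟶ G).left = (R.hom ≫ s) ≫ unitPt G from ?_] at h2
  · simpa using h2
  · let p : (Over.map s).obj R ⟶ Over.mk (𝟙 _) := Over.homMk (R.hom ≫ s) (Category.comp_id _)
    rw [← MonObj.comp_one (f := p)]
    rfl

include s in
/-- Pointed morphisms of torsors agree somewhere above every point of a connected base. -/
theorem exists_agree [ConnectedSpace X] [IsFinite G₁.hom] [IsFinite G₂.hom]
    (hT : NonAbH1.IsPseudoTorsorSch a) (hT₁ : NonAbH1.IsTorsorFor Scheme.fppfPrecoverage a₁)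
    (hT₂ : NonAbH1.IsTorsorFor Scheme.fppfPrecoverage a₂) (f₁ : T₁ ⟶ T) (f₂ : T₂ ⟶ T)
    (x : Spec (CommRingCat.of k) ⟶ X)
    (t₁ : Spec (CommRingCat.of k) ⟶ T₁.left) (t₂ : Spec (CommRingCat.of k) ⟶ T₂.left)
    (ht₁ : t₁ ≫ T₁.hom = x) (ht₂ : t₂ ≫ T₂.hom = x) (hagree : t₁ ≫ f₁.left = t₂ ≫ f₂.left)
    {K : Type u} [Field K] (ζ : Spec (CommRingCat.of K) ⟶ X) :
    ∃ (L : Type u) (_ : Field L) (_ : Algebra K L)
      (r₁ : Over.mk (Spec.map (CommRingCat.ofHom (algebraMap K L)) ≫ ζ) ⟶ T₁)
      (r₂ : Over.mk (Spec.map (CommRingCat.ofHom (algebraMap K L)) ≫ ζ) ⟶ T₂), r₁ ≫ f₁ = r₂ ≫ f₂ := by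
  obtain ⟨hfin₁, hflat₁, hfp₁⟩ := torsor_props s hT₁
  obtain ⟨hfin₂, hflat₂, hfp₂⟩ := torsor_props s hT₂
  obtain ⟨g, hg⟩ := TorsorDesc.exists_act_eq hT (fst T₁ T₂ ≫ f₁) (snd T₁ T₂ ≫ f₂)
  let δ : (T₁ ⊗ T₂).left ⟶ G.left := g.left ≫ pullback.fst G.hom s
  let e₀ := unitPt G
  haveI : IsClosedImmersion e₀ := by
    haveI : IsClosedImmersion (e₀ ≫ G.hom) := by rw [unitPt_hom]; infer_instance
    exact IsClosedImmersion.of_comp e₀ G.hom
  haveI : DiscreteTopology G.left := by
    haveI : IsAffine G.left := isAffine_of_isAffineHom G.hom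
    haveI : IsFinite (G.left.isoSpec.inv ≫ G.hom) := inferInstance
    let f := Spec.preimage (G.left.isoSpec.inv ≫ G.hom)
    haveI : IsFinite (Spec.map f) := by rw [Spec.map_preimage]; infer_instance
    letI := f.hom.toAlgebra
    haveI : Module.Finite k Γ(G.left, ⊤) := (IsFinite.SpecMap_iff f).1 inferInstance
    haveI : IsArtinianRing Γ(G.left, ⊤) := IsArtinianRing.of_finite k _
    haveI : DiscreteTopology (Spec Γ(G.left, ⊤)) :=
      inferInstanceAs (DiscreteTopology (PrimeSpectrum Γ(G.left, ⊤)))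
    exact G.left.isoSpec.hom.homeomorph.symm.discreteTopology
  let Z : Set (T₁ ⊗ T₂).left := δ ⁻¹' {e₀ (IsLocalRing.closedPoint k)}
  have hZ : IsClopen Z := (isClopen_discrete _).preimage δ.continuous
  let q : (T₁ ⊗ T₂).left ⟶ X := (T₁ ⊗ T₂).hom
  haveI : IsFinite q := inferInstanceAs (IsFinite (pullback.fst T₁.hom T₂.hom ≫ T₁.hom))
  haveI : Flat q := inferInstanceAs (Flat (pullback.fst T₁.hom T₂.hom ≫ T₁.hom))
  haveI : LocallyOfFinitePresentation q :=
    inferInstanceAs (LocallyOfFinitePresentation (pullback.fst T₁.hom T₂.hom ≫ T₁.hom))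
  have himg : IsClopen (q '' Z) := ⟨q.isClosedMap _ hZ.1, q.isOpenMap _ hZ.2⟩
  have huniv : q '' Z = Set.univ := by
    refine himg.eq_univ ?_
    let pt : Over X := Over.mk x
    let w : pt ⟶ T₁ ⊗ T₂ := lift (Over.homMk t₁ ht₁) (Over.homMk t₂ ht₂)
    refine ⟨_, w.left (IsLocalRing.closedPoint k), ?_, rfl⟩
    have hw : w ≫ g = 1 := by
      refine TorsorDesc.act_left_injective hT (p := (Over.homMk t₂ ht₂ : pt ⟶ T₂) ≫ f₂) ?_
      rw [a.lift_one_act]
      have h1 := congrArg (w ≫ ·) hg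
      simp only [comp_lift_assoc, w, lift_fst_assoc, lift_snd_assoc] at h1
      rw [h1]
      exact Over.OverMorphism.ext hagree
    show δ (w.left _) = e₀ _
    rw [← Scheme.Hom.comp_apply]
    have : w.left ≫ δ = (x ≫ s) ≫ e₀ := by
      rw [← Category.assoc, ← Over.comp_left, hw]
      exact bc_one_left s
    rw [this, Scheme.Hom.comp_apply]
    exact congrArg e₀ (Subsingleton.elim _ _)
  let p₀ : Spec (CommRingCat.of K) := IsLocalRing.closedPoint K
  obtain ⟨w, hwZ, hwy⟩ : ζ p₀ ∈ q '' Z := huniv ▸ trivial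
  obtain ⟨v, hv, -⟩ := Scheme.Pullback.exists_preimage_pullback (f := q) (g := ζ) w p₀ hwy
  let W := pullback q ζ
  let L := W.residueField v
  let c : Spec L ⟶ W := W.fromSpecResidueField v
  let j : CommRingCat.of K ⟶ L := Spec.preimage (c ≫ pullback.snd q ζ)
  letI : Algebra K L := j.hom.toAlgebra
  have hj : Spec.map (CommRingCat.ofHom (algebraMap K L)) = c ≫ pullback.snd q ζ := Spec.map_preimage _
  let R : Over X := Over.mk (Spec.map (CommRingCat.ofHom (algebraMap K L)) ≫ ζ)
  let ρ : R ⟶ T₁ ⊗ T₂ := Over.homMk (c ≫ pullback.fst q ζ) (by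
    show (c ≫ _) ≫ q = Spec.map (CommRingCat.ofHom (algebraMap K L)) ≫ ζ
    rw [hj, Category.assoc, Category.assoc, pullback.condition])
  refine ⟨L, inferInstance, inferInstance, ρ ≫ fst T₁ T₂, ρ ≫ snd T₁ T₂, ?_⟩
  have hρ : ρ ≫ g = 1 := by
    ext1
    apply pullback.hom_ext
    · rw [bc_one_left]
      show (ρ.left ≫ g.left) ≫ pullback.fst G.hom s = _
      rw [Category.assoc]
      show ρ.left ≫ δ = _
      let m := ρ.left ≫ δ
      have hm : ∀ z, m z = e₀ (IsLocalRing.closedPoint k) := fun z => by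
        show δ (pullback.fst q ζ (c z)) = _
        rw [Scheme.fromSpecResidueField_apply, hv]
        exact hwZ
      haveI : Surjective (pullback.snd e₀ m) := ⟨fun z => by
        obtain ⟨u, -, hu⟩ := Scheme.Pullback.exists_preimage_pullback (f := e₀) (g := m) _ z (hm z).symm
        exact ⟨u, hu⟩⟩
      haveI : AlgebraicGeometry.IsReduced R.left := inferInstanceAs (AlgebraicGeometry.IsReduced (Spec L))
      haveI : IsIso (pullback.snd e₀ m) := isIso_of_isClosedImmersion_of_surjective _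
      let l := inv (pullback.snd e₀ m) ≫ pullback.fst e₀ m
      have hl : l ≫ e₀ = m := by
        rw [Category.assoc, pullback.condition, IsIso.inv_hom_id_assoc]
      have hl' : l = R.hom ≫ s := by
        have := congrArg (· ≫ G.hom) hl
        simp only [Category.assoc, e₀, unitPt_hom, Category.comp_id] at this
        rw [this]
        show ρ.left ≫ (g.left ≫ pullback.fst G.hom s) ≫ G.hom = _
        rw [Category.assoc, pullback.condition, ← Category.assoc, ← Category.assoc, ← Over.comp_left]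
        exact congrArg (· ≫ s) (Over.w (ρ ≫ g))
      show m = _
      rw [← hl, hl']
    · exact (Over.w (ρ ≫ g)).trans (Over.w (1 : R ⟶ Red.bc s G)).symm
  have h1 := congrArg (ρ ≫ ·) hg
  simp only [comp_lift_assoc, hρ, a.lift_one_act] at h1
  rw [Category.assoc, Category.assoc]
  exact h1.symm

end GrothLib.Torsor21
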